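import Cfsg.Agent.GH.Cov.SzCover
import Cfsg.Agent.OddHalf.D4.EvenCyc
import Cfsg.Agent.OddHalf.D9.Cut
import Cfsg.Agent.OddHalf.D4.Cut
import Cfsg.Agent.OddHalf.D9.L34.RowAny
import Mathlib
import Cfsg.Agent.OddHalf.D9.TwoM12.Bad
import Cfsg.Agent.OddHalf.D9.TwoM12.KFacts
import Cfsg.Agent.SporRec.SuzCl.Inv
import Cfsg.Agent.KFacts.SuzInvol
import Cfsg.Agent.KFacts.SuzLift.Two
import Cfsg.Agent.OddHalf.D9.RankTwo.Core
import Cfsg.Agent.OddHalf.Small.RowsFull
import Cfsg.Agent.OddHalf.Small.M24Char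
import Cfsg.Agent.OddHalf.Table.RuInvConj
import Cfsg.Agent.KFacts.RuDbl.One
import Cfsg.Agent.OddHalf.Table.OutRu
import Cfsg.Agent.OddHalf.Table.RuInv
import Cfsg.Agent.OddHalf.D9.J2.Row
import Cfsg.Agent.OddHalf.D9.J2.PFacts
import Cfsg.Agent.OddHalf.D4.Spor.TwoCo1
import Cfsg.Agent.OddHalf.D4.M22.Main
import Cfsg.Agent.OddHalf.D4.EvenF42
import Cfsg.Agent.OddHalf.D4.EvenEEight
import Cfsg.Agent.OddHalf.D9.EEight.RowFinal
import Cfsg.Agent.OddHalf.D9.G24.Final
import Cfsg.Agent.OddHalf.D9.RankTwo.RowsD4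
import Cfsg.Agent.OddHalf.D9.RankTwo.RowsU
import Cfsg.Agent.OddHalf.D9.GamE6Inst
import Cfsg.Agent.OddHalf.D9.GamO8
import Cfsg.Agent.KFacts.Mult.OEightInner
import Cfsg.Agent.KFacts.Mult.TwESixInner

-- merged: Cfsg.Agent.OddHalf.D4.EvenSz
section

/-!
# ODD half, node D4, covers of the Suzuki groups: the facts (P1), (P2)

`K` perfect, `K / Z(K) ≅ Sz(q)`, `Z(K)` with exactly one involution (any `q`, no multiplier facts).

* `p1`: commuting is not needed: `α, β` involutory automorphisms with `C_K(α) ≤ C_K(β)` are equal;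
* `p2`: for every involutory automorphism `α` there is `x` with `α(x)⁻¹ x` a noncentral involution (an element of
  order 2 modulo nothing).
-/

set_option autoImplicit false
set_option linter.unusedSectionVars false
set_option linter.style.haveILetI false
set_option linter.unusedVariables false

namespace Cfsg.Agent.OddHalf.D4.EvenSz

open scoped commutatorElement
open Cfsg.Agent.StdSz Cfsg.Agent.StdSz.FormAlg Cfsg.Agent.StdSz.BorelCoord Cfsg.Agent.StdSz.CoverA
open Cfsg.Agent.StdSz.CoverC Cfsg.Agent.GH.Cov.SzCover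
open Cfsg.Agent.LieRecognition Cfsg.Agent

variable {A : Type*} [Group A] [Finite A] {F : Type*} [Field F] [Fintype F] {m : ℕ}

/-- the centraliser in `Sz(q)` of `p 0 c`: an element of order at most 2 in it is a `p 0 d`. -/
theorem cent_p (hm : 1 ≤ m) (hF : Fintype.card F = 2 ^ (2 * m + 1)) {c : F} (hc : c ≠ 0)
    {y : ↥(Cfsg.Lie.Sz F (2 ^ (m + 1)))} (hy : y * (szData hF).p 0 c = (szData hF).p 0 c * y)
    (hyy : y * y = 1) : ∃ d, y = (szData hF).p 0 d := by
  haveI := EquivMaps.charP_two hF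
  let R : ThreePrime.SzRel.Rel ↥(Cfsg.Lie.Sz F (2 ^ (m + 1))) F :=
    ThreePrime.SzRel.ofGood (SzMatrix.good hF)
  have hp : ∀ d : F, (szData hF).p 0 d = R.u 0 d := by
    intro d
    show (SzMatrix.good hF).u 0 (d + 0 * SzMatrix.theta hF 0) = (SzMatrix.good hF).u 0 d
    rw [zero_mul, add_zero]
  have h1 : y * R.u 0 c * y⁻¹ = R.u 0 c := by
    rw [← hp, hy, mul_inv_cancel_right]
  have hne : R.u 0 c ≠ 1 := R.u_ne_one hc
  obtain ⟨a, b, k, rfl⟩ := R.exists_ud (R.u_mem 0 c) hne (by rw [h1]; exact R.u_mem _ _)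
  have h2 : R.d k * R.u 0 c * (R.d k)⁻¹ = R.u 0 c := by
    have h3 : R.u a b * (R.d k * R.u 0 c * (R.d k)⁻¹) * (R.u a b)⁻¹ = R.u 0 c := by
      have h6 : R.u a b * (R.d k * R.u 0 c * (R.d k)⁻¹) * (R.u a b)⁻¹ =
          R.u a b * R.d k * R.u 0 c * (R.u a b * R.d k)⁻¹ := by group
      rw [h6, h1]
    have h4 : R.u a b * R.u 0 c * (R.u a b)⁻¹ = R.u 0 c := by
      have h5 : R.u a b * R.u 0 c = R.u 0 c * R.u a b := by
        rw [R.comm_iff, map_zero, mul_zero, zero_mul]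
      rw [h5, mul_inv_cancel_right]
    calc R.d k * R.u 0 c * (R.d k)⁻¹
        = (R.u a b)⁻¹ * (R.u a b * (R.d k * R.u 0 c * (R.d k)⁻¹) * (R.u a b)⁻¹) * R.u a b := by group
      _ = (R.u a b)⁻¹ * (R.u a b * R.u 0 c * (R.u a b)⁻¹) * R.u a b := by rw [h3, h4]
      _ = R.u 0 c := by group
  have hk : k = 1 := by
    rcases R.fpf h2 with h | h
    · exact h
    · exact absurd h.2 hc
  subst hk
  rw [R.d_one, mul_one] at hyy ⊢
  have ha := (R.u_sq_iff a b).mp hyy
  subst ha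
  exact ⟨b, (hp b).symm⟩

/-- an involution of `Sz(q)` is conjugate to some `p 0 c`. -/
theorem exists_conj_p (hm : 1 ≤ m) (hF : Fintype.card F = 2 ^ (2 * m + 1))
    {y : ↥(Cfsg.Lie.Sz F (2 ^ (m + 1)))} (hyy : y * y = 1) (hy : y ≠ 1) :
    ∃ g c, c ≠ 0 ∧ g * y * g⁻¹ = (szData hF).p 0 c := by
  haveI := EquivMaps.charP_two hF
  haveI : Fact (Nat.Prime 2) := ⟨Nat.prime_two⟩
  let R : ThreePrime.SzRel.Rel ↥(Cfsg.Lie.Sz F (2 ^ (m + 1))) F :=
    ThreePrime.SzRel.ofGood (SzMatrix.good hF)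
  have hp : ∀ d : F, (szData hF).p 0 d = R.u 0 d := by
    intro d
    show (SzMatrix.good hF).u 0 (d + 0 * SzMatrix.theta hF 0) = (SzMatrix.good hF).u 0 d
    rw [zero_mul, add_zero]
  obtain ⟨Sy, hSy⟩ := R.exists_sylow_eq hm hF
  have h2 : IsPGroup 2 (Subgroup.zpowers y) :=
    CoverB.isPGroup_zpowers (k := 1) (by rw [pow_one, sq, hyy])
  obtain ⟨Q, hQ⟩ := h2.exists_le_sylow
  obtain ⟨g, hg⟩ := MulAction.exists_smul_eq ↥(Cfsg.Lie.Sz F (2 ^ (m + 1))) Q Sy
  have h3 : g * y * g⁻¹ ∈ R.T := by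
    rw [← hSy, ← hg, Sylow.coe_subgroup_smul]
    exact Subgroup.smul_mem_pointwise_smul y (MulAut.conj g) _ (hQ (Subgroup.mem_zpowers y))
  obtain ⟨a, b, hab⟩ := h3
  have h4 : R.u a b * R.u a b = 1 := by
    rw [← hab]
    calc g * y * g⁻¹ * (g * y * g⁻¹) = g * (y * y) * g⁻¹ := by group
      _ = 1 := by rw [hyy]; group
  have ha := (R.u_sq_iff a b).mp h4
  subst ha
  refine ⟨g, b, ?_, by rw [hp]; exact hab⟩
  rintro rfl
  rw [R.u_zero] at hab
  apply hy
  calc y = g⁻¹ * (g * y * g⁻¹) * g := by group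
    _ = 1 := by rw [hab]; group

/-- The data of the cover. -/
theorem exists_data (hp : commutator A = ⊤) (hm : 1 ≤ m) (hF : Fintype.card F = 2 ^ (2 * m + 1))
    (e : A ⧸ Subgroup.center A ≃* ↥(Cfsg.Lie.Sz F (2 ^ (m + 1)))) {t : A} (ht1 : t ≠ 1)
    (ht : t * t = 1) (htc : t ∈ Subgroup.center A)
    (hu : ∀ z ∈ Subgroup.center A, z * z = 1 → z = 1 ∨ z = t) :
    ∃ (π : A →* ↥(Cfsg.Lie.Sz F (2 ^ (m + 1)))) (P : Subgroup A) (zh : F → A),
      Function.Surjective π ∧ (∀ x : A, π x = 1 ↔ x ∈ Subgroup.center A) ∧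
      Cov (szData hF) π P t ∧ Cov.IsZh (szData hF) π P zh ∧
      (∀ x ∈ P, ∀ c, ⁅x, zh c⁆ = 1 ∨ ⁅x, zh c⁆ = t) ∧ ∀ c, c ≠ 0 → ∃ x ∈ P, ⁅x, zh c⁆ = t := by
  haveI := EquivMaps.charP_two hF
  obtain ⟨π, P, B⟩ := exists_base hm hF e
  have K := B.cov ht1 ht htc hu
  have hcom : (⟨t, K.t_mem⟩ : P) ∈ commutator P :=
    mem_commutator_of_central P B.odd t K.t_mem (fun g => (Subgroup.mem_center_iff.mp htc g).symm)
      ht (by rw [hp]; exact Subgroup.mem_top _)
  obtain ⟨zh, Z, h1, -, h2⟩ := K.main hm hF hcom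
  exact ⟨π, P, zh, B.surj, B.ker, K, Z, h1, h2⟩

/-- **(P1)**: an involutory automorphism is determined by its centraliser, and centralisers of involutory automorphisms
are maximal among each other. -/
theorem p1 (hp : commutator A = ⊤) (hm : 1 ≤ m) (hF : Fintype.card F = 2 ^ (2 * m + 1))
    (e : A ⧸ Subgroup.center A ≃* ↥(Cfsg.Lie.Sz F (2 ^ (m + 1)))) {t : A} (ht1 : t ≠ 1)
    (ht : t * t = 1) (htc : t ∈ Subgroup.center A)
    (hu : ∀ z ∈ Subgroup.center A, z * z = 1 → z = 1 ∨ z = t) {α β : MulAut A} (hα : α * α = 1)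
    (hα1 : α ≠ 1) (hβ : β * β = 1) (hβ1 : β ≠ 1) (hle : ∀ x, α x = x → β x = x) : α = β := by
  haveI := EquivMaps.charP_two hF
  obtain ⟨π, P, zh, hsurj, hker, K, Z, hval, hex⟩ := exists_data hp hm hF e ht1 ht htc hu
  obtain ⟨a, ha⟩ := exists_inner hp hm hF e α (k := 1) (by rw [pow_one, sq, hα])
  obtain ⟨b, hb⟩ := exists_inner hp hm hF e β (k := 1) (by rw [pow_one, sq, hβ])
  -- `a, b` are noncentral, with central squares
  have hsq : ∀ (γ : MulAut A) (g : A), γ * γ = 1 → (∀ x, γ x = g * x * g⁻¹) → π g * π g = 1 := by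
    intro γ g h1 h2
    rw [← map_mul, hker, Subgroup.mem_center_iff]
    intro x
    have h3 : γ (γ x) = x := by
      rw [← MulAut.mul_apply, h1]; rfl
    rw [h2, h2] at h3
    have h4 : g * (g * x * g⁻¹) * g⁻¹ = (g * g) * x * (g * g)⁻¹ := by group
    rw [h4] at h3
    calc x * (g * g) = ((g * g) * x * (g * g)⁻¹) * (g * g) := by rw [h3]
      _ = g * g * x := by group
  have hne : ∀ (γ : MulAut A) (g : A), γ ≠ 1 → (∀ x, γ x = g * x * g⁻¹) → π g ≠ 1 := by
    intro γ g h1 h2 h3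
    apply h1
    ext x
    rw [h2, MulAut.one_apply, ← Subgroup.mem_center_iff.mp ((hker g).mp h3) x, mul_inv_cancel_right]
  have hcomm : ∀ x, x * a = a * x → x * b = b * x := by
    intro x hx
    have h1 : α x = x := by rw [ha, ← hx, mul_inv_cancel_right]
    have h2 := hle x h1
    rw [hb] at h2
    calc x * b = (b * x * b⁻¹) * b := by rw [h2]
      _ = b * x := by group
  obtain ⟨g0, c, hc, hg0⟩ := exists_conj_p hm hF (hsq α a hα ha) (hne α a hα1 ha)
  obtain ⟨g, rfl⟩ := hsurj g0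
  -- conjugates
  set a' := g * a * g⁻¹ with ha'
  set b' := g * b * g⁻¹ with hb'
  have hπa : π a' = (szData hF).p 0 c := by rw [ha', map_mul, map_mul, map_inv]; exact hg0
  have hcomm' : ∀ x, x * a' = a' * x → x * b' = b' * x := by
    intro x hx
    have h1 : (g⁻¹ * x * g) * a = a * (g⁻¹ * x * g) := by
      calc (g⁻¹ * x * g) * a = g⁻¹ * (x * a') * g := by rw [ha']; group
        _ = g⁻¹ * (a' * x) * g := by rw [hx]
        _ = a * (g⁻¹ * x * g) := by rw [ha']; group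
    have h2 := hcomm _ h1
    calc x * b' = g * ((g⁻¹ * x * g) * b) * g⁻¹ := by rw [hb']; group
      _ = g * (b * (g⁻¹ * x * g)) * g⁻¹ := by rw [h2]
      _ = b' * x := by rw [hb']; group
  have hab : a' * b' = b' * a' := hcomm' a' rfl
  have hbb : π b' * π b' = 1 := by
    have h1 := hsq β b hβ hb
    rw [hb', map_mul, map_mul, map_inv]
    calc π g * π b * (π g)⁻¹ * (π g * π b * (π g)⁻¹) = π g * (π b * π b) * (π g)⁻¹ := by group
      _ = 1 := by rw [h1]; group
  obtain ⟨d, hd⟩ := cent_p hm hF hc (y := π b') (by rw [← hπa, ← map_mul, ← map_mul, hab]) hbb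
  have hd0 : d ≠ 0 := by
    rintro rfl
    rw [(szData hF).p_zero] at hd
    apply hne β b hβ1 hb
    calc π b = (π g)⁻¹ * π b' * π g := by rw [hb', map_mul, map_mul, map_inv]; group
      _ = 1 := by rw [hd]; group
  -- functionals
  have hfa : ∀ x : A, ⁅x, zh c⁆ = ⁅x, a'⁆ := fun x => K.comm_eq rfl (by rw [Z.pi, hπa])
  have hfb : ∀ x : A, ⁅x, zh d⁆ = ⁅x, b'⁆ := fun x => K.comm_eq rfl (by rw [Z.pi, hd])
  have himp : ∀ x : A, ⁅x, zh c⁆ = 1 → ⁅x, zh d⁆ = 1 := by
    intro x hx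
    rw [hfb, commutatorElement_eq_one_iff_mul_comm]
    rw [hfa, commutatorElement_eq_one_iff_mul_comm] at hx
    exact hcomm' x hx
  have hkt : ∀ x ∈ P, ∀ c, π ⁅x, zh c⁆ = 1 := by
    intro x hx c
    rcases hval x hx c with h | h
    · rw [h, map_one]
    · rw [h, K.t_ker]
  have hcd : c = d := by
    by_contra hcd
    have h1 : c + d ≠ 0 := fun h => hcd (CharTwo.add_eq_zero.mp h)
    obtain ⟨x, hx, hxt⟩ := hex _ h1
    rw [Z.add, K.cr (hkt x hx d)] at hxt
    have hxc : ⁅x, zh c⁆ = t ∧ ⁅x, zh d⁆ = 1 := by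
      rcases hval x hx c with h | h
      · exfalso
        rw [h, himp x h, one_mul] at hxt
        exact K.t_one hxt.symm
      · refine ⟨h, ?_⟩
        rw [h] at hxt
        exact mul_eq_left.mp hxt
    obtain ⟨y, hy, hyt⟩ := hex d hd0
    have hyc : ⁅y, zh c⁆ = t := by
      rcases hval y hy c with h | h
      · exfalso
        rw [himp y h] at hyt
        exact K.t_one hyt.symm
      · exact h
    have h2 : ⁅x * y, zh c⁆ = 1 := by
      rw [K.cl (hkt y hy c), hxc.1, hyc, K.t_sq]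
    have h3 := himp _ h2
    rw [K.cl (hkt y hy d), hxc.2, hyt, one_mul] at h3
    exact K.t_one h3
  subst hcd
  -- `a'` and `b'` agree modulo the centre
  have hcen : π (b⁻¹ * a) = 1 := by
    have h1 : π a' = π b' := by rw [hπa, hd]
    rw [ha', hb', map_mul, map_mul, map_mul, map_mul] at h1
    have h2 : π a = π b := by
      have := mul_right_cancel h1
      exact mul_left_cancel this
    rw [map_mul, map_inv, h2, inv_mul_cancel]
  ext x
  have h5 := Subgroup.mem_center_iff.mp ((hker _).mp hcen) x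
  rw [ha, hb]
  calc a * x * a⁻¹ = b * ((b⁻¹ * a) * x) * a⁻¹ := by group
    _ = b * (x * (b⁻¹ * a)) * a⁻¹ := by rw [h5]
    _ = b * x * b⁻¹ := by group

/-- **(P2)**: for an involutory automorphism `α` there is `x` with `α(x)⁻¹ x` a noncentral involution. -/
theorem p2 (hp : commutator A = ⊤) (hm : 1 ≤ m) (hF : Fintype.card F = 2 ^ (2 * m + 1))
    (e : A ⧸ Subgroup.center A ≃* ↥(Cfsg.Lie.Sz F (2 ^ (m + 1)))) {t : A} (ht1 : t ≠ 1)
    (ht : t * t = 1) (htc : t ∈ Subgroup.center A)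
    (hu : ∀ z ∈ Subgroup.center A, z * z = 1 → z = 1 ∨ z = t) {α : MulAut A} (hα : α * α = 1)
    (hα1 : α ≠ 1) :
    ∃ x : A, ((α x)⁻¹ * x) * ((α x)⁻¹ * x) = 1 ∧ (α x)⁻¹ * x ∉ Subgroup.center A := by
  haveI := EquivMaps.charP_two hF
  obtain ⟨π, P, zh, hsurj, hker, K, Z, hval, hex⟩ := exists_data hp hm hF e ht1 ht htc hu
  obtain ⟨a, ha⟩ := exists_inner hp hm hF e α (k := 1) (by rw [pow_one, sq, hα])
  have hsq : π a * π a = 1 := by
    rw [← map_mul, hker, Subgroup.mem_center_iff]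
    intro x
    have h3 : α (α x) = x := by
      rw [← MulAut.mul_apply, hα]; rfl
    rw [ha, ha] at h3
    have h4 : a * (a * x * a⁻¹) * a⁻¹ = (a * a) * x * (a * a)⁻¹ := by group
    rw [h4] at h3
    calc x * (a * a) = ((a * a) * x * (a * a)⁻¹) * (a * a) := by rw [h3]
      _ = a * a * x := by group
  have hne : π a ≠ 1 := by
    intro h3
    apply hα1
    ext x
    rw [ha, MulAut.one_apply, ← Subgroup.mem_center_iff.mp ((hker a).mp h3) x, mul_inv_cancel_right]
  obtain ⟨g0, c, hc, hg0⟩ := exists_conj_p hm hF hsq hne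
  obtain ⟨g, rfl⟩ := hsurj g0
  set a' := g * a * g⁻¹ with ha'
  have hπa : π a' = (szData hF).p 0 c := by rw [ha', map_mul, map_mul, map_inv]; exact hg0
  obtain ⟨l, hl⟩ := Cov.exists_unit_ne_one (F := F) hm hF
  obtain ⟨h, hh⟩ := K.tor l
  set w := (l : F) ^ (1 + 2 ^ (m + 1)) with hw
  -- `a' = s * zh c`
  set s := a' * (zh c)⁻¹ with hs
  have hs1 : π s = 1 := by rw [hs, map_mul, map_inv, hπa, Z.pi, mul_inv_cancel]
  have hsc := K.cen s hs1
  have ha2 : a' = s * zh c := by rw [hs]; group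
  have key : a' * (h * a'⁻¹ * h⁻¹) = zh (c + w * c) := by
    have h1 : h * a'⁻¹ * h⁻¹ = (h * zh c * h⁻¹)⁻¹ * s⁻¹ := by
      rw [ha2]
      have h2 : h * (s * zh c)⁻¹ * h⁻¹ = h * (zh c)⁻¹ * (s⁻¹ * h⁻¹) := by group
      have h3 : s⁻¹ * h⁻¹ = h⁻¹ * s⁻¹ := by
        have := hsc h
        calc s⁻¹ * h⁻¹ = (h * s)⁻¹ := by group
          _ = (s * h)⁻¹ := by rw [this]
          _ = h⁻¹ * s⁻¹ := by group
      rw [h2, h3]; group
    have h4 : (zh (w * c))⁻¹ = zh (w * c) := inv_eq_of_mul_eq_one_right (Z.sq _)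
    rw [h1, Z.conj h l hh c, ← hw, h4, ha2, Z.add]
    calc s * zh c * (zh (w * c) * s⁻¹) = s * (zh c * zh (w * c)) * s⁻¹ := by group
      _ = zh c * zh (w * c) := by rw [hsc, mul_inv_cancel_right]
  have hx : ((α (g⁻¹ * h⁻¹ * g))⁻¹ * (g⁻¹ * h⁻¹ * g)) = g⁻¹ * zh (c + w * c) * g := by
    rw [← key, ha, ha']; group
  have hnz : c + w * c ≠ 0 := by
    intro h0
    have h1 : (1 + w) * c = 0 := by rw [add_mul, one_mul]; exact h0
    rcases mul_eq_zero.mp h1 with h2 | h2
    · apply hl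
      exact (CharTwo.add_eq_zero.mp h2).symm
    · exact hc h2
  refine ⟨g⁻¹ * h⁻¹ * g, ?_, ?_⟩
  · rw [hx]
    calc g⁻¹ * zh (c + w * c) * g * (g⁻¹ * zh (c + w * c) * g)
        = g⁻¹ * (zh (c + w * c) * zh (c + w * c)) * g := by group
      _ = 1 := by rw [Z.sq]; group
  · rw [hx]
    intro h1
    have h2 : g * (g⁻¹ * zh (c + w * c) * g) = (g⁻¹ * zh (c + w * c) * g) * g :=
      Subgroup.mem_center_iff.mp h1 g
    have h3 : zh (c + w * c) = g⁻¹ * zh (c + w * c) * g := by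
      have h4 : g * (g⁻¹ * zh (c + w * c) * g) * g⁻¹ = zh (c + w * c) := by group
      rw [h2, mul_inv_cancel_right] at h4
      exact h4.symm
    rw [← h3] at h1
    have h5 := (hker _).mpr h1
    rw [Z.pi, ← (szData hF).p_zero] at h5
    exact hnz ((szData hF).p_inj _ _ _ _ h5).2

end Cfsg.Agent.OddHalf.D4.EvenSz

end

-- merged: Cfsg.Agent.OddHalf.D4.EvenSzRow
section

/-!
# ODD half, node D4: the covers of the Suzuki groups with cyclic centre

`facts`: `PairFree` (P1) and `SqDiff` (P2) for every finite perfect `K` with `Z(K) ≠ 1` a cyclic 2-group and `K / Z(K)` a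
Suzuki group; `row`: so `m₂(C(K)) ≤ 1` for a standard subgroup of this type.
-/

set_option autoImplicit false

namespace Cfsg.Agent.OddHalf.D4.EvenSzRow

open Cfsg Subgroup Cfsg.Agent.OddHalf Cfsg.Agent.OddHalf.D4

universe u

variable {K : Type u} [Group K] [Finite K]

/-- (P1), (P2), the centre with exactly one involution `t`. -/
theorem facts_of_uniq (hp : commutator K = ⊤) {t : K} (ht1 : t ≠ 1) (ht : t * t = 1)
    (htc : t ∈ center K) (hu : ∀ z ∈ center K, z * z = 1 → z = 1 ∨ z = t)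
    (hX : D9.Cut.XSz (K ⧸ center K)) : EvenCyc.PairFree K ∧ EvenCyc.SqDiff K := by
  obtain ⟨F, i1, i2, m, hm, hF, ⟨e⟩⟩ := hX
  constructor
  · intro α β hα hβ hαβ hα1 hβ1 hne hle _
    exact hne (EvenSz.p1 hp hm hF e ht1 ht htc hu hα hα1 hβ hβ1 hle)
  · intro α hα hα1
    obtain ⟨x, h1, h2⟩ := EvenSz.p2 hp hm hF e ht1 ht htc hu hα hα1
    exact ⟨x, h2, h1⟩

/-- (P1), (P2), `Z(K) ≠ 1` a cyclic 2-group. -/
theorem facts (hp : commutator K = ⊤) (h2 : IsPGroup 2 ↥(center K)) (hc : IsCyclic ↥(center K))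
    (hne : center K ≠ ⊥) (hX : D9.Cut.XSz (K ⧸ center K)) :
    EvenCyc.PairFree K ∧ EvenCyc.SqDiff K := by
  haveI : Fact (Nat.Prime 2) := ⟨Nat.prime_two⟩
  haveI := hc
  have hdvd : 2 ∣ Nat.card ↥(center K) := by
    obtain ⟨k, hk⟩ := IsPGroup.iff_card.mp h2
    rcases Nat.eq_zero_or_pos k with rfl | h
    · exfalso
      rw [pow_zero, card_eq_one] at hk
      exact hne hk
    · rw [hk]
      exact dvd_pow_self 2 h.ne'
  obtain ⟨t, ht⟩ := exists_prime_orderOf_dvd_card' 2 hdvd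
  have htt : (t : K) * t = 1 := by
    have h3 : t * t = 1 := EvenCyc.mul_self_of_order ht
    exact congrArg Subtype.val h3
  refine facts_of_uniq hp (t := (t : K)) ?_ htt t.2 ?_ hX
  · intro h3
    have h4 : t = 1 := Subtype.ext h3
    rw [h4, orderOf_one] at ht
    omega
  · intro z hz hzz
    by_cases h1 : z = 1
    · exact Or.inl h1
    · right
      have h3 : orderOf (⟨z, hz⟩ : ↥(center K)) = 2 := by
        apply EvenCyc.order_of_mul_self (Subtype.ext hzz)
        intro h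
        exact h1 (congrArg Subtype.val h)
      exact congrArg Subtype.val (EvenCyc.eq_of_cyclic h3 ht)

/-- (P1), (P2) for `|Z(K)| = 2`. -/
theorem facts_two (hp : commutator K = ⊤) (hX : D9.Cut.Two (fun X _ => D9.Cut.XSz X) K) :
    EvenCyc.PairFree K ∧ EvenCyc.SqDiff K := by
  haveI : Fact (Nat.Prime 2) := ⟨Nat.prime_two⟩
  refine facts hp (IsPGroup.of_card (n := 1) (by rw [hX.1, pow_one])) (isCyclic_of_prime_card hX.1)
    ?_ hX.2
  intro h
  have h1 := hX.1
  rw [h, card_bot] at h1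
  omega

/-- The row of D4: `Z(K)` cyclic and nontrivial, `K / Z(K)` a Suzuki group. -/
theorem row {G : Type u} [Group G] {K : Subgroup G} (C : Iface.Ctx G) (S : Iface.Std0 G K)
    (hcyc : IsCyclic ↥(center ↥K)) (hne : center ↥K ≠ ⊥)
    (hX : D9.Cut.XSz (↥K ⧸ center ↥K)) : PRankLE 2 1 ↥(centralizer (K : Set G)) := by
  haveI := C.fin
  have h := facts (K := ↥K) S.std.1.1.commutator_eq_top S.z2 hcyc hne hX
  exact EvenCyc.row C S hcyc hne h.1 h.2

/-- The literal row `sz8` of `D4.Cut.RowsCov`. -/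
theorem sz8 : D4.Cut.Row0.{u} (fun K _ => D9.Cut.Two (fun X _ => D4.Cut.XSz8 X) K) := by
  intro G _ C K S hr hP
  haveI := C.fin
  have hX : D9.Cut.XSz (↥K ⧸ center ↥K) := by
    obtain ⟨F, i1, i2, hF, h⟩ := hP.2
    exact ⟨F, i1, i2, 1, le_rfl, hF.trans (by norm_num), h⟩
  have hne : center ↥K ≠ ⊥ := by
    intro h
    have h1 := hP.1
    rw [h, card_bot] at h1
    omega
  haveI : Fact (Nat.Prime 2) := ⟨Nat.prime_two⟩
  exact hr (row C S (isCyclic_of_prime_card hP.1) hne hX)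

end Cfsg.Agent.OddHalf.D4.EvenSzRow

end

-- merged: Cfsg.Agent.OddHalf.D4.Cov.L34
section

/-!
# ODD half, D4: the row `2.L3(4)` (`RowsCov.l34`)
-/

set_option autoImplicit false

namespace Cfsg.Agent.OddHalf.D4.Cov.L34

open Subgroup Cfsg Cfsg.Agent.OddHalf.Iface Cfsg.Agent.OddHalf.D9.Cut

universe u

/-- `RowsCov.l34` -/
theorem row : Cut.Row0.{u} (fun K _ => Two (fun X _ => XL34 X) K) :=
  fun _ _ C _ S _ h => D9.L34.RowAny.false_of_l34 C S h.1 h.2

end Cfsg.Agent.OddHalf.D4.Cov.L34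

end

-- merged: Cfsg.Agent.OddHalf.D4.EvenCycM12
section

/-!
# ODD, D4: `Z(K)` cyclic and nontrivial, `m_2(C(K)) ≥ 2`: the kill for `2.M12` (text: helper378, ODD #10322 (2))

A bad pair is a pair of commuting involutory automorphisms `α ≠ β` with `C(α) ≤ C(β)`, `C(αβ) ≤ C(β)`.
`Facts`: (m1) the members of a bad pair are not both inner; (m2) for a bad pair some `k` and a perfect `L₀`
fixed by `α`, `β` with `α(k)⁻¹k, β(k)⁻¹k ∈ L₀`, `β(k) ≠ k`; (m3) commutators of automorphisms are inner;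
(P2) `SqDiff`.  `row`: then `m_2(C(K)) ≤ 1`.
-/

set_option autoImplicit false

namespace Cfsg.Agent.OddHalf.D4.EvenCycM12

open Cfsg Subgroup Basic
open Cfsg.Agent.OddHalf.D4.EvenCyc

/-- a bad pair of automorphisms -/
structure Bad {X : Type*} [Group X] (α β : MulAut X) : Prop where
  a2 : α * α = 1
  b2 : β * β = 1
  comm : α * β = β * α
  a1 : α ≠ 1
  b1 : β ≠ 1
  ne : α ≠ β
  ca : ∀ x, α x = x → β x = x
  cab : ∀ x, α (β x) = x → β x = x

/-- the facts on `K` (for `2.M12`) -/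
structure Facts (X : Type*) [Group X] : Prop where
  m1 : ∀ α β : MulAut X, Bad α β → (∃ a, α = MulAut.conj a) → ¬ ∃ b, β = MulAut.conj b
  m2 : ∀ α β : MulAut X, Bad α β → ∃ (k : X) (L : Subgroup X), ⁅L, L⁆ = L ∧ (∀ l ∈ L, α l = l ∧ β l = l) ∧
    (α k)⁻¹ * k ∈ L ∧ (β k)⁻¹ * k ∈ L ∧ (β k)⁻¹ * k ≠ 1
  m3 : ∀ α β : MulAut X, ∃ a, α * β * α⁻¹ * β⁻¹ = MulAut.conj a

variable {G : Type*} [Group G] [Finite G] {K : Subgroup G} {z : G}

omit [Finite G] in
theorem act_apply_eq {x : G} (hx : x ∈ normalizer (K : Set G)) (k : ↥K) :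
    Ev.act K ⟨x, hx⟩ k = k ↔ x * k = k * x := by
  constructor
  · intro h
    have h2 : x * (k : G) * x⁻¹ = k := congrArg Subtype.val h
    calc x * (k : G) = (x * (k : G) * x⁻¹) * x := by group
      _ = k * x := by rw [h2]
  · intro h
    apply Subtype.ext
    show x * (k : G) * x⁻¹ = k
    rw [h]
    group

/-- a pair gives a bad pair -/
theorem bad_of_pair (E : Ev K z) {g c v d : G} (P : Ev.Pair K z g c v d) :
    Bad (Ev.act K ⟨d, P.dM⟩) (Ev.act K ⟨v, P.vM⟩) := by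
  have hcc := mul_self_of_order P.c2
  have hzz := mul_self_of_order E.z2
  have hvv : v * v = 1 := by
    rw [P.v_def]
    calc g⁻¹ * z * g * (g⁻¹ * z * g) = g⁻¹ * (z * z) * g := by group
      _ = 1 := by rw [hzz]; group
  have hdd : d * d = 1 := by
    rw [P.d_def]
    calc g⁻¹ * c * g * (g⁻¹ * c * g) = g⁻¹ * (c * c) * g := by group
      _ = 1 := by rw [hcc]; group
  have hone : ∀ {x : G} (hx : x ∈ normalizer (K : Set G)), x * x = 1 →
      Ev.act K ⟨x, hx⟩ * Ev.act K ⟨x, hx⟩ = 1 := by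
    intro x hx hxx
    rw [← Ev.act_mul]
    have : (⟨x, hx⟩ * ⟨x, hx⟩ : ↥(normalizer (K : Set G))) = 1 := Subtype.ext hxx
    rw [this]
    exact map_one _
  refine ⟨hone _ hdd, hone _ hvv, ?_, ?_, ?_, ?_, ?_, ?_⟩
  · rw [← Ev.act_mul, ← Ev.act_mul]
    congr 1
    exact Subtype.ext P.comm
  · rw [Ne, Ev.act_eq_one_iff]
    exact P.dC
  · rw [Ne, Ev.act_eq_one_iff]
    exact P.vC
  · intro h2
    apply P.dvC
    have h3 : Ev.act K (⟨d, P.dM⟩ * ⟨v, P.vM⟩) = 1 := by
      rw [Ev.act_mul, h2]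
      exact hone _ hvv
    exact Ev.act_eq_one_iff.mp h3
  · intro k hk
    rw [act_apply_eq] at hk ⊢
    exact P.centd k k.2 hk
  · intro k hk
    have h3 : Ev.act K (⟨d, P.dM⟩ * ⟨v, P.vM⟩) k = k := by
      rw [Ev.act_mul]
      exact hk
    have h4 := (act_apply_eq (x := d * v) (mul_mem P.dM P.vM) k).mp h3
    rw [act_apply_eq]
    exact P.centdv k k.2 h4

/-- **Case (I) for `2.M12`.** -/
theorem not_hasPair (E : Ev K z) (F : Facts ↥K) : ¬ Ev.HasPair K z := by
  intro h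
  obtain ⟨g, c, v, d, P⟩ := E.exists_pair h
  obtain ⟨k, L, hL, hLf, hxd, hxv, hxv1⟩ := F.m2 _ _ (bad_of_pair E P)
  have hdd : d⁻¹ = d := by
    rw [inv_eq_iff_mul_eq_one, P.d_def]
    calc g⁻¹ * c * g * (g⁻¹ * c * g) = g⁻¹ * (c * c) * g := by group
      _ = 1 := by rw [mul_self_of_order P.c2]; group
  have hvv : v⁻¹ = v := by
    rw [inv_eq_iff_mul_eq_one, P.v_def]
    calc g⁻¹ * z * g * (g⁻¹ * z * g) = g⁻¹ * (z * z) * g := by group
      _ = 1 := by rw [mul_self_of_order E.z2]; group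
  -- the elements `x_d`, `x_v` of `L`
  obtain ⟨xd, hxdef⟩ : ∃ x : G, x = (((Ev.act K ⟨d, P.dM⟩ k)⁻¹ * k : ↥K) : G) := ⟨_, rfl⟩
  obtain ⟨xv, hxvef⟩ : ∃ x : G, x = (((Ev.act K ⟨v, P.vM⟩ k)⁻¹ * k : ↥K) : G) := ⟨_, rfl⟩
  have exd : (k : G)⁻¹ * d * k = d * xd := by
    have : xd = (d * (k : G) * d⁻¹)⁻¹ * k := hxdef
    rw [this]
    have e1 : ∀ d k : G, d * ((d * k * d⁻¹)⁻¹ * k) = d * d * k⁻¹ * d⁻¹ * k := by intro d k; group
    rw [e1, hdd]
    have hd2 : d * d = 1 := by rw [← inv_eq_iff_mul_eq_one]; exact hdd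
    rw [hd2, one_mul]
  have exv : (k : G)⁻¹ * v * k = v * xv := by
    have : xv = (v * (k : G) * v⁻¹)⁻¹ * k := hxvef
    rw [this]
    have e1 : ∀ d k : G, d * ((d * k * d⁻¹)⁻¹ * k) = d * d * k⁻¹ * d⁻¹ * k := by intro d k; group
    rw [e1, hvv]
    have hd2 : v * v = 1 := by rw [← inv_eq_iff_mul_eq_one]; exact hvv
    rw [hd2, one_mul]
  have hLc : ∀ l ∈ L, v * (l : G) = (l : G) * v := fun l hl => (act_apply_eq P.vM l).mp (hLf l hl).2
  -- conjugate by `g`: `g L g⁻¹ ≤ C(z) = N(K)`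
  have hgv : g * v * g⁻¹ = z := by rw [P.v_def]; group
  have hgd : g * d * g⁻¹ = c := by rw [P.d_def]; group
  have hLM : ∀ l ∈ L, g * (l : G) * g⁻¹ ∈ normalizer (K : Set G) := by
    intro l hl
    rw [E.mem_iff, ← hgv]
    calc g * (l : G) * g⁻¹ * (g * v * g⁻¹) = g * ((l : G) * v) * g⁻¹ := by group
      _ = g * (v * (l : G)) * g⁻¹ := by rw [hLc l hl]
      _ = _ := by group
  -- `g L g⁻¹` acts as inner automorphisms
  let f : ↥L →* MulAut ↥K :=
    { toFun := fun l => Ev.act K ⟨g * ((l : ↥K) : G) * g⁻¹, hLM l l.2⟩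
      map_one' := by
        have h1 : (⟨g * (((1 : ↥L) : ↥K) : G) * g⁻¹, hLM _ (1 : ↥L).2⟩ : ↥(normalizer (K : Set G))) = 1 :=
          Subtype.ext (by simp)
        rw [h1]
        exact map_one _
      map_mul' := by
        intro a b
        rw [← Ev.act_mul]
        congr 1
        exact Subtype.ext (by
          show g * (((a * b : ↥L) : ↥K) : G) * g⁻¹ = g * ((a : ↥K) : G) * g⁻¹ * (g * ((b : ↥K) : G) * g⁻¹)
          simp [mul_assoc]) }
  have hinn : ∀ l : ↥L, f l ∈ (MulAut.conj (G := ↥K)).range := by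
    have hle : ∀ l ∈ ⁅(⊤ : Subgroup ↥L), (⊤ : Subgroup ↥L)⁆, f l ∈ (MulAut.conj (G := ↥K)).range := by
      intro l hl
      have : ⁅(⊤ : Subgroup ↥L), (⊤ : Subgroup ↥L)⁆ ≤ ((MulAut.conj (G := ↥K)).range).comap f := by
        rw [commutator_le]
        intro a _ b _
        rw [mem_comap, map_commutatorElement]
        obtain ⟨x, hx⟩ := F.m3 (f a) (f b)
        exact ⟨x, hx.symm⟩
      exact this hl
    intro l
    apply hle
    -- `L` is perfect
    have h1 : (⁅(⊤ : Subgroup ↥L), (⊤ : Subgroup ↥L)⁆).map L.subtype = ⁅L, L⁆ := by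
      rw [map_commutator, ← MonoidHom.range_eq_map, range_subtype]
    have h2 : (l : ↥K) ∈ (⁅(⊤ : Subgroup ↥L), (⊤ : Subgroup ↥L)⁆).map L.subtype := by
      rw [h1, hL]
      exact l.2
    obtain ⟨l', hl', hll⟩ := h2
    have : l' = l := Subtype.ext hll
    rw [← this]
    exact hl'
  -- the new pair
  set h := g * (k : G)⁻¹ * g⁻¹ with hh
  have hhz : h * z * h⁻¹ = z * (g * xv * g⁻¹) := by
    rw [hh, ← hgv]
    calc g * (k : G)⁻¹ * g⁻¹ * (g * v * g⁻¹) * (g * (k : G)⁻¹ * g⁻¹)⁻¹ = g * ((k : G)⁻¹ * v * k) * g⁻¹ := by group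
      _ = g * (v * xv) * g⁻¹ := by rw [exv]
      _ = g * v * g⁻¹ * (g * xv * g⁻¹) := by group
  have hhc : h * c * h⁻¹ = c * (g * xd * g⁻¹) := by
    rw [hh, ← hgd]
    calc g * (k : G)⁻¹ * g⁻¹ * (g * d * g⁻¹) * (g * (k : G)⁻¹ * g⁻¹)⁻¹ = g * ((k : G)⁻¹ * d * k) * g⁻¹ := by group
      _ = g * (d * xd) * g⁻¹ := by rw [exd]
      _ = g * d * g⁻¹ * (g * xd * g⁻¹) := by group
  have hyvM : g * xv * g⁻¹ ∈ normalizer (K : Set G) := by rw [hxvef]; exact hLM _ hxv
  have hydM : g * xd * g⁻¹ ∈ normalizer (K : Set G) := by rw [hxdef]; exact hLM _ hxd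
  have hyz : (g * xv * g⁻¹) * z = z * (g * xv * g⁻¹) := E.mem_iff.mp hyvM
  have hyc : (g * xd * g⁻¹) * z = z * (g * xd * g⁻¹) := E.mem_iff.mp hydM
  have hcz : c * z = z * c := E.z_comm P.cC
  have P' : Ev.Pair K z h⁻¹ c (h⁻¹⁻¹ * z * h⁻¹) (h⁻¹⁻¹ * c * h⁻¹) := by
    refine E.pair_of ?_ P.cC P.c2 P.cz ?_
    · rw [inv_inv]
      intro h1
      have h2 : h * z * h⁻¹ = z := by
        calc h * z * h⁻¹ = h * (h⁻¹ * z * h) * h⁻¹ := by rw [h1]
          _ = z := by group
      rw [hhz] at h2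
      have h3 : g * xv * g⁻¹ = 1 := mul_eq_left.mp h2
      have h4 : xv = 1 := by
        calc xv = g⁻¹ * (g * xv * g⁻¹) * g := by group
          _ = 1 := by rw [h3]; group
      exact hxv1 (Subtype.ext (hxvef.symm.trans h4))
    · rw [inv_inv]
      have h1 : (h * c * h⁻¹) * z = z * (h * c * h⁻¹) := by
        rw [hhc]
        calc c * (g * xd * g⁻¹) * z = c * (z * (g * xd * g⁻¹)) := by rw [mul_assoc, hyc]
          _ = (c * z) * (g * xd * g⁻¹) := by group
          _ = z * (c * (g * xd * g⁻¹)) := by rw [hcz]; group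
      calc c * (h⁻¹ * z * h) = h⁻¹ * ((h * c * h⁻¹) * z) * h := by group
        _ = h⁻¹ * (z * (h * c * h⁻¹)) * h := by rw [h1]
        _ = h⁻¹ * z * h * c := by group
  -- both members act as elements of `g L g⁻¹`
  have hact : ∀ (r y : G) (hr : r ∈ centralizer (K : Set G)) (hy : y ∈ normalizer (K : Set G))
      (x : G) (hx : x ∈ normalizer (K : Set G)), x = r * y →
      Ev.act K ⟨x, hx⟩ = Ev.act K ⟨y, hy⟩ := by
    intro r y hr hy x hx hxy
    ext k
    rw [Ev.act_coe, Ev.act_coe]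
    show x * (k : G) * x⁻¹ = y * (k : G) * y⁻¹
    have h1 : y * (k : G) * y⁻¹ ∈ K := (mem_normalizer_iff.mp hy k).mp k.2
    have h2 := mem_centralizer_iff.mp hr _ h1
    rw [hxy]
    calc r * y * (k : G) * (r * y)⁻¹ = r * (y * (k : G) * y⁻¹) * r⁻¹ := by group
      _ = (y * (k : G) * y⁻¹) * r * r⁻¹ := by rw [h2]
      _ = y * (k : G) * y⁻¹ := by group
  have hfin : ∀ (l : ↥K) (hl : l ∈ L) (y : G) (hy : y ∈ normalizer (K : Set G)), y = g * (l : G) * g⁻¹ →
      ∃ a, Ev.act K ⟨y, hy⟩ = MulAut.conj a := by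
    intro l hl y hy hyl
    obtain ⟨a, ha⟩ := hinn ⟨l, hl⟩
    refine ⟨a, ?_⟩
    rw [ha]
    subst hyl
    rfl
  obtain ⟨a, ha⟩ := hfin _ hxd (g * xd * g⁻¹) hydM (by rw [hxdef])
  obtain ⟨b, hb⟩ := hfin _ hxv (g * xv * g⁻¹) hyvM (by rw [hxvef])
  exact F.m1 _ _ (bad_of_pair E P')
    ⟨a, (hact c _ P.cC hydM _ P'.dM (by rw [inv_inv]; exact hhc)).trans ha⟩
    ⟨b, (hact z _ E.zC hyvM _ P'.vM (by rw [inv_inv]; exact hhz)).trans hb⟩

/-- **`2.M12`**: the facts and (P2) imply `m_2(C(K)) ≤ 1`. -/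
theorem main [IsSimpleGroup G] (E : Ev K z) (F : Facts ↥K) (h2 : SqDiff ↥K) :
    PRankLE 2 1 ↥(centralizer (K : Set G)) :=
  main_of_not E (not_hasPair E F) h2

/-- **The row `2.M12`** from the facts. -/
theorem row {G : Type*} [Group G] {K : Subgroup G} (C : Iface.Ctx G) (S : Iface.Std0 G K)
    (hcyc : IsCyclic ↥(center ↥K)) (hne : center ↥K ≠ ⊥) (F : Facts ↥K) (h2 : SqDiff ↥K) :
    PRankLE 2 1 ↥(centralizer (K : Set G)) := by
  haveI := C.fin
  haveI := C.simple
  obtain ⟨z, E⟩ := ev_of_std S hcyc hne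
  exact main E F h2

end Cfsg.Agent.OddHalf.D4.EvenCycM12

end

-- merged: Cfsg.Agent.OddHalf.D9.TwoM12.EvenFacts
section

/-!
# `2.M12` in D4: the facts (m1), (m2), (m3), (P2) of `D4.EvenCycM12` for an arbitrary perfect double cover
-/

set_option autoImplicit false

namespace Cfsg.Agent.OddHalf.D9.TwoM12

open Cfsg Cfsg.Agent.CoThreeStd.MTwelve Cfsg.Agent.KFacts.MulTwo Cfsg.Agent.KFacts.MulDef

variable {L : Type*} [Group L] {π : L →* H} {c : L} [Finite L]

theorem Bad.of_even {X : Type*} [Group X] {a b : MulAut X} (h : D4.EvenCycM12.Bad a b) : Bad a b :=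
  ⟨h.a2, h.b2, h.comm, h.a1, h.b1, h.ne, h.ca, h.cab⟩

omit [Finite L] in
/-- commutators of automorphisms are inner, from `Out ≤ 2` -/
theorem comm_inner_of {X : Type*} [Group X]
    (h : ∀ α β : MulAut X, α ∉ (MulAut.conj : X →* MulAut X).range → β ∉ (MulAut.conj : X →* MulAut X).range →
      α * β ∈ (MulAut.conj : X →* MulAut X).range) (α β : MulAut X) :
    α * β * α⁻¹ * β⁻¹ ∈ (MulAut.conj : X →* MulAut X).range := by
  have hN : ∀ (φ : MulAut X) {ψ : MulAut X}, ψ ∈ (MulAut.conj : X →* MulAut X).range →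
      φ * ψ * φ⁻¹ ∈ (MulAut.conj : X →* MulAut X).range := by
    rintro φ _ ⟨k, rfl⟩
    exact ⟨φ k, by
      ext x
      simp [MulAut.mul_apply]⟩
  by_cases ha : α ∈ (MulAut.conj : X →* MulAut X).range
  · have e : α * β * α⁻¹ * β⁻¹ = α * (β * α⁻¹ * β⁻¹) := by group
    rw [e]
    exact mul_mem ha (hN β (inv_mem ha))
  by_cases hb : β ∈ (MulAut.conj : X →* MulAut X).range
  · exact mul_mem (hN α hb) (inv_mem hb)
  · have e : α * β * α⁻¹ * β⁻¹ = α * β * (β * α)⁻¹ := by group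
    rw [e]
    exact mul_mem (h α β ha hb) (inv_mem (h β α hb ha))

/-- **(m1), (m2), (m3) for `2.M12`.** -/
theorem evenFacts (hD : Dbl π c) : D4.EvenCycM12.Facts L where
  m1 := fun _ _ h ha hb => bad_inner hD (Bad.of_even h) (by obtain ⟨a, rfl⟩ := ha; exact ⟨a, rfl⟩)
    (by obtain ⟨b, rfl⟩ := hb; exact ⟨b, rfl⟩)
  m2 := fun _ _ h => bad_move hD (Bad.of_even h)
  m3 := fun α β => by
    obtain ⟨a, ha⟩ := comm_inner_of (fun α β ha hb => out hD α β ha hb) α β
    exact ⟨a, ha.symm⟩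

/-- **(P2) for `2.M12`.** -/
theorem evenSqDiff (hD : Dbl π c) : D4.EvenCyc.SqDiff L := fun _ haa ha1 => sqDiff hD haa ha1

/-- **The facts for D4 on a perfect group with centre of order 2 and central quotient `M12`.** -/
theorem exists_evenFacts {M : Type*} [Group M] [Finite M] (hp : commutator M = ⊤)
    (h2 : Nat.card (Subgroup.center M) = 2) (e : Spor.IsoM12 (M ⧸ Subgroup.center M)) :
    D4.EvenCycM12.Facts M ∧ D4.EvenCyc.SqDiff M := by
  obtain ⟨π, c, hD, -⟩ := exists_dbl hp h2 e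
  exact ⟨evenFacts hD, evenSqDiff hD⟩

end Cfsg.Agent.OddHalf.D9.TwoM12

end

-- merged: Cfsg.Agent.OddHalf.D9.TwoM12.EvenRow
section

/-!
# ODD, D4: the row `2.M12` (`D4.Cut.RowsCov.m12`)
-/

set_option autoImplicit false

namespace Cfsg.Agent.OddHalf.D9.TwoM12

open Cfsg Subgroup

universe u

/-- **The row `2.M12` of D4.** -/
theorem d4_row : D4.Cut.Row0.{u} (fun K _ => D9.Cut.Two (fun X _ => Spor.IsoM12 X) K) := by
  intro G _ C K S hr hK
  haveI := C.fin
  obtain ⟨h2, he⟩ := hK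
  have hp : commutator ↥K = ⊤ := S.std.1.1.commutator_eq_top
  obtain ⟨F, hS⟩ := exists_evenFacts hp h2 he
  have hcyc : IsCyclic ↥(center ↥K) := isCyclic_of_prime_card (p := 2) h2
  have hne : center ↥K ≠ ⊥ := by
    intro h
    rw [h, Subgroup.card_bot] at h2
    omega
  exact hr (D4.EvenCycM12.row C S hcyc hne F hS)

end Cfsg.Agent.OddHalf.D9.TwoM12

end

-- merged: Cfsg.Agent.KFacts.SuzLift.Perm
section

/-!
# Suzuki group: involutions commuting with elements of odd order (fixed points on 1782 points)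

`card_mod`: `|Fix t| ≡ |Fix t ∩ Fix y| mod p` for `y` of order `p` commuting with `t`.
`two_b_of_seven`: an involution commuting with an element of order 7 with at most 4 fixed points is of class 2B.
`outer_claim`: the elements of odd order fixed by an outer involutory automorphism do not all commute with one
involution.
-/

set_option autoImplicit false
set_option maxRecDepth 100000

namespace Cfsg.Agent.KFacts.SuzLift.Perm

open Cfsg.Spor Cfsg.Agent.SporadicRecognition.SuzPhi Cfsg.Agent.SporadicRecognition.SuzOrder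
open Cfsg.Agent.SporRec.SuzCl (R wtr wtr_spec Fx ia ie R_a R_e card_Fx card_Fx_conj cntF_a cntF_e φ_lt eqB eq_of_eqB
  u7 u7_pow u7_comm el_append)
open Cfsg.Agent.KFacts.SuzRho Cfsg.Agent.SporRec.SuzCl

theorem mem_Fx {x : Suz} {q : ℕ} : q ∈ Fx x ↔ q < 1782 ∧ φ x q = q := by
  unfold Fx
  rw [Finset.mem_filter, Finset.mem_range]

/-- Counting fixed points. -/
theorem card_mod {p : ℕ} (hp : p.Prime) {t y : Suz} (hy : y ^ p = 1) (hc : y * t = t * y) :
    (Fx t).card ≡ (Fx t ∩ Fx y).card [MOD p] := by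
  haveI : Fact p.Prime := ⟨hp⟩
  have hf : ∀ q ∈ Fx t, φ y q ∈ Fx t := by
    intro q hq
    rw [mem_Fx] at hq ⊢
    refine ⟨(φ_lt y q).2 hq.1, ?_⟩
    rw [← Equiv.Perm.mul_apply, ← map_mul, ← hc, map_mul, Equiv.Perm.mul_apply, hq.2]
  let f : Function.End {q // q ∈ Fx t} := fun q => ⟨φ y q, hf q q.2⟩
  have hfn : ∀ (n : ℕ) (q : {q // q ∈ Fx t}), (((f ^ n) q : {q // q ∈ Fx t}) : ℕ) = φ (y ^ n) q := by
    intro n
    induction n with
    | zero => intro q; rw [pow_zero, pow_zero, map_one]; rfl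
    | succ n ih =>
      intro q
      rw [pow_succ', pow_succ', map_mul, Equiv.Perm.mul_apply, ← ih q]
      rfl
  have h1 := Equiv.Perm.card_fixedPoints_modEq (f := f) (p := p) (n := 1) (by
    funext q
    apply Subtype.ext
    rw [pow_one, hfn, hy, map_one]; rfl)
  rw [Fintype.card_coe] at h1
  refine h1.trans ?_
  have h2 : Fintype.card ↥(Function.fixedPoints f) = (Fx t ∩ Fx y).card := by
    rw [← Fintype.card_coe]
    refine Fintype.card_congr ⟨fun q => ⟨q.1.1, ?_⟩, fun q => ⟨⟨q.1, (Finset.mem_inter.1 q.2).1⟩, ?_⟩, ?_, ?_⟩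
    · rw [Finset.mem_inter]
      refine ⟨q.1.2, mem_Fx.2 ⟨(mem_Fx.1 q.1.2).1, ?_⟩⟩
      exact congrArg Subtype.val q.2
    · apply Subtype.ext
      exact (mem_Fx.1 (Finset.mem_inter.1 q.2).2).2
    · intro q; rfl
    · intro q; rfl
  rw [h2]

theorem card_of_two {t : Suz} (h2 : t * t = 1) (h1 : t ≠ 1) :
    ((Fx t).card = 54 ∧ ∃ g, g * ia * g⁻¹ = t) ∨ ((Fx t).card = 42 ∧ ∃ g, g * ie * g⁻¹ = t) := by
  rcases SporRec.SuzCl.two t h2 h1 with ⟨g, hg⟩ | ⟨g, hg⟩
  · left
    refine ⟨?_, g, hg⟩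
    rw [← hg, card_Fx_conj, card_Fx R_a, cntF_a]
  · right
    refine ⟨?_, g, hg⟩
    rw [← hg, card_Fx_conj, card_Fx R_e, cntF_e]

/-- An involution commuting with an element of order 7 with at most 4 fixed points is of class 2B. -/
theorem two_b_of_seven {t y : Suz} (h2 : t * t = 1) (h1 : t ≠ 1) (hy : y ^ 7 = 1) (hc : y * t = t * y)
    (hF : (Fx y).card ≤ 4) : ∃ g, g * ie * g⁻¹ = t := by
  rcases card_of_two h2 h1 with ⟨h, -⟩ | ⟨-, h⟩
  · exfalso
    have h3 := card_mod (by norm_num : Nat.Prime 7) hy hc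
    have h4 : (Fx t ∩ Fx y).card ≤ 4 := (Finset.card_le_card Finset.inter_subset_right).trans hF
    rw [h, Nat.ModEq] at h3
    omega
  · exact h

/-! ### Fixed points of words -/

/-- the fixed points of the word are in the list -/
noncomputable def fixIn (w : List Suz.Gen) (l : List ℕ) (q : ℕ) : Bool := or (not (Nat.beq (wtr w q) q)) (l.any (Nat.beq q))

theorem Fx_sub {w : List Suz.Gen} {l : List ℕ} (h : allPt (fixIn w l) = true) : ∀ q ∈ Fx (el w), q ∈ l := by
  intro q hq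
  rw [mem_Fx] at hq
  have h1 := allPt_spec h hq.1
  rw [fixIn, Bool.or_eq_true] at h1
  rcases h1 with h1 | h1
  · exfalso
    have h2 : wtr w q = q := by rw [← (wtr_spec w q hq.1).1]; exact hq.2
    rw [h2, Nat.beq_refl] at h1
    exact absurd h1 (by decide)
  · rw [List.any_eq_true] at h1
    obtain ⟨x, hx, hx2⟩ := h1
    rw [Nat.eq_of_beq_eq_true hx2]
    exact hx

theorem Fx_card {w : List Suz.Gen} {l : List ℕ} (h : allPt (fixIn w l) = true) : (Fx (el w)).card ≤ l.length := by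
  calc (Fx (el w)).card ≤ l.toFinset.card := Finset.card_le_card fun q hq => List.mem_toFinset.2 (Fx_sub h q hq)
    _ ≤ l.length := l.toFinset_card_le

theorem Fx_mem {w : List Suz.Gen} {q : ℕ} (hq : q < 1782) (h : Nat.beq (wtr w q) q = true) : q ∈ Fx (el w) := by
  rw [mem_Fx]
  refine ⟨hq, ?_⟩
  rw [(wtr_spec w q hq).1]
  exact Nat.eq_of_beq_eq_true h

theorem card_u7 : (Fx u7).card ≤ 4 :=
  Fx_card (w := [.b, .c, .f, .g]) (l := [141, 199, 451, 644]) (by decide +kernel)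

theorem card_Fx_el (w : List Suz.Gen) :
    (Fx (el w)).card = cntP (fun i => and (Nat.ble i 1781) (Nat.beq (wtr w i) i)) 11 0 := by
  rw [cntP_eq]
  congr 1
  ext p
  unfold Fx
  rw [Finset.mem_filter, Finset.mem_range, Finset.mem_filter, Finset.mem_Ico, Bool.and_eq_true,
    Nat.beq_eq]
  constructor
  · rintro ⟨h1, h2⟩
    refine ⟨⟨Nat.zero_le _, by norm_num; omega⟩, Nat.ble_eq_true_of_le (by omega), ?_⟩
    rw [← (wtr_spec w p h1).1]; exact h2
  · rintro ⟨-, h1, h2⟩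
    have h3 := Nat.le_of_ble_eq_true h1
    refine ⟨by omega, ?_⟩
    rw [(wtr_spec w p (by omega)).1]; exact h2

/-! ### Three elements -/

def w5 : List Suz.Gen := [.a, .b]
def w7 : List Suz.Gen := [.a, .b, .c, .b, .d, .c, .b, .d, .e]
def w11 : List Suz.Gen := [.c, .e, .b, .d, .e, .f, .g, .c, .d, .c, .e, .d, .b, .d, .e, .f, .g, .c, .d, .c, .e, .d]

theorem y5_pow : el w5 ^ 5 = 1 := by rw [← el_rp]; exact el_eq_one (by decide +kernel)
theorem y7_pow : el w7 ^ 7 = 1 := by rw [← el_rp]; exact el_eq_one (by decide +kernel)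
theorem y11_pow : el w11 ^ 11 = 1 := by rw [← el_rp]; exact el_eq_one (by decide +kernel)

theorem rho_y5 : rho (el w5) = el w5 := rho_el _
theorem rho_y7 : rho (el w7) = el w7 := rho_el _

theorem rho_y11 : (rho * MulAut.conj (PresentedGroup.of Suz.Gen.e) : MulAut Suz) (el w11) = el w11 := by
  rw [MulAut.mul_apply, MulAut.conj_apply, ← el_one, ← SuzThree.Basic.el_reverse, ← SuzThree.Basic.el_append,
    ← SuzThree.Basic.el_append, rho_el]
  exact SuzThree.Basic.eq_of_reps (SuzThree.Basic.Rep.el _) (SuzThree.Basic.Rep.el _) (by decide +kernel)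

theorem fix5 : ∀ q ∈ Fx (el w5), q ∈ [0, 1575] := Fx_sub (by decide +kernel)
theorem fix7 : (Fx (el w7)).card ≤ 4 := Fx_card (l := [0, 1402, 1487, 1575]) (by decide +kernel)
theorem fix7' : ∀ q ∈ [0, 1575], q ∈ Fx (el w7) := by
  intro q hq
  rw [List.mem_cons, List.mem_singleton] at hq
  rcases hq with rfl | rfl
  · exact Fx_mem (by norm_num) (by decide +kernel)
  · exact Fx_mem (by norm_num) (by decide +kernel)
theorem fix11 : (Fx (el w11)).card = 0 := Nat.le_zero.1 (Fx_card (l := []) (by decide +kernel))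

theorem no_five_seven {d : Suz} (h2 : d * d = 1) (h1 : d ≠ 1) (h5 : el w5 * d = d * el w5)
    (h7 : el w7 * d = d * el w7) : False := by
  have c5 := card_mod (by norm_num : Nat.Prime 5) y5_pow h5
  have c7 := card_mod (by norm_num : Nat.Prime 7) y7_pow h7
  have i5 : (Fx d ∩ Fx (el w5)).card ≤ 2 := by
    calc (Fx d ∩ Fx (el w5)).card ≤ ([0, 1575] : List ℕ).toFinset.card :=
          Finset.card_le_card fun q hq => List.mem_toFinset.2 (fix5 q (Finset.mem_inter.1 hq).2)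
      _ ≤ 2 := List.toFinset_card_le _
  have i7 : (Fx d ∩ Fx (el w7)).card ≤ 4 := (Finset.card_le_card Finset.inter_subset_right).trans fix7
  have i57 : (Fx d ∩ Fx (el w5)).card ≤ (Fx d ∩ Fx (el w7)).card := by
    apply Finset.card_le_card
    intro q hq
    rw [Finset.mem_inter] at hq ⊢
    exact ⟨hq.1, fix7' q (fix5 q hq.2)⟩
  rw [Nat.ModEq] at c5 c7
  rcases card_of_two h2 h1 with ⟨h, -⟩ | ⟨h, -⟩
  · rw [h] at c5
    omega
  · rw [h] at c5 c7
    omega

theorem no_eleven {d : Suz} (h2 : d * d = 1) (h1 : d ≠ 1) (h11 : el w11 * d = d * el w11) : False := by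
  have c11 := card_mod (by norm_num : Nat.Prime 11) y11_pow h11
  have i11 : (Fx d ∩ Fx (el w11)).card ≤ 0 := (Finset.card_le_card Finset.inter_subset_right).trans fix11.le
  rw [Nat.ModEq] at c11
  rcases card_of_two h2 h1 with ⟨h, -⟩ | ⟨h, -⟩
  · rw [h] at c11
    omega
  · rw [h] at c11
    omega

/-- **Outer involutory automorphisms**: the fixed elements of odd order do not all commute with an involution. -/
theorem outer_claim {γ : MulAut Suz} (h2 : γ * γ = 1) (ho : ∀ s, γ ≠ MulAut.conj s) {d : Suz} (d2 : d * d = 1)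
    (d1 : d ≠ 1) (h : ∀ (y : Suz) (n : ℕ), Odd n → y ^ n = 1 → γ y = y → y * d = d * y) : False := by
  have key : ∀ (τ : MulAut Suz) (g : Suz), γ = MulAut.conj g * τ * (MulAut.conj g)⁻¹ → ∀ (y : Suz) (n : ℕ), Odd n →
      y ^ n = 1 → τ y = y → y * (g⁻¹ * d * g) = (g⁻¹ * d * g) * y := by
    intro τ g hγ y n hn hy hτ
    have h3 := h (g * y * g⁻¹) n hn (by rw [conj_pow, hy]; group) (by
      rw [hγ, ← map_inv, MulAut.mul_apply, MulAut.mul_apply, MulAut.conj_apply, MulAut.conj_apply, inv_inv]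
      have e : g⁻¹ * (g * y * g⁻¹) * g = y := by group
      rw [e, hτ])
    calc y * (g⁻¹ * d * g) = g⁻¹ * ((g * y * g⁻¹) * d) * g := by group
      _ = g⁻¹ * (d * (g * y * g⁻¹)) * g := by rw [h3]
      _ = (g⁻¹ * d * g) * y := by group
  have e2 : ∀ g : Suz, (g⁻¹ * d * g) * (g⁻¹ * d * g) = 1 := by
    intro g
    calc (g⁻¹ * d * g) * (g⁻¹ * d * g) = g⁻¹ * (d * d) * g := by group
      _ = 1 := by rw [d2]; group
  have e1 : ∀ g : Suz, g⁻¹ * d * g ≠ 1 := by
    intro g hg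
    apply d1
    calc d = g * (g⁻¹ * d * g) * g⁻¹ := by group
      _ = 1 := by rw [hg]; group
  rcases SuzInvol.outer h2 ho with ⟨g, hg⟩ | ⟨g, hg⟩
  · exact no_five_seven (e2 g) (e1 g) (key _ g hg _ 5 (by decide) y5_pow rho_y5)
      (key _ g hg _ 7 (by decide) y7_pow rho_y7)
  · exact no_eleven (e2 g) (e1 g) (key _ g hg _ 11 (by decide) y11_pow rho_y11)

/-! ### Elements `α(x)⁻¹ x` of class 2A -/

/-- `x` with `e x⁻¹ e x` of class 2A -/
def we : List Suz.Gen := [.d, .c, .d, .e, .d, .c, .d]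

theorem dif_e : (ie * el we * ie⁻¹)⁻¹ * el we = el (.e :: (we.reverse ++ (.e :: we))) := by
  have h : ie = el [.e] := (el_one .e).symm
  have h2 : (el [.e])⁻¹ = el [.e] := (SuzThree.Basic.el_reverse [.e]).symm
  have h3 : (el we)⁻¹ = el we.reverse := (SuzThree.Basic.el_reverse we).symm
  calc (ie * el we * ie⁻¹)⁻¹ * el we = ie * ((el we)⁻¹ * (ie⁻¹ * el we)) := by group
    _ = el [.e] * (el we.reverse * (el [.e] * el we)) := by rw [h, h2, h3]
    _ = _ := by
        rw [← SuzThree.Basic.el_append, ← SuzThree.Basic.el_append, ← SuzThree.Basic.el_append]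
        rfl

theorem dif_e_two : ∃ g, g * ia * g⁻¹ = (ie * el we * ie⁻¹)⁻¹ * el we := by
  rw [dif_e]
  have h2 : el (.e :: (we.reverse ++ (.e :: we))) * el (.e :: (we.reverse ++ (.e :: we))) = 1 := by
    rw [← SuzThree.Basic.el_append]
    exact el_eq_one (by decide +kernel)
  have hc : (Fx (el (.e :: (we.reverse ++ (.e :: we))))).card = 54 := by
    rw [card_Fx_el]; decide +kernel
  have h1 : el (.e :: (we.reverse ++ (.e :: we))) ≠ 1 := by
    intro h
    rw [h] at hc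
    have h3 : Fx (1 : Suz) = Finset.range 1782 := by
      ext q
      rw [mem_Fx, Finset.mem_range, map_one]
      exact ⟨fun h => h.1, fun h => ⟨h, rfl⟩⟩
    rw [h3, Finset.card_range] at hc
    omega
  rcases card_of_two h2 h1 with ⟨-, h⟩ | ⟨h, -⟩
  · exact h
  · omega

theorem dif_rho : (rho (el [.f, .g]))⁻¹ * el [.f, .g] = ia := by
  rw [rho_el, ← SuzThree.Basic.el_reverse, ← SuzThree.Basic.el_append]
  show _ = el [.a]
  exact SuzThree.Basic.eq_of_reps (SuzThree.Basic.Rep.el _) (SuzThree.Basic.Rep.el _) (by decide +kernel)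

theorem dif_rhoe : ((rho * MulAut.conj (PresentedGroup.of Suz.Gen.e) : MulAut Suz) (el [.f, .g]))⁻¹ * el [.f, .g] = ia := by
  rw [MulAut.mul_apply, MulAut.conj_apply, ← el_one, ← SuzThree.Basic.el_reverse, ← SuzThree.Basic.el_append,
    ← SuzThree.Basic.el_append, rho_el, ← SuzThree.Basic.el_reverse, ← SuzThree.Basic.el_append]
  show _ = el [.a]
  exact SuzThree.Basic.eq_of_reps (SuzThree.Basic.Rep.el _) (SuzThree.Basic.Rep.el _) (by decide +kernel)

end Cfsg.Agent.KFacts.SuzLift.Perm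

end

-- merged: Cfsg.Agent.OddHalf.D4.Spor.TwoSuz
section

/-!
# ODD, D4: the row `K = 2.Suz`

`pairFree`, `sqDiff`: (P1) and (P2) for every perfect double cover of `Suz`; `suz`: the row of `D4.Cut.RowsCov`.
-/

set_option autoImplicit false
set_option maxRecDepth 100000

namespace Cfsg.Agent.OddHalf.D4.Spor.TwoSuz

open Subgroup Cfsg Cfsg.Spor Cfsg.Agent.KFacts Cfsg.Agent.KFacts.MulDef Cfsg.Agent.KFacts.SuzLift
open Cfsg.Agent.SuzThree.CentA Cfsg.Agent.SuzThree.QZero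
open Cfsg.Agent.SporRec.SuzCl (ia ie u7)
open Cfsg.Agent.KFacts.SuzRho (rho)

universe u

variable {L : Type u} [Group L] {π : L →* Suz} {c : L}

/-! ### Automorphisms of the cover -/

theorem center_cases (hD : Dbl π c) {x : L} (hx : ∀ y, x * y = y * x) : x = 1 ∨ x = c := by
  apply (hD.ker x).1
  apply SuzInvol.center_triv
  intro y
  obtain ⟨k, rfl⟩ := hD.surj y
  rw [← map_mul, hx, map_mul]

theorem map_c (hD : Dbl π c) (α : MulAut L) : α c = c := by
  rcases center_cases hD (x := α c) (fun y => by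
    have := congrArg α (hD.cen (α.symm y))
    rwa [map_mul, map_mul, MulEquiv.apply_symm_apply] at this) with h | h
  · exact absurd ((map_eq_one_iff α α.injective).1 h) hD.ne
  · exact h

theorem exists_bar (hD : Dbl π c) (α : MulAut L) : ∃ β : MulAut Suz, ∀ k, β (π k) = π (α k) := by
  apply D9.OuterOf.exists_quo π hD.surj
  intro k
  rw [hD.ker, hD.ker]
  constructor
  · rintro (rfl | rfl)
    · exact Or.inl (map_one α)
    · exact Or.inr (map_c hD α)
  · rintro (h | h)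
    · exact Or.inl ((map_eq_one_iff α α.injective).1 h)
    · exact Or.inr (α.injective (h.trans (map_c hD α).symm))

theorem eq_of_bar (hD : Dbl π c) {α α' : MulAut L} (h : ∀ k, π (α k) = π (α' k)) : α = α' := by
  have hp : ⁅(⊤ : Subgroup L), ⊤⁆ = ⊤ := hD.perf
  have h1 := D9.OuterOf.eq_of_central hp α.toMonoidHom α'.toMonoidHom (fun x _ => by
    apply Two.ker_central hD
    rw [map_mul, map_inv, inv_mul_eq_one]
    exact (h x).symm)
  ext x
  exact h1 x (mem_top x)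

/-! ### Elements of odd order -/

theorem c_pow (hD : Dbl π c) {n : ℕ} (hn : Odd n) : c ^ n = c := by
  obtain ⟨k, rfl⟩ := hn
  rw [pow_succ, pow_mul, pow_two, hD.sq, one_pow, one_mul]

theorem mul_c_pow (hD : Dbl π c) {n : ℕ} (hn : Odd n) (l : L) : (l * c) ^ n = l ^ n * c := by
  have h : Commute l c := (hD.cen l).symm
  rw [h.mul_pow, c_pow hD hn]

theorem exists_lift (hD : Dbl π c) {y : Suz} {n : ℕ} (hn : Odd n) (hy : y ^ n = 1) : ∃ l, π l = y ∧ l ^ n = 1 := by
  obtain ⟨l, rfl⟩ := hD.surj y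
  have h1 : π (l ^ n) = 1 := by rw [map_pow, hy]
  rcases (hD.ker _).1 h1 with h2 | h2
  · exact ⟨l, rfl, h2⟩
  · refine ⟨l * c, ?_, ?_⟩
    · rw [map_mul, (hD.ker c).2 (Or.inr rfl), mul_one]
    · rw [mul_c_pow hD hn, h2, hD.sq]

theorem fix_of_odd (hD : Dbl π c) {α : MulAut L} {n : ℕ} (hn : Odd n) {l : L} (hl : l ^ n = 1)
    (h : π (α l) = π l) : α l = l := by
  have h1 : π (l⁻¹ * α l) = 1 := by rw [map_mul, map_inv, h, inv_mul_cancel]
  rcases (hD.ker _).1 h1 with h2 | h2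
  · rw [inv_mul_eq_one] at h2; exact h2.symm
  · exfalso
    have h3 : α l = l * c := by rw [← h2, mul_inv_cancel_left]
    have h4 : (α l) ^ n = 1 := by rw [← map_pow, hl, map_one]
    rw [h3, mul_c_pow hD hn, hl, one_mul] at h4
    exact hD.ne h4

/-- `C(α) ≤ C(β)` gives the inclusion for the elements of odd order of `Suz` -/
theorem odd_incl (hD : Dbl π c) {α β : MulAut L} {a b : MulAut Suz} (ha : ∀ k, a (π k) = π (α k))
    (hb : ∀ k, b (π k) = π (β k)) (h : ∀ x, α x = x → β x = x) (y : Suz) (n : ℕ) (hn : Odd n) (hy : y ^ n = 1)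
    (hay : a y = y) : b y = y := by
  obtain ⟨l, rfl, hl⟩ := exists_lift hD hn hy
  rw [hb, h l (fix_of_odd hD hn hl (by rw [← ha, hay]))]

/-! ### Inner pairs -/

theorem conj_one_iff {s : Suz} : (MulAut.conj s : MulAut Suz) = 1 ↔ s = 1 :=
  ⟨SuzInvol.conj_eq_one, fun h => by rw [h, map_one]⟩

theorem comm_of_a (hD : Dbl π c) {x y : L} {g : Suz} (hx : π x = g * ia * g⁻¹) (hy : π y * π x = π x * π y) :
    x * y = y * x := by
  obtain ⟨h, rfl⟩ := hD.surj g
  have h1 := Two.comm_lift hD (x := h⁻¹ * x * h) (y := h⁻¹ * y * h)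
    (by rw [map_mul, map_mul, map_inv, hx, SuzY.z0_eq]; group)
    (by
      have e : z0 = (π h)⁻¹ * π x * π h := by rw [hx, SuzY.z0_eq]; group
      rw [e, map_mul, map_mul, map_inv]
      calc (π h)⁻¹ * π y * π h * ((π h)⁻¹ * π x * π h) = (π h)⁻¹ * (π y * π x) * π h := by group
        _ = (π h)⁻¹ * (π x * π y) * π h := by rw [hy]
        _ = _ := by group)
  calc x * y = h * ((h⁻¹ * x * h) * (h⁻¹ * y * h)) * h⁻¹ := by group
    _ = h * ((h⁻¹ * y * h) * (h⁻¹ * x * h)) * h⁻¹ := by rw [h1]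
    _ = y * x := by group

/-- **(I)** both automorphisms inner -/
theorem no_inner (hD : Dbl π c) {k m : L} (k2 : π k * π k = 1) (m2 : π m * π m = 1) (k1 : π k ≠ 1) (m1 : π m ≠ 1)
    (hne : π k ≠ π m) (h : ∀ x, k * x = x * k → m * x = x * m) : False := by
  have hcm : m * k = k * m := h k rfl
  rcases SporRec.SuzCl.two (π k) k2 k1 with ⟨g, hg⟩ | ⟨g, hg⟩
  · -- class 2A
    have h1 : ∀ y ∈ Q0, y * (g⁻¹ * π m * g) = (g⁻¹ * π m * g) * y := by
      intro y hy
      obtain ⟨x, hx⟩ := hD.surj (g * y * g⁻¹)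
      have hyC := mem_C1.1 (Q0_le hy)
      have h2 : k * x = x * k := by
        apply comm_of_a hD (g := g) hg.symm
        rw [hx, ← hg, ← SuzY.z0_eq]
        calc g * y * g⁻¹ * (g * z0 * g⁻¹) = g * (y * z0) * g⁻¹ := by group
          _ = g * (z0 * y) * g⁻¹ := by rw [hyC]
          _ = _ := by group
      have h3 := congrArg π (h x h2)
      rw [map_mul, map_mul, hx] at h3
      calc y * (g⁻¹ * π m * g) = g⁻¹ * ((g * y * g⁻¹) * π m) * g := by group
        _ = g⁻¹ * (π m * (g * y * g⁻¹)) * g := by rw [h3]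
        _ = _ := by group
    rcases SuzR.centralizer_R h1 with h2 | h2
    · apply m1
      calc π m = g * (g⁻¹ * π m * g) * g⁻¹ := by group
        _ = 1 := by rw [h2]; group
    · apply hne
      calc π k = g * z0 * g⁻¹ := by rw [← hg, SuzY.z0_eq]
        _ = g * (g⁻¹ * π m * g) * g⁻¹ := by rw [h2]
        _ = π m := by group
  · -- class 2B
    have hpcm : π m * π k = π k * π m := by rw [← map_mul, hcm, map_mul]
    have h7 : (g * u7 * g⁻¹) ^ 7 = 1 := by rw [conj_pow, SporRec.SuzCl.u7_pow]; group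
    have hF : (SporRec.SuzCl.Fx (g * u7 * g⁻¹)).card ≤ 4 := by
      rw [SporRec.SuzCl.card_Fx_conj]; exact Perm.card_u7
    have hk7 : (g * u7 * g⁻¹) * π k = π k * (g * u7 * g⁻¹) := by
      rw [← hg]
      calc g * u7 * g⁻¹ * (g * ie * g⁻¹) = g * (u7 * ie) * g⁻¹ := by group
        _ = g * (ie * u7) * g⁻¹ := by rw [SporRec.SuzCl.u7_comm]
        _ = _ := by group
    obtain ⟨l, hl, hl7⟩ := exists_lift hD (by decide : Odd 7) h7
    have hkl : k * l = l * k := by
      have h2 := fix_of_odd hD (α := MulAut.conj k) (by decide : Odd 7) hl7 (by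
        rw [MulAut.conj_apply, map_mul, map_mul, map_inv, hl, ← hk7, mul_inv_cancel_right])
      rw [MulAut.conj_apply] at h2
      exact mul_inv_eq_iff_eq_mul.1 h2
    have hm7 : (g * u7 * g⁻¹) * π m = π m * (g * u7 * g⁻¹) := by
      have h2 := congrArg π (h l hkl)
      rw [map_mul, map_mul, hl] at h2
      exact h2.symm
    have hmk7 : (g * u7 * g⁻¹) * π (m * k) = π (m * k) * (g * u7 * g⁻¹) := by
      rw [map_mul]
      calc (g * u7 * g⁻¹) * (π m * π k) = ((g * u7 * g⁻¹) * π m) * π k := by group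
        _ = (π m * (g * u7 * g⁻¹)) * π k := by rw [hm7]
        _ = π m * ((g * u7 * g⁻¹) * π k) := by group
        _ = π m * (π k * (g * u7 * g⁻¹)) := by rw [hk7]
        _ = _ := by group
    have hmk2 : π (m * k) * π (m * k) = 1 := by
      rw [map_mul]
      calc π m * π k * (π m * π k) = π m * (π k * π m) * π k := by group
        _ = π m * (π m * π k) * π k := by rw [hpcm]
        _ = (π m * π m) * (π k * π k) := by group
        _ = 1 := by rw [m2, k2, one_mul]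
    have hmk1 : π (m * k) ≠ 1 := by
      intro h1
      apply hne
      rw [map_mul] at h1
      calc π k = π m * π m * π k := by rw [m2, one_mul]
        _ = π m * (π m * π k) := by group
        _ = π m := by rw [h1, mul_one]
    obtain ⟨g1, hg1⟩ := Perm.two_b_of_seven m2 m1 h7 hm7 hF
    obtain ⟨g2, hg2⟩ := Perm.two_b_of_seven hmk2 hmk1 h7 hmk7 hF
    have s0 : k * k = c := Sq.sq_of_e hD hg.symm
    have s1 : m * m = c := Sq.sq_of_e hD hg1.symm
    have s2 : m * k * (m * k) = c := Sq.sq_of_e hD hg2.symm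
    apply hD.ne
    calc c = m * k * (m * k) := s2.symm
      _ = m * (k * m) * k := by group
      _ = m * (m * k) * k := by rw [hcm]
      _ = (m * m) * (k * k) := by group
      _ = 1 := by rw [s0, s1, hD.sq]

/-! ### (P1) -/

/-- **(P1) for `2.Suz`.** -/
theorem pairFree (hD : Dbl π c) : EvenCyc.PairFree L := by
  intro α β hα hβ hαβ hα1 hβ1 hne hC1 hC2
  obtain ⟨a, ha⟩ := exists_bar hD α
  obtain ⟨b, hb⟩ := exists_bar hD β
  have hαα : ∀ k, α (α k) = k := fun k => DFunLike.congr_fun hα k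
  have hββ : ∀ k, β (β k) = k := fun k => DFunLike.congr_fun hβ k
  have hcomm : ∀ k, α (β k) = β (α k) := fun k => DFunLike.congr_fun hαβ k
  have haa : ∀ y, a (a y) = y := by
    intro y; obtain ⟨k, rfl⟩ := hD.surj y
    rw [ha, ha, hαα]
  have hbb : ∀ y, b (b y) = y := by
    intro y; obtain ⟨k, rfl⟩ := hD.surj y
    rw [hb, hb, hββ]
  have hab' : ∀ y, a (b y) = b (a y) := by
    intro y; obtain ⟨k, rfl⟩ := hD.surj y
    rw [hb, ha, ha, hb, hcomm]
  have ha2 : a * a = 1 := by ext y; exact haa y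
  have hab2 : (a * b) * (a * b) = 1 := by
    ext y
    show a (b (a (b y))) = y
    rw [← hab' (b y), hbb, haa]
  have ha1 : a ≠ 1 := by
    rintro rfl
    apply hα1
    apply eq_of_bar hD
    intro k
    rw [← ha]; rfl
  have hb1 : b ≠ 1 := by
    rintro rfl
    apply hβ1
    apply eq_of_bar hD
    intro k
    rw [← hb]; rfl
  have hab1 : a ≠ b := by
    rintro rfl
    apply hne
    apply eq_of_bar hD
    intro k
    rw [← hb, ← ha]
  have hab : ∀ k, (a * b) (π k) = π ((α * β) k) := by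
    intro k
    rw [MulAut.mul_apply, hb, ha, MulAut.mul_apply]
  have i1 := odd_incl hD ha hb hC1
  have i2 := odd_incl hD hab hb (fun x hx => hC2 x hx)
  have hcj : ∀ s y : Suz, MulAut.conj s y = y → y * s = s * y := by
    intro s y h
    rw [MulAut.conj_apply, mul_inv_eq_iff_eq_mul] at h
    exact h.symm
  have hsq : ∀ s : Suz, (MulAut.conj s : MulAut Suz) * MulAut.conj s = 1 → s * s = 1 := by
    intro s h
    rw [← map_mul] at h
    exact conj_one_iff.1 h
  by_cases hai : ∃ s, a = MulAut.conj s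
  · obtain ⟨s, hs⟩ := hai
    have s2 : s * s = 1 := hsq s (by rw [← hs]; exact ha2)
    have s1 : s ≠ 1 := by
      rintro rfl
      exact ha1 (by rw [hs, map_one])
    by_cases hbi : ∃ r, b = MulAut.conj r
    · obtain ⟨r, hr⟩ := hbi
      obtain ⟨k, rfl⟩ := hD.surj s
      obtain ⟨m, rfl⟩ := hD.surj r
      have r2 : π m * π m = 1 := hsq _ (by rw [← hr]; ext y; exact hbb y)
      have r1 : π m ≠ 1 := by
        intro h
        exact hb1 (by rw [hr, h, map_one])
      have ea : α = MulAut.conj k := by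
        apply eq_of_bar hD
        intro x
        rw [← ha, hs, MulAut.conj_apply, MulAut.conj_apply, map_mul, map_mul, map_inv]
      have eb : β = MulAut.conj m := by
        apply eq_of_bar hD
        intro x
        rw [← hb, hr, MulAut.conj_apply, MulAut.conj_apply, map_mul, map_mul, map_inv]
      refine no_inner hD s2 r2 s1 r1 (fun h => hab1 (by rw [hs, hr, h])) ?_
      intro x hx
      have h1 := hC1 x (by rw [ea, MulAut.conj_apply, hx, mul_inv_cancel_right])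
      rw [eb, MulAut.conj_apply] at h1
      exact mul_inv_eq_iff_eq_mul.1 h1
    · refine Perm.outer_claim (γ := a * b) hab2 ?_ s2 s1 ?_
      · intro t ht
        apply hbi
        refine ⟨s⁻¹ * t, ?_⟩
        rw [map_mul, map_inv, ← hs, ← ht, inv_mul_cancel_left]
      · intro y n hn hy hy'
        apply hcj
        rw [← hs]
        have h1 := i2 y n hn hy hy'
        have h2 : a (b y) = y := hy'
        rw [h1] at h2
        exact h2
  · have hai' : ∀ s, a ≠ MulAut.conj s := fun s hs => hai ⟨s, hs⟩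
    by_cases hbi : ∃ r, b = MulAut.conj r
    · obtain ⟨r, hr⟩ := hbi
      have r2 : r * r = 1 := hsq r (by rw [← hr]; ext y; exact hbb y)
      have r1 : r ≠ 1 := by
        rintro rfl
        exact hb1 (by rw [hr, map_one])
      refine Perm.outer_claim ha2 hai' r2 r1 ?_
      intro y n hn hy hy'
      apply hcj
      rw [← hr]
      exact i1 y n hn hy hy'
    · have hbi' : ∀ s, b ≠ MulAut.conj s := fun s hs => hbi ⟨s, hs⟩
      have hti : ∃ t, a * b = MulAut.conj t := by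
        rcases SuzOut.out_two a b with ⟨s, hs⟩ | ⟨s, hs⟩ | ⟨s, hs⟩
        · exact absurd hs.symm (hai' s)
        · exact absurd hs.symm (hbi' s)
        · refine ⟨s, ?_⟩
          rw [hs, inv_eq_of_mul_eq_one_left ha2]
      obtain ⟨t, ht⟩ := hti
      have t2 : t * t = 1 := hsq t (by rw [← ht]; exact hab2)
      have t1 : t ≠ 1 := by
        rintro rfl
        apply hab1
        rw [map_one] at ht
        calc a = a * (b * b) := by
              have : b * b = 1 := by ext y; exact hbb y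
              rw [this, mul_one]
          _ = b := by rw [← mul_assoc, ht, one_mul]
      refine Perm.outer_claim ha2 hai' t2 t1 ?_
      intro y n hn hy hy'
      apply hcj
      rw [← ht, MulAut.mul_apply, i1 y n hn hy hy', hy']

/-! ### (P2) -/

/-- some `a(y)⁻¹ y` is of class 2A -/
theorem exists_dif {a : MulAut Suz} (ha2 : a * a = 1) (ha1 : a ≠ 1) : ∃ y g : Suz, g * ia * g⁻¹ = (a y)⁻¹ * y := by
  have key : ∀ (τ : MulAut Suz) (g y : Suz), a = MulAut.conj g * τ * (MulAut.conj g)⁻¹ →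
      (∃ h, h * ia * h⁻¹ = (τ y)⁻¹ * y) → ∃ y g : Suz, g * ia * g⁻¹ = (a y)⁻¹ * y := by
    rintro τ g y hτ ⟨h, hh⟩
    refine ⟨g * y * g⁻¹, g * h, ?_⟩
    have h1 : a (g * y * g⁻¹) = g * τ y * g⁻¹ := by
      rw [hτ, ← map_inv, MulAut.mul_apply, MulAut.mul_apply, MulAut.conj_apply, MulAut.conj_apply, inv_inv]
      have e : g⁻¹ * (g * y * g⁻¹) * g = y := by group
      rw [e]
    rw [h1]
    calc g * h * ia * (g * h)⁻¹ = g * (h * ia * h⁻¹) * g⁻¹ := by group
      _ = g * ((τ y)⁻¹ * y) * g⁻¹ := by rw [hh]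
      _ = _ := by group
  by_cases hai : ∃ s, a = MulAut.conj s
  · obtain ⟨s, hs⟩ := hai
    have s2 : s * s = 1 := by
      rw [hs, ← map_mul] at ha2
      exact conj_one_iff.1 ha2
    have s1 : s ≠ 1 := by
      rintro rfl
      exact ha1 (by rw [hs, map_one])
    rcases SporRec.SuzCl.two s s2 s1 with ⟨g, hg⟩ | ⟨g, hg⟩
    · refine key (MulAut.conj ia) g SuzOut.n0⁻¹ (by rw [hs, ← hg, map_mul, map_mul, map_inv]) ?_
      have haa : ia⁻¹ = ia := inv_eq_of_mul_eq_one_left SporRec.SuzCl.aa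
      have hC : SuzOut.n0 * ia * SuzOut.n0⁻¹ ∈ C1 := by
        have := Q0_le SuzOut.n0_in
        rwa [SuzY.z0_eq] at this
      obtain ⟨h, hh⟩ := SporRec.SuzCl.comm ia (SuzOut.n0 * ia * SuzOut.n0⁻¹) ⟨1, by group⟩ ⟨SuzOut.n0, rfl⟩
        (fun h => SuzOut.n0_ne (by rw [SuzY.z0_eq]; exact h.symm)) (by
          have := mem_C1.1 hC
          rw [SuzY.z0_eq] at this
          exact this.symm)
      refine ⟨h, ?_⟩
      rw [hh, MulAut.conj_apply]
      calc ia * (SuzOut.n0 * ia * SuzOut.n0⁻¹) = ia * SuzOut.n0 * ia⁻¹ * SuzOut.n0⁻¹ := by rw [haa]; group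
        _ = _ := by group
    · exact key (MulAut.conj ie) g _ (by rw [hs, ← hg, map_mul, map_mul, map_inv]) Perm.dif_e_two
  · rcases SuzInvol.outer ha2 (fun s hs => hai ⟨s, hs⟩) with ⟨g, hg⟩ | ⟨g, hg⟩
    · exact key _ g _ hg ⟨1, by rw [Perm.dif_rho]; group⟩
    · exact key _ g _ hg ⟨1, by rw [Perm.dif_rhoe]; group⟩

/-- **(P2) for `2.Suz`.** -/
theorem sqDiff (hD : Dbl π c) : EvenCyc.SqDiff L := by
  intro α hα hα1
  obtain ⟨a, ha⟩ := exists_bar hD α
  have hαα : ∀ k, α (α k) = k := fun k => DFunLike.congr_fun hα k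
  have ha2 : a * a = 1 := by
    ext y; obtain ⟨k, rfl⟩ := hD.surj y
    show a (a (π k)) = π k
    rw [ha, ha, hαα]
  have ha1 : a ≠ 1 := by
    rintro rfl
    apply hα1
    apply eq_of_bar hD
    intro k
    rw [← ha]; rfl
  obtain ⟨y, g, hg⟩ := exists_dif ha2 ha1
  obtain ⟨x, rfl⟩ := hD.surj y
  have h1 : π ((α x)⁻¹ * x) = g * ia * g⁻¹ := by rw [map_mul, map_inv, ← ha, hg]
  refine ⟨x, ?_, Two.sq_of_a hD h1⟩
  intro hc
  have h2 : π ((α x)⁻¹ * x) = 1 := by
    apply SuzInvol.center_triv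
    intro y
    obtain ⟨k, rfl⟩ := hD.surj y
    rw [← map_mul, ← map_mul, (mem_center_iff.1 hc k).symm]
  rw [h1] at h2
  apply SporRec.SuzCl.a_ne
  calc ia = g⁻¹ * (g * ia * g⁻¹) * g := by group
    _ = 1 := by rw [h2]; group

/-! ### The row -/

theorem mem_center_iff_of_card (h2 : Nat.card ↥(center L) = 2) {c : L} (hc : c ∈ center L) (hc1 : c ≠ 1) (x : L) :
    x ∈ center L ↔ x = 1 ∨ x = c := by
  constructor
  · intro hx
    by_cases hx1 : x = 1
    · exact Or.inl hx1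
    · right
      obtain ⟨z, hz1, hz2⟩ := (Nat.card_eq_two_iff' (1 : center L)).1 h2
      have e1 := hz2 ⟨x, hx⟩ (fun h => hx1 (congrArg Subtype.val h))
      have e2 := hz2 ⟨c, hc⟩ (fun h => hc1 (congrArg Subtype.val h))
      exact congrArg Subtype.val (e1.trans e2.symm)
  · rintro (rfl | rfl)
    · exact one_mem _
    · exact hc

/-- the double cover -/
theorem exists_dbl (hp : commutator L = ⊤) (h2 : Nat.card ↥(center L) = 2) (hS : IsoSuz (L ⧸ center L)) :
    ∃ (π : L →* Suz) (c : L), Dbl π c := by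
  obtain ⟨e⟩ := hS
  obtain ⟨z, hz1, -⟩ := (Nat.card_eq_two_iff' (1 : center L)).1 h2
  have hc : (z : L) ∈ center L := z.2
  have hc1 : (z : L) ≠ 1 := fun h => hz1 (Subtype.ext h)
  have hm := mem_center_iff_of_card h2 hc hc1
  refine ⟨e.toMonoidHom.comp (QuotientGroup.mk' (center L)), z, ⟨⟨hc1, ?_, ?_, hp⟩,
    e.surjective.comp (QuotientGroup.mk'_surjective _), ?_⟩⟩
  · rcases (hm (z * z)).1 (mul_mem hc hc) with h | h
    · exact h
    · exact absurd (mul_eq_left.1 h) hc1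
  · intro x
    exact (mem_center_iff.1 hc x).symm
  · intro x
    show e (x : L ⧸ center L) = 1 ↔ _
    rw [e.map_eq_one_iff, QuotientGroup.eq_one_iff, hm]

/-- **The row `K = 2.Suz` of D4.** -/
theorem suz : Cut.Row0.{u} (fun K _ => D9.Cut.Two (fun X _ => IsoSuz X) K) := by
  rintro G _ C K S hr ⟨h2, hS⟩
  obtain ⟨π, c, hD⟩ := exists_dbl (Cut.quasisimple S).1.commutator_eq_top h2 hS
  have hcyc : IsCyclic ↥(center ↥K) := by
    haveI : Fact (Nat.Prime 2) := ⟨Nat.prime_two⟩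
    exact isCyclic_of_prime_card h2
  have hne : center ↥K ≠ ⊥ := by
    intro h
    rw [h, card_bot] at h2
    omega
  exact hr (EvenCyc.row C S hcyc hne (pairFree hD) (sqDiff hD))

end Cfsg.Agent.OddHalf.D4.Spor.TwoSuz

end

-- merged: Cfsg.Agent.OddHalf.D9.RankTwo.RowsFull
section

/-!
# `Core.Rows`: the groups of characteristic 2 type in the list of the theorem on TI subgroups
-/

set_option autoImplicit false

namespace Cfsg.Agent.OddHalf.D9.RankTwo.RowsFull

open Cfsg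

theorem rows : Core.Rows where
  m22 := Small.Mathieu.charTwo_M22
  m23 := Small.Mathieu.charTwo_M23
  m24 := Small.M24Char.charTwo_M24
  u3 F _ _ n hn hF := Small.RankOne.u3 F n (by omega) hF ⟨MulEquiv.refl _⟩
  sz F _ _ m hm hF := Small.RankOne.sz ⟨F, _, _, m, hm, hF, ⟨MulEquiv.refl _⟩⟩

end Cfsg.Agent.OddHalf.D9.RankTwo.RowsFull

end

-- merged: Cfsg.Agent.OddHalf.Table.RuInvCent
section

/-!
# Centralisers of involutions in the Rudvalis group

`cent_sq_a`: an element commuting with the squares of all elements of `C(g 13)` is `1` or `g 13`.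
`cent_sq_b`: there is `v` commuting with `b = g 0`, `v` and `b v` conjugate to `b`, such that every element commuting
with the squares of all elements of `C(b)` is in `{1, b, v, b v}`.

Method: the element preserves the fixed points of a square; if it fixes a point it fixes its orbit under the squares,
and the adjacencies to this orbit determine the base points.
-/

set_option autoImplicit false
set_option maxRecDepth 100000
set_option exponentiation.threshold 5000

namespace Cfsg.Agent.OddHalf.Table.RuInvCent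

open Cfsg.Agent.SporadicB Cfsg.Agent.SporadicB.RuData Cfsg.Agent.Lib.BitNet Cfsg.Agent.Lib.BitNetSimple
open Cfsg.Agent.OddHalf.Table.RuCent Cfsg.Agent.OddHalf.Table.RuInvConj
open Cfsg.Agent.Schreier

/-! ### fixed points of a word -/

/-- the image of a set of points under a word -/
noncomputable def img : List ℕ → ℕ → ℕ
  | [], M => M
  | l :: w, M => force (img w M) (appMF (net l))

theorem testBit_img (p : Fin 4060) (M : ℕ) : ∀ w : List ℕ,
    (img w M).testBit (((W w : RuOrder.H) : Equiv.Perm (Fin 4060)) p) = M.testBit p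
  | [] => rfl
  | l :: w => by
    rw [img, force_eq, appMF_eq, W_cons]
    change (appM (net l) (img w M)).testBit (app (net l) (((W w : RuOrder.H) : Equiv.Perm (Fin 4060)) p : ℕ)) = _
    rw [testBit_appM (ok_net l).valid, testBit_img p M w]

/-- the fixed points of a word -/
noncomputable def fixM (w : List ℕ) (k : ℕ) : ℕ :=
  Nat.rec U (fun j ih => force ih fun S => force (idxMask 12 j) fun P =>
    Nat.xor S (Nat.land S (Nat.xor P (img w P)))) k

theorem testBit_fixM {w : List ℕ} {p : Fin 4060}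
    (h : ((W w : RuOrder.H) : Equiv.Perm (Fin 4060)) p = p) : ∀ k, (fixM w k).testBit p = true
  | 0 => testBit_U p
  | k + 1 => by
    have e : fixM w (k + 1) = force (fixM w k) (fun S => force (idxMask 12 k) fun P =>
      Nat.xor S (Nat.land S (Nat.xor P (img w P)))) := rfl
    rw [e, force_eq, force_eq]
    change (fixM w k ^^^ (fixM w k &&& (idxMask 12 k ^^^ img w (idxMask 12 k)))).testBit p = true
    have h1 : (img w (idxMask 12 k)).testBit p = (idxMask 12 k).testBit p := by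
      conv_lhs => rw [← h]
      exact testBit_img p _ w
    rw [Nat.testBit_xor, Nat.testBit_and, Nat.testBit_xor, h1, testBit_fixM h k, Bool.xor_self]
    rfl

/-- points of a union of two sets -/
theorem eq_of_testBit_pow {a : ℕ} {p : Fin 4060} (h : (2 ^ a).testBit p = true) : (p : ℕ) = a := by
  rw [Nat.testBit_two_pow] at h
  have : a = (p : ℕ) := by simpa using h
  exact this.symm

/-! ### adjacencies to the images of a point -/

/-- the points of `S` with the same adjacencies as `w` to the points `c a`, `c` in the list -/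
noncomputable def cutW (a w : ℕ) (cs : List (List ℕ)) : ℕ → ℕ :=
  List.rec (fun S => S) (fun c _ ih S => force (ev c a) fun q =>
    force (bif tb (row q) w then Nat.land S (row q) else Nat.xor S (Nat.land S (row q))) ih) cs

theorem cutW_cons (a w : ℕ) (c : List ℕ) (cs : List (List ℕ)) (S : ℕ) : cutW a w (c :: cs) S =
    cutW a w cs (bif tb (row (ev c a)) w then Nat.land S (row (ev c a))
      else Nat.xor S (Nat.land S (row (ev c a)))) := by
  have e : cutW a w (c :: cs) S = force (ev c a) (fun q =>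
    force (bif tb (row q) w then Nat.land S (row q) else Nat.xor S (Nat.land S (row q))) (cutW a w cs)) := rfl
  rw [e, force_eq, force_eq]

theorem cutW_sound {l : RuOrder.H} {a : Fin 4060} (ha : (l : Equiv.Perm (Fin 4060)) a = a) (w : Fin 4060) :
    ∀ (cs : List (List ℕ)) (_ : ∀ c ∈ cs, l * W c = W c * l) (S : ℕ),
      S.testBit ((l : Equiv.Perm (Fin 4060)) w) = true →
      (cutW a w cs S).testBit ((l : Equiv.Perm (Fin 4060)) w) = true
  | [], _, _, hS => hS
  | c :: cs, hc, S, hS => by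
    rw [cutW_cons]
    refine cutW_sound ha w cs (fun c' hc' => hc c' (List.mem_cons_of_mem _ hc')) _ ?_
    have h1 : (l : Equiv.Perm (Fin 4060)) (((W c : RuOrder.H) : Equiv.Perm (Fin 4060)) a) =
        ((W c : RuOrder.H) : Equiv.Perm (Fin 4060)) a := by
      have h2 := congrArg (fun t : RuOrder.H => (t : Equiv.Perm (Fin 4060)) a) (hc c List.mem_cons_self)
      have h3 : (l : Equiv.Perm (Fin 4060)) (((W c : RuOrder.H) : Equiv.Perm (Fin 4060)) a) =
        ((W c : RuOrder.H) : Equiv.Perm (Fin 4060)) ((l : Equiv.Perm (Fin 4060)) a) := h2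
      rw [h3, ha]
    have h2 : (row (ev c a)).testBit ((l : Equiv.Perm (Fin 4060)) w) = (row (ev c a)).testBit w := by
      have h3 := l.2 (((W c : RuOrder.H) : Equiv.Perm (Fin 4060)) a) w
      rw [h1, W_apply] at h3
      exact h3
    rw [tb_eq]
    cases h3 : (row (ev c a)).testBit w
    · rw [cond_false]
      change (S ^^^ (S &&& row (ev c a))).testBit ((l : Equiv.Perm (Fin 4060)) w) = true
      rw [Nat.testBit_xor, Nat.testBit_and, hS, h2, h3]; rfl
    · rw [cond_true]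
      change (S &&& row (ev c a)).testBit ((l : Equiv.Perm (Fin 4060)) w) = true
      rw [Nat.testBit_and, hS, h2, h3]; rfl

/-- words in two words -/
def exu (u0 u1 : List ℕ) : List ℕ → List ℕ
  | [] => []
  | 0 :: c => u0 ++ exu u0 u1 c
  | _ :: c => u1 ++ exu u0 u1 c

theorem comm_exu {u0 u1 : List ℕ} {l : RuOrder.H} (h0 : l * W u0 = W u0 * l) (h1 : l * W u1 = W u1 * l) :
    ∀ c : List ℕ, l * W (exu u0 u1 c) = W (exu u0 u1 c) * l
  | [] => by rw [exu, W_nil, mul_one, one_mul]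
  | 0 :: c => by
    have e : exu u0 u1 (0 :: c) = u0 ++ exu u0 u1 c := rfl
    rw [e, W_append, ← mul_assoc, h0, mul_assoc, comm_exu h0 h1 c, mul_assoc]
  | (n + 1) :: c => by
    have e : exu u0 u1 ((n + 1) :: c) = u1 ++ exu u0 u1 c := rfl
    rw [e, W_append, ← mul_assoc, h1, mul_assoc, comm_exu h0 h1 c, mul_assoc]

theorem comm_map {u0 u1 : List ℕ} {l : RuOrder.H} (h0 : l * W u0 = W u0 * l) (h1 : l * W u1 = W u1 * l)
    (cs : List (List ℕ)) : ∀ c ∈ cs.map (exu u0 u1), l * W c = W c * l := by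
  intro c hc
  obtain ⟨c', _, rfl⟩ := List.mem_map.1 hc
  exact comm_exu h0 h1 c'

/-- an element commuting with the two words and fixing `a` fixes `w` -/
theorem fix_of_cutW {u0 u1 : List ℕ} {l : RuOrder.H} (h0 : l * W u0 = W u0 * l) (h1 : l * W u1 = W u1 * l)
    {a w : Fin 4060} (ha : (l : Equiv.Perm (Fin 4060)) a = a) {cs : List (List ℕ)}
    (h : Nat.beq (cutW a w (cs.map (exu u0 u1)) U) (Nat.pow 2 w) = true) :
    (l : Equiv.Perm (Fin 4060)) w = w := by
  have h2 := cutW_sound ha w (cs.map (exu u0 u1)) (comm_map h0 h1 cs) U (testBit_U _)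
  rw [Nat.eq_of_beq_eq_true h] at h2
  exact Fin.ext (eq_of_testBit_pow h2)

theorem eq_one_of_fix {l : RuOrder.H} (h1 : (l : Equiv.Perm (Fin 4060)) RuOrder.b1 = RuOrder.b1)
    (h2 : (l : Equiv.Perm (Fin 4060)) RuOrder.b2 = RuOrder.b2) (h3 : (l : Equiv.Perm (Fin 4060)) RuOrder.b3 = RuOrder.b3)
    (h4 : (l : Equiv.Perm (Fin 4060)) RuOrder.b4 = RuOrder.b4) : l = 1 :=
  Subtype.ext (eq_one_of_base l.2 h1 h2 h3 h4)

/-- if `l` commutes with `W w` and `W w` fixes `a` then `l a` is in `fixM w` -/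
theorem mem_fixM {w : List ℕ} {l : RuOrder.H} (h : l * W w = W w * l) {a : Fin 4060}
    (ha : Nat.beq (ev w a) a = true) {M : ℕ} (hM : Nat.beq (fixM w 12) M = true) :
    M.testBit ((l : Equiv.Perm (Fin 4060)) a) = true := by
  rw [← Nat.eq_of_beq_eq_true hM]
  apply testBit_fixM
  have h1 : ((W w : RuOrder.H) : Equiv.Perm (Fin 4060)) a = a := by
    apply Fin.ext
    rw [W_apply]
    exact Nat.eq_of_beq_eq_true ha
  have h2 : (l : Equiv.Perm (Fin 4060)) (((W w : RuOrder.H) : Equiv.Perm (Fin 4060)) a) =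
      ((W w : RuOrder.H) : Equiv.Perm (Fin 4060)) ((l : Equiv.Perm (Fin 4060)) a) :=
    congrArg (fun t : RuOrder.H => (t : Equiv.Perm (Fin 4060)) a) h
  rw [← h2, h1]

theorem apply_of_beq {w : List ℕ} {a b : Fin 4060} (h : Nat.beq (ev w a) b = true) :
    ((W w : RuOrder.H) : Equiv.Perm (Fin 4060)) a = b := by
  apply Fin.ext
  rw [W_apply]
  exact Nat.eq_of_beq_eq_true h

/-- `l` does not map `p` to `q` if some `c` commuting with `l` fixes `q` and not `p` -/
theorem swap_false {c : List ℕ} {l : RuOrder.H} (h : l * W c = W c * l) {p q : Fin 4060}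
    (hpq : (l : Equiv.Perm (Fin 4060)) p = q) (hq : Nat.beq (ev c q) q = true)
    (hp : Nat.beq (ev c p) p = false) : False := by
  have h4 : (l : Equiv.Perm (Fin 4060)) (((W c : RuOrder.H) : Equiv.Perm (Fin 4060)) p) =
      ((W c : RuOrder.H) : Equiv.Perm (Fin 4060)) ((l : Equiv.Perm (Fin 4060)) p) :=
    congrArg (fun t : RuOrder.H => (t : Equiv.Perm (Fin 4060)) p) h
  rw [hpq, apply_of_beq hq, ← hpq] at h4
  have h6 := (l : Equiv.Perm (Fin 4060)).injective h4
  have h7 := W_apply p c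
  rw [h6] at h7
  rw [← h7] at hp
  simp at hp

/-- squares of elements commuting with `s` -/
theorem comm_sq {l s : RuOrder.H} (h : ∀ x : RuOrder.H, x * s = s * x → l * (x * x) = (x * x) * l) {x s' : List ℕ}
    (hs : W s' = s) (hx : eqw (x ++ s') (s' ++ x) = true) : l * W (x ++ x) = W (x ++ x) * l := by
  have h1 := eqw_sound hx
  rw [W_append, W_append, hs] at h1
  rw [W_append]
  exact h _ h1

/-- points -/
def p149 : Fin 4060 := ⟨149, by norm_num⟩
def p4045 : Fin 4060 := ⟨4045, by norm_num⟩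
def p2152 : Fin 4060 := ⟨2152, by norm_num⟩
def p416 : Fin 4060 := ⟨416, by norm_num⟩
def p2434 : Fin 4060 := ⟨2434, by norm_num⟩
def p2334 : Fin 4060 := ⟨2334, by norm_num⟩
def p3886 : Fin 4060 := ⟨3886, by norm_num⟩

/-! ### 2A -/

def xa : List ℕ := [4, 7, 3, 7, 1, 2, 7, 5, 2, 2]
def xb : List ℕ := [5, 6, 7]
def za : List ℕ := s5 (RuSyl.gwd 13)

theorem W_za : W za = RuSyl.g 13 := W_s5 _

theorem a1 : eqw (xa ++ za) (za ++ xa) = true := by decide +kernel
theorem a2 : eqw (xb ++ za) (za ++ xb) = true := by decide +kernel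
theorem a3 : Nat.beq (fixM (xa ++ xa) 12) (Nat.lor (Nat.pow 2 149) (Nat.pow 2 4045)) = true := by decide +kernel
theorem a4 : Nat.beq (ev (xa ++ xa) p149) p149 = true := by decide +kernel
theorem a5 : Nat.beq (ev (exu (xa ++ xa) (xb ++ xb) [1, 0, 1, 1, 0, 0, 1]) p149) p149 = false := by decide +kernel
theorem a6 : Nat.beq (ev (exu (xa ++ xa) (xb ++ xb) [1, 0, 1, 1, 0, 0, 1]) p4045) p4045 = true := by decide +kernel
/-- words -/
def csa : List (List ℕ) := [[], [1, 1], [0, 0, 1, 1], [1, 1, 1], [0, 1, 1, 0, 0, 1], [1, 1, 0, 1],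
    [0, 1, 1, 0, 0, 1, 1], [1]]
theorem a7 : Nat.beq (cutW p149 RuOrder.b1 (csa.map (exu (xa ++ xa) (xb ++ xb))) U)
    (Nat.lor (Nat.pow 2 0) (Nat.pow 2 2152)) = true := by decide +kernel
theorem a8 : Nat.beq (cutW RuOrder.b1 RuOrder.b2 ([[1], [1, 1, 0], [1, 1, 0, 1, 0], [0, 1, 0, 1, 0, 1, 1, 1], [1, 0, 1, 0, 0],
    [0, 0, 1, 0, 1, 0], [0, 1, 0, 1, 1, 1]].map (exu (xa ++ xa) (xb ++ xb))) U) (Nat.pow 2 RuOrder.b2) = true := by
  decide +kernel
theorem a9 : Nat.beq (cutW RuOrder.b1 RuOrder.b3 ([[], [1, 0, 0], [0, 0, 1], [0, 0, 1, 1, 0], [1, 1, 0, 0, 1, 0, 1, 1, 0],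
    [0, 1, 1, 0, 0, 0], [0, 1, 1, 1]].map (exu (xa ++ xa) (xb ++ xb))) U) (Nat.pow 2 RuOrder.b3) = true := by
  decide +kernel
theorem a10 : Nat.beq (cutW RuOrder.b1 RuOrder.b4 ([[1], [1, 1, 0], [0, 0, 1, 0, 0], [0, 1, 0, 1, 0, 0, 0], [0, 1, 1, 1, 0, 1, 1, 0],
    [1, 0, 0, 1, 1, 0, 0, 1, 1], [0, 0, 1]].map (exu (xa ++ xa) (xb ++ xb))) U) (Nat.pow 2 RuOrder.b4) = true := by
  decide +kernel
theorem a11 : Nat.beq (ev za p2152) RuOrder.b1 = true := by decide +kernel
theorem a12 : eqw (za ++ za) [] = true := by decide +kernel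

theorem za_sq : RuSyl.g 13 * RuSyl.g 13 = 1 := by
  have h := eqw_sound a12
  rw [W_append, W_za, W_nil] at h
  exact h

theorem eq_one_a {l : RuOrder.H} (h0 : l * W (xa ++ xa) = W (xa ++ xa) * l)
    (h1 : l * W (xb ++ xb) = W (xb ++ xb) * l) (h : (l : Equiv.Perm (Fin 4060)) RuOrder.b1 = RuOrder.b1) : l = 1 :=
  eq_one_of_fix h
    (fix_of_cutW h0 h1 (a := RuOrder.b1) (w := RuOrder.b2) h a8)
    (fix_of_cutW h0 h1 (a := RuOrder.b1) (w := RuOrder.b3) h a9)
    (fix_of_cutW h0 h1 (a := RuOrder.b1) (w := RuOrder.b4) h a10)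

/-- **2A**: the centraliser of the squares of the elements of `C(g 13)` -/
theorem cent_sq_a (l : RuOrder.H)
    (h : ∀ x : RuOrder.H, x * RuSyl.g 13 = RuSyl.g 13 * x → l * (x * x) = (x * x) * l) :
    l = 1 ∨ l = RuSyl.g 13 := by
  have h0 := comm_sq h W_za a1
  have h1 := comm_sq h W_za a2
  have hz0 : RuSyl.g 13 * W (xa ++ xa) = W (xa ++ xa) * RuSyl.g 13 := by
    have h2 := eqw_sound a1
    rw [W_append, W_append, W_za] at h2
    rw [W_append, ← mul_assoc, ← h2, mul_assoc, ← h2, mul_assoc]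
  have hz1 : RuSyl.g 13 * W (xb ++ xb) = W (xb ++ xb) * RuSyl.g 13 := by
    have h2 := eqw_sound a2
    rw [W_append, W_append, W_za] at h2
    rw [W_append, ← mul_assoc, ← h2, mul_assoc, ← h2, mul_assoc]
  have hp : (l : Equiv.Perm (Fin 4060)) p149 = p149 := by
    have h2 := mem_fixM h0 (a := p149) a4 a3
    change (2 ^ 149 ||| 2 ^ 4045).testBit ((l : Equiv.Perm (Fin 4060)) p149) = true at h2
    rw [Nat.testBit_or, Bool.or_eq_true] at h2
    rcases h2 with h2 | h2
    · exact Fin.ext (eq_of_testBit_pow h2)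
    · exfalso
      have hpq : (l : Equiv.Perm (Fin 4060)) p149 = p4045 := Fin.ext (eq_of_testBit_pow h2)
      exact swap_false (comm_exu h0 h1 [1, 0, 1, 1, 0, 0, 1]) hpq a6 a5
  have h2 := cutW_sound hp RuOrder.b1 _ (comm_map h0 h1 csa) U (testBit_U _)
  rw [Nat.eq_of_beq_eq_true a7] at h2
  have h3 : (2 ^ 0 ||| 2 ^ 2152).testBit ((l : Equiv.Perm (Fin 4060)) RuOrder.b1) = true := h2
  rw [Nat.testBit_or, Bool.or_eq_true] at h3
  rcases h3 with h3 | h3
  · left
    exact eq_one_a h0 h1 (Fin.ext (eq_of_testBit_pow h3))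
  · right
    have h4 : ((RuSyl.g 13 * l : RuOrder.H) : Equiv.Perm (Fin 4060)) RuOrder.b1 = RuOrder.b1 := by
      have h6 : (l : Equiv.Perm (Fin 4060)) RuOrder.b1 = p2152 := Fin.ext (eq_of_testBit_pow h3)
      have h5 : ((RuSyl.g 13 : RuOrder.H) : Equiv.Perm (Fin 4060)) p2152 = RuOrder.b1 := by
        rw [← W_za]
        exact apply_of_beq a11
      change ((RuSyl.g 13 : RuOrder.H) : Equiv.Perm (Fin 4060)) ((l : Equiv.Perm (Fin 4060)) RuOrder.b1) = RuOrder.b1
      rw [h6]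
      exact h5
    have h5 : RuSyl.g 13 * l = 1 := by
      refine eq_one_a ?_ ?_ h4
      · rw [mul_assoc, h0, ← mul_assoc, hz0, mul_assoc]
      · rw [mul_assoc, h1, ← mul_assoc, hz1, mul_assoc]
    calc l = RuSyl.g 13 * (RuSyl.g 13 * l) := by rw [← mul_assoc, za_sq, one_mul]
      _ = RuSyl.g 13 := by rw [h5, mul_one]

/-! ### 2B -/

def xc : List ℕ := [0, 2, 1, 7, 4, 1, 5, 3, 3]
def xd : List ℕ := [0, 3, 5, 3, 3, 0, 5, 0]
/-- the word of `g 0` -/
def zb : List ℕ := [5]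
/-- conjugates `g 0` to `v` -/
def w1 : List ℕ := [1, 3, 6, 5, 0, 6, 1]
def w1' : List ℕ := [0, 6, 1, 5, 6, 2, 0]
/-- conjugates `g 0` to `g 0 v` -/
def w2 : List ℕ := [0, 6, 1, 5, 6, 2, 0]
def w2' : List ℕ := [1, 3, 6, 5, 0, 6, 1]
/-- the word of `v` -/
def zv : List ℕ := w1 ++ (zb ++ w1')

theorem W_zb : W zb = RuSyl.g 0 := by
  have h : zb = s5 (RuSyl.gwd 0) := rfl
  rw [h]; exact W_s5 _

theorem b1' : eqw (xc ++ zb) (zb ++ xc) = true := by decide +kernel
theorem b2' : eqw (xd ++ zb) (zb ++ xd) = true := by decide +kernel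
theorem b3' : eqw (w1 ++ w1') [] = true := by decide +kernel
theorem b4' : eqw (w2 ++ (zb ++ w2')) (zb ++ zv) = true := by decide +kernel
theorem b5' : eqw (zv ++ zb) (zb ++ zv) = true := by decide +kernel
theorem b6' : eqw (zv ++ (xc ++ xc)) ((xc ++ xc) ++ zv) = true := by decide +kernel
theorem b7' : eqw (zv ++ (xd ++ xd)) ((xd ++ xd) ++ zv) = true := by decide +kernel
theorem b8' : Nat.beq (fixM (xc ++ xc) 12)
    (Nat.lor (Nat.lor (Nat.pow 2 416) (Nat.pow 2 2434)) (Nat.lor (Nat.pow 2 2334) (Nat.pow 2 3886))) = true := by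
  decide +kernel
theorem b9' : Nat.beq (ev (xc ++ xc) p416) p416 = true := by decide +kernel
theorem b10' : Nat.beq (ev zb p416) p2434 = true := by decide +kernel
theorem b11' : Nat.beq (ev zv p416) p2334 = true := by decide +kernel
theorem b12' : Nat.beq (ev (zb ++ zv) p416) p3886 = true := by decide +kernel
theorem b13' : Nat.beq (cutW p416 RuOrder.b1 ([[], [1, 1], [1, 0, 0, 0, 0, 1], [1, 0, 0, 1, 1, 0, 1, 1],
    [0, 0, 1, 1, 0, 1, 1, 0, 0, 1], [0, 0, 0, 0, 1, 1], [1, 0, 0, 1]].map (exu (xc ++ xc) (xd ++ xd))) U)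
    (Nat.pow 2 RuOrder.b1) = true := by decide +kernel
theorem b14' : Nat.beq (cutW p416 RuOrder.b2 ([[0, 1], [0, 0, 0, 1], [0, 1, 1, 1], [0, 1, 0, 0, 0, 1, 1, 1, 1],
    [1, 1, 0, 0, 1, 1], [1, 1, 0, 1, 0, 1, 0, 1], [0, 0, 1, 0, 0, 1, 1]].map (exu (xc ++ xc) (xd ++ xd))) U)
    (Nat.pow 2 RuOrder.b2) = true := by decide +kernel
theorem b15' : Nat.beq (cutW p416 RuOrder.b3 ([[1], [0, 0, 0, 0, 1], [0, 0, 1, 1, 0, 1], [1, 1, 0, 1, 1, 1],
    [0, 0, 1, 1, 1, 1, 0, 1], [1, 1, 1, 0, 0, 0, 0, 1, 0, 1], [0, 0, 1, 1]].map (exu (xc ++ xc) (xd ++ xd))) U)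
    (Nat.pow 2 RuOrder.b3) = true := by decide +kernel
theorem b16' : Nat.beq (cutW p416 RuOrder.b4 ([[0, 1], [0, 0, 0, 1], [1, 0, 0, 1, 1], [0, 1, 1, 0, 1, 1, 0, 0, 1],
    [0, 0, 0, 0, 0, 0, 1], [1, 1, 0, 0, 0, 1, 1, 1, 0, 1], [0, 0, 1, 0, 1, 0, 1]].map
    (exu (xc ++ xc) (xd ++ xd))) U) (Nat.pow 2 RuOrder.b4) = true := by decide +kernel
theorem b17' : eqw (w2 ++ w2') [] = true := by decide +kernel

theorem eq_one_b {l : RuOrder.H} (h0 : l * W (xc ++ xc) = W (xc ++ xc) * l)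
    (h1 : l * W (xd ++ xd) = W (xd ++ xd) * l)
    (h : (l : Equiv.Perm (Fin 4060)) p416 = p416) : l = 1 :=
  eq_one_of_fix
    (fix_of_cutW h0 h1 (a := p416) (w := RuOrder.b1) h b13')
    (fix_of_cutW h0 h1 (a := p416) (w := RuOrder.b2) h b14')
    (fix_of_cutW h0 h1 (a := p416) (w := RuOrder.b3) h b15')
    (fix_of_cutW h0 h1 (a := p416) (w := RuOrder.b4) h b16')

/-- the second involution of the four-group -/
noncomputable def v : RuOrder.H := W zv

theorem v_comm : v * RuSyl.g 0 = RuSyl.g 0 * v := by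
  have h := eqw_sound b5'
  rw [W_append zv zb, W_append zb zv, W_zb] at h
  exact h

theorem isConj_v : IsConj (RuSyl.g 0) v := by
  have h := eqw_sound b3'
  rw [W_append, W_nil] at h
  have h1 : W w1' = (W w1)⁻¹ := (inv_eq_of_mul_eq_one_right h).symm
  refine isConj_iff.2 ⟨W w1, ?_⟩
  rw [v, zv, W_append w1, W_append zb, W_zb, h1, mul_assoc]

theorem isConj_bv : IsConj (RuSyl.g 0) (RuSyl.g 0 * v) := by
  have h := eqw_sound b17'
  rw [W_append, W_nil] at h
  have h1 : W w2' = (W w2)⁻¹ := (inv_eq_of_mul_eq_one_right h).symm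
  refine isConj_iff.2 ⟨W w2, ?_⟩
  have h2 := eqw_sound b4'
  rw [W_append w2, W_append zb w2', W_append zb zv, W_zb, h1] at h2
  rw [mul_assoc]
  exact h2

theorem eq_of_apply {l t : RuOrder.H} (h0 : l * W (xc ++ xc) = W (xc ++ xc) * l)
    (h1 : l * W (xd ++ xd) = W (xd ++ xd) * l) (t0 : t * W (xc ++ xc) = W (xc ++ xc) * t)
    (t1 : t * W (xd ++ xd) = W (xd ++ xd) * t)
    (h : (l : Equiv.Perm (Fin 4060)) p416 = (t : Equiv.Perm (Fin 4060)) p416) :
    l = t := by
  have h2 : t⁻¹ * l = 1 := by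
    refine eq_one_b ?_ ?_ ?_
    · have h3 : t⁻¹ * W (xc ++ xc) = W (xc ++ xc) * t⁻¹ := (Commute.inv_left (show Commute t _ from t0)).eq
      rw [mul_assoc, h0, ← mul_assoc, h3, mul_assoc]
    · have h3 : t⁻¹ * W (xd ++ xd) = W (xd ++ xd) * t⁻¹ := (Commute.inv_left (show Commute t _ from t1)).eq
      rw [mul_assoc, h1, ← mul_assoc, h3, mul_assoc]
    · change (t : Equiv.Perm (Fin 4060))⁻¹ ((l : Equiv.Perm (Fin 4060)) p416) = _
      rw [h]
      exact inv_self _ _
  exact (inv_mul_eq_one.1 h2).symm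

/-- **2B**: the centraliser of the squares of the elements of `C(g 0)` -/
theorem cent_sq_b (l : RuOrder.H)
    (h : ∀ x : RuOrder.H, x * RuSyl.g 0 = RuSyl.g 0 * x → l * (x * x) = (x * x) * l) :
    l = 1 ∨ l = RuSyl.g 0 ∨ l = v ∨ l = RuSyl.g 0 * v := by
  have h0 := comm_sq h W_zb b1'
  have h1 := comm_sq h W_zb b2'
  have z0 : RuSyl.g 0 * W (xc ++ xc) = W (xc ++ xc) * RuSyl.g 0 := by
    have h2 := eqw_sound b1'
    rw [W_append, W_append, W_zb] at h2
    rw [W_append, ← mul_assoc, ← h2, mul_assoc, ← h2, mul_assoc]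
  have z1 : RuSyl.g 0 * W (xd ++ xd) = W (xd ++ xd) * RuSyl.g 0 := by
    have h2 := eqw_sound b2'
    rw [W_append, W_append, W_zb] at h2
    rw [W_append, ← mul_assoc, ← h2, mul_assoc, ← h2, mul_assoc]
  have v0 : v * W (xc ++ xc) = W (xc ++ xc) * v := by
    have h2 := eqw_sound b6'
    rw [W_append zv (xc ++ xc), W_append (xc ++ xc) zv] at h2
    exact h2
  have v1 : v * W (xd ++ xd) = W (xd ++ xd) * v := by
    have h2 := eqw_sound b7'
    rw [W_append zv (xd ++ xd), W_append (xd ++ xd) zv] at h2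
    exact h2
  have h2 := mem_fixM h0 (a := p416) b9' b8'
  change ((2 ^ 416 ||| 2 ^ 2434) ||| (2 ^ 2334 ||| 2 ^ 3886)).testBit
    ((l : Equiv.Perm (Fin 4060)) p416) = true at h2
  rw [Nat.testBit_or, Nat.testBit_or, Nat.testBit_or, Bool.or_eq_true, Bool.or_eq_true, Bool.or_eq_true] at h2
  rcases h2 with (h2 | h2) | (h2 | h2)
  · left
    exact eq_one_b h0 h1 (Fin.ext (eq_of_testBit_pow h2))
  · right; left
    have h3 : (l : Equiv.Perm (Fin 4060)) p416 = p2434 := Fin.ext (eq_of_testBit_pow h2)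
    refine eq_of_apply h0 h1 z0 z1 ?_
    rw [h3, ← W_zb]
    exact (apply_of_beq b10').symm
  · right; right; left
    have h3 : (l : Equiv.Perm (Fin 4060)) p416 = p2334 := Fin.ext (eq_of_testBit_pow h2)
    refine eq_of_apply h0 h1 v0 v1 ?_
    rw [h3, v]
    exact (apply_of_beq b11').symm
  · right; right; right
    have h3 : (l : Equiv.Perm (Fin 4060)) p416 = p3886 := Fin.ext (eq_of_testBit_pow h2)
    refine eq_of_apply h0 h1 ?_ ?_ ?_
    · rw [mul_assoc, v0, ← mul_assoc, z0, mul_assoc]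
    · rw [mul_assoc, v1, ← mul_assoc, z1, mul_assoc]
    · have h4 : RuSyl.g 0 * v = W (zb ++ zv) := by rw [W_append zb zv, W_zb, v]
      rw [h3, h4]
      exact (apply_of_beq b12').symm

/-- the statement of the 2B facts -/
theorem exists_four : ∃ v : RuOrder.H, v * RuSyl.g 0 = RuSyl.g 0 * v ∧ IsConj (RuSyl.g 0) v ∧
    IsConj (RuSyl.g 0) (RuSyl.g 0 * v) ∧ ∀ l : RuOrder.H,
      (∀ x : RuOrder.H, x * RuSyl.g 0 = RuSyl.g 0 * x → l * (x * x) = (x * x) * l) →
      l = 1 ∨ l = RuSyl.g 0 ∨ l = v ∨ l = RuSyl.g 0 * v :=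
  ⟨v, v_comm, isConj_v, isConj_bv, cent_sq_b⟩

end Cfsg.Agent.OddHalf.Table.RuInvCent

end

-- merged: Cfsg.Agent.KFacts.RuDbl.Pairs
section

/-!
# The facts (P1), (P2) for `2.Ru`

For a finite perfect group `L` with centre of order 2 and `L / Z(L)` the Rudvalis group: every automorphism of `L` is
inner, `PairFree L` and `SqDiff L`.
-/

set_option autoImplicit false
set_option maxRecDepth 100000
set_option exponentiation.threshold 5000

namespace Cfsg.Agent.KFacts.RuDbl.Pairs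

open Subgroup Cfsg.Agent.SporadicB Cfsg.Agent.Schreier Cfsg.Agent.Schreier.RuSyl
open Cfsg.Agent.KFacts.RuDbl.Four Cfsg.Agent.KFacts.RuDbl.Rel Cfsg.Agent.KFacts.RuDbl.Main
open Cfsg.Agent.KFacts.MulTwo Cfsg.Agent.KFacts.MulDef Cfsg.Agent.KFacts.MulLift
open Cfsg.Agent.OddHalf.D9.J2.Facts (exists_bar eq_one_of_bar inner_of_bar)
open Cfsg.Agent.OddHalf.D4.EvenCyc (PairFree SqDiff)
open scoped commutatorElement

universe u

variable {L : Type u} [Group L] {π : L →* RuOrder.H} {c : L}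

theorem map_c (hd : Dbl π c) (hZ : ∀ x ∈ center L, x = 1 ∨ x = c) (α : MulAut L) : α c = c := by
  have h1 : α c ∈ center L := by
    rw [mem_center_iff]
    intro x
    obtain ⟨y, rfl⟩ := α.surjective x
    rw [← map_mul, ← map_mul, hd.cen]
  rcases hZ _ h1 with h | h
  · exact absurd ((map_eq_one_iff α α.injective).1 h) hd.ne
  · exact h

theorem bar_invol (hd : Dbl π c) (hZ : ∀ x ∈ center L, x = 1 ∨ x = c) {k : L}
    (h : MulAut.conj k * MulAut.conj k = 1) (h1 : MulAut.conj k ≠ 1) : π k * π k = 1 ∧ π k ≠ 1 := by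
  constructor
  · rw [← map_mul]
    have h2 : k * k ∈ center L := by
      rw [mem_center_iff]
      intro x
      have h3 := congrArg (fun γ : MulAut L => γ x) h
      have h4 : k * (k * x * k⁻¹) * k⁻¹ = x := h3
      calc x * (k * k) = (k * (k * x * k⁻¹) * k⁻¹) * (k * k) := by rw [h4]
        _ = _ := by group
    exact (hd.ker _).2 (hZ _ h2)
  · intro h2
    apply h1
    rcases (hd.ker k).1 h2 with h3 | h3
    · rw [h3, map_one]
    · ext x
      show k * x * k⁻¹ = x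
      rw [h3, hd.cen]; group

/-- the automorphisms of `L` are inner -/
theorem inner (hd : Dbl π c) (hZ : ∀ x ∈ center L, x = 1 ∨ x = c) (α : MulAut L) : ∃ k : L, α = MulAut.conj k := by
  obtain ⟨δ, hδ⟩ := exists_bar hd α (map_c hd hZ α)
  obtain ⟨g, hg⟩ := Cfsg.Agent.OddHalf.Table.OutRu.inner δ
  obtain ⟨k, rfl⟩ := hd.surj g
  refine ⟨k, inner_of_bar hd α k fun x => ?_⟩
  rw [← hδ, hg]; rfl

theorem pi_comm (hd : Dbl π c) {k l : L} (h : ∀ x, k * x = x * k → l * x = x * l) (y : RuOrder.H)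
    (hy : y * π k = π k * y) : π l * (y * y) = (y * y) * π l := by
  obtain ⟨x, rfl⟩ := hd.surj y
  have h1 : k * (x * x) = x * x * k := by
    rcases eq_or hd (x := x * k) (y := k * x) (by rw [map_mul, map_mul, hy]) with h1 | h1
    · rw [← mul_assoc, ← h1, mul_assoc, ← h1, mul_assoc]
    · calc k * (x * x) = k * x * x := by rw [mul_assoc]
        _ = k * x * x * (c * c) := by rw [hd.sq, mul_one]
        _ = (k * x * c) * x * c := by rw [mul_assoc (k * x) c x, hd.cen x]; simp only [mul_assoc]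
        _ = x * k * x * c := by rw [← h1]
        _ = x * (k * x * c) := by simp only [mul_assoc]
        _ = x * x * k := by rw [← h1, mul_assoc]
  rw [← map_mul, ← map_mul, h _ h1, map_mul]

/-- an involution commuting with the centraliser of `k` -/
theorem cent_of [Finite L] (hd : Dbl π c) {k l : L} (hk2 : π k * π k = 1) (hk1 : π k ≠ 1)
    (h : ∀ x, k * x = x * k → l * x = x * l) : π l = 1 ∨ π l = π k := by
  have hconj : ∀ g : L, (∀ x, (g⁻¹ * k * g) * x = x * (g⁻¹ * k * g) → (g⁻¹ * l * g) * x = x * (g⁻¹ * l * g)) := by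
    intro g x hx
    have h1 := h (g * x * g⁻¹) (by
      calc k * (g * x * g⁻¹) = g * ((g⁻¹ * k * g) * x) * g⁻¹ := by group
        _ = g * (x * (g⁻¹ * k * g)) * g⁻¹ := by rw [hx]
        _ = _ := by group)
    calc (g⁻¹ * l * g) * x = g⁻¹ * (l * (g * x * g⁻¹)) * g := by group
      _ = g⁻¹ * ((g * x * g⁻¹) * l) * g := by rw [h1]
      _ = _ := by group
  have hback : ∀ g : L, (π (g⁻¹ * l * g) = 1 ∨ π (g⁻¹ * l * g) = π (g⁻¹ * k * g)) → π l = 1 ∨ π l = π k := by
    intro g hg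
    rcases hg with hg | hg
    · left
      rw [map_mul, map_mul, map_inv] at hg
      calc π l = π g * ((π g)⁻¹ * π l * π g) * (π g)⁻¹ := by group
        _ = 1 := by rw [hg]; group
    · right
      rw [map_mul, map_mul, map_inv, map_mul, map_mul, map_inv] at hg
      exact mul_left_cancel (mul_right_cancel hg)
  rcases Cfsg.Agent.OddHalf.Table.RuInv.isConj_or hk2 hk1 with h1 | h1
  · obtain ⟨g, hg⟩ := isConj_iff.1 h1
    obtain ⟨g, rfl⟩ := hd.surj g
    have hk' : π (g⁻¹ * k * g) = RuSyl.g 13 := by rw [map_mul, map_mul, map_inv, ← hg]; group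
    apply hback g
    rw [hk']
    apply Cfsg.Agent.OddHalf.Table.RuInvCent.cent_sq_a
    intro x hx
    exact pi_comm hd (hconj g) x (by rw [hk', hx])
  · obtain ⟨g, hg⟩ := isConj_iff.1 h1
    obtain ⟨g, rfl⟩ := hd.surj g
    have hk' : π (g⁻¹ * k * g) = RuSyl.g 0 := by rw [map_mul, map_mul, map_inv, ← hg]; group
    apply hback g
    have h2 := hconj g
    generalize g⁻¹ * k * g = k' at hk' h2
    generalize g⁻¹ * l * g = l' at h2
    rw [hk']
    obtain ⟨v, v1, v2, v3, v4⟩ := Cfsg.Agent.OddHalf.Table.RuInvCent.exists_four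
    have hcomm : l' * k' = k' * l' := h2 k' rfl
    have h0 : IsConj (RuSyl.g 0) (π k') := by rw [hk']
    have hgg := sq_g (i := 0) (by norm_num)
    have hcc : ⁅k', l'⁆ = 1 := commutatorElement_eq_one_iff_mul_comm.2 hcomm.symm
    rcases v4 (π l') (fun x hx => pi_comm hd h2 x (by rw [hk', hx])) with h3 | h3 | h3 | h3
    · exact Or.inl h3
    · exact Or.inr h3
    · exact absurd ((comm_ne hd h0 (by rw [h3]; exact v2) (by rw [map_mul, hk', h3]; exact v3)).symm.trans hcc) hd.ne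
    · exact absurd ((comm_ne hd h0 (by rw [h3]; exact v3) (by
        rw [map_mul, hk', h3, ← mul_assoc, hgg, one_mul]; exact v2)).symm.trans hcc) hd.ne

/-- **(P1)** -/
theorem pairFree [Finite L] (hd : Dbl π c) (hZ : ∀ x ∈ center L, x = 1 ∨ x = c) : PairFree L := by
  intro α β hαα hββ hαβ hα1 hβ1 hne h1 h2
  obtain ⟨k, rfl⟩ := inner hd hZ α
  obtain ⟨l, rfl⟩ := inner hd hZ β
  obtain ⟨h3, h4⟩ := bar_invol hd hZ hαα hα1
  rcases cent_of hd h3 h4 (fun x hx => by
      have h5 : l * x * l⁻¹ = x := h1 x (by show k * x * k⁻¹ = x; rw [hx]; group)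
      exact mul_inv_eq_iff_eq_mul.1 h5) with h | h
  · exact (bar_invol hd hZ hββ hβ1).2 h
  · apply hne
    rw [inner_of_bar hd (MulAut.conj k) l fun x => by
      show π (k * x * k⁻¹) = _
      rw [map_mul, map_mul, map_inv, h]]

theorem g13_ne : RuSyl.g 13 ≠ 1 := fun h =>
  Cfsg.Agent.OddHalf.Table.RuInv.g_notMem (k := 13) (by norm_num) (h ▸ one_mem _)

theorem diff_eq {i k : ℕ} (h : eqw (gwd k ++ (gwd i ++ gwd 13)) (gwd i ++ gwd k) = true) :
    (g i * (g k)⁻¹ * (g i)⁻¹) * g k = g i * (g 13)⁻¹ * (g i)⁻¹ := by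
  have h1 := eqw_sound h
  rw [W_append, W_append, W_append] at h1
  have h2 : g k * (g i * g 13) = g i * g k := h1
  have h3 : g i * g 13 = (g k)⁻¹ * (g i * g k) := by rw [← h2]; group
  calc (g i * (g k)⁻¹ * (g i)⁻¹) * g k = g i * ((g k)⁻¹ * (g i * g k))⁻¹ := by group
    _ = g i * (g i * g 13)⁻¹ := by rw [h3]
    _ = _ := by group

/-- **(P2)** -/
theorem sqDiff [Finite L] (hd : Dbl π c) (hZ : ∀ x ∈ center L, x = 1 ∨ x = c) : SqDiff L := by
  intro α hαα hα1
  obtain ⟨k, rfl⟩ := inner hd hZ α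
  obtain ⟨h3, h4⟩ := bar_invol hd hZ hαα hα1
  have key : ∀ y : L, IsConj (g 13) (π y) → y ∉ center L ∧ y * y = 1 := by
    intro y hy
    refine ⟨fun h => ?_, goodA hd hy⟩
    have h1 : π y = 1 := (hd.ker y).2 (hZ y h)
    rw [h1] at hy
    exact g13_ne (isConj_one_left.1 hy)
  have hinv : (g 13)⁻¹ = g 13 :=
    inv_eq_of_mul_eq_one_left Cfsg.Agent.OddHalf.Table.RuInvCent.za_sq
  have main : ∀ i j : ℕ, eqw (gwd j ++ (gwd i ++ gwd 13)) (gwd i ++ gwd j) = true → IsConj (g i) (π k) →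
      ∃ x : L, (MulAut.conj k x)⁻¹ * x ∉ center L ∧ ((MulAut.conj k x)⁻¹ * x) * ((MulAut.conj k x)⁻¹ * x) = 1 := by
    intro i j h hc
    obtain ⟨m, hm⟩ := isConj_iff.1 hc
    obtain ⟨m, rfl⟩ := hd.surj m
    obtain ⟨z, hz⟩ := hd.surj (g j)
    refine ⟨m * z * m⁻¹, key _ ?_⟩
    have h5 : π ((MulAut.conj k (m * z * m⁻¹))⁻¹ * (m * z * m⁻¹)) = π m * (g i * (g 13)⁻¹ * (g i)⁻¹) * (π m)⁻¹ := by
      rw [← diff_eq h]
      show π ((k * (m * z * m⁻¹) * k⁻¹)⁻¹ * (m * z * m⁻¹)) = _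
      simp only [map_mul, map_inv]
      rw [← hm, hz]
      group
    rw [h5, hinv]
    exact isConj_iff.2 ⟨π m * g i, by group⟩
  rcases Cfsg.Agent.OddHalf.Table.RuInv.isConj_or h3 h4 with h | h
  · refine main 2 12 chkZ2 (IsConj.trans ?_ h)
    have := conjA' [2] (by decide)
    rw [W_ex, List.map_cons, List.map_nil, List.prod_cons, List.prod_nil, mul_one] at this
    exact this.symm
  · exact main 0 5 chkZ0 h

/-- **(P1) and (P2) for `2.Ru`.** -/
theorem main {L : Type u} [Group L] [Finite L] (hp : commutator L = ⊤) (h2 : Nat.card ↥(center L) = 2)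
    (e : L ⧸ center L ≃* Cfsg.Spor.Ru) : PairFree L ∧ SqDiff L := by
  obtain ⟨c, hc1, -⟩ := (Nat.card_eq_two_iff' (1 : center L)).1 h2
  have hc1' : (c : L) ≠ 1 := fun h => hc1 (Subtype.ext h)
  have hZ : ∀ x ∈ center L, x = 1 ∨ x = (c : L) := fun x hx =>
    (Cfsg.Agent.OddHalf.D9.J2.Row.mem_center_iff_of_card h2 c.2 hc1' x).1 hx
  let f : L ⧸ center L ≃* RuOrder.H := e.trans Cfsg.Agent.RuLat.Main.equiv
  have hd : Dbl (f.toMonoidHom.comp (QuotientGroup.mk' (center L))) (c : L) := by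
    refine ⟨⟨hc1', ?_, ?_, hp⟩, f.surjective.comp (QuotientGroup.mk'_surjective _), ?_⟩
    · rcases hZ _ (mul_mem c.2 c.2) with h | h
      · exact h
      · exact absurd (mul_eq_left.1 h) hc1'
    · intro x
      exact (mem_center_iff.1 c.2 x).symm
    · intro x
      constructor
      · intro hx
        have h3 : f (QuotientGroup.mk' (center L) x) = 1 := hx
        rw [map_eq_one_iff f f.injective] at h3
        exact hZ x ((QuotientGroup.eq_one_iff x).1 h3)
      · intro hx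
        have h3 : x ∈ center L := by
          rcases hx with rfl | rfl
          · exact one_mem _
          · exact c.2
        show f (QuotientGroup.mk' (center L) x) = 1
        rw [map_eq_one_iff f f.injective]
        exact (QuotientGroup.eq_one_iff x).2 h3
  exact ⟨pairFree hd hZ, sqDiff hd hZ⟩

end Cfsg.Agent.KFacts.RuDbl.Pairs

end

-- merged: Cfsg.Agent.OddHalf.D4.Final.Cov
section

/-!
# ODD half, D4: the rows with `Z(K) ≠ 1` (helper228, integrator)

`rowsCov`: the structure `D4.Cut.RowsCov` from S0205 (`KillAnyRow.FT`) and the reduction of the theorem on TI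
subgroups (`Core.MainTI`).
-/

set_option autoImplicit false

namespace Cfsg.Agent.OddHalf.D4.Final.Cov

open Subgroup Cfsg Cfsg.Agent.OddHalf.Iface Cfsg.Agent.OddHalf.D4 Cfsg.Agent.OddHalf.D9.Cut
  Cfsg.Agent.OddHalf.D4.EvenCyc

universe u

/-- a row from (P1) and (P2), cyclic centre -/
theorem row_cyc {P : (K : Type u) → [Group K] → Prop}
    (h : ∀ (K : Type u) [Group K] [Finite K], commutator K = ⊤ → P K →
      IsCyclic ↥(center K) ∧ center K ≠ ⊥ ∧ PairFree K ∧ SqDiff K) : Cut.Row0.{u} P := by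
  intro G _ C K S hr hP
  have := C.fin
  obtain ⟨h1, h2, h3, h4⟩ := h ↥K S.std.1.1.commutator_eq_top hP
  exact hr (EvenCyc.row C S h1 h2 h3 h4)

theorem cyc_of_two {K : Type u} [Group K] (h : Nat.card ↥(center K) = 2) :
    IsCyclic ↥(center K) ∧ center K ≠ ⊥ := by
  have : Fact (Nat.Prime 2) := ⟨Nat.prime_two⟩
  refine ⟨isCyclic_of_prime_card h, ?_⟩
  intro h1
  rw [h1, card_bot] at h
  omega

/-- a row from (P1) and (P2), centre of order 2 -/
theorem row_two {P : (X : Type u) → [Group X] → Prop}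
    (h : ∀ (K : Type u) [Group K] [Finite K], commutator K = ⊤ → Nat.card ↥(center K) = 2 → P (K ⧸ center K) →
      PairFree K ∧ SqDiff K) : Cut.Row0.{u} (fun K _ => Two P K) :=
  row_cyc fun K _ _ hK hP => ⟨(cyc_of_two hP.1).1, (cyc_of_two hP.1).2, h K hK hP.1 hP.2⟩

/-- `Ω₈⁺(2)` has no tied pair of involutions -/
theorem not_tied_o82 {X : Type u} [Group X] (h : XO82 X) : ¬ D9.Gamma.Tied X := by
  obtain ⟨F, i1, i2, hF, ⟨e⟩⟩ := h
  exact fun hX => D9.GamO8.not_tied hF (hX.of_equiv e)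

/-- `²E₆(2)` has no tied pair of involutions -/
theorem not_tied_2e62 {X : Type u} [Group X] (h : X2E62 X) : ¬ D9.Gamma.Tied X := by
  obtain ⟨F, i1, i2, hF, ⟨e⟩⟩ := h
  exact fun hX => D9.GamE6Inst.not_tied hF (hX.of_equiv e)

/-- **`2².Ω₈⁺(2)`** -/
theorem v_o82 (T : D9.RankTwo.Core.MainTI.{u}) : Cut.Row0.{u} (fun K _ => Cut.Vier (fun X _ => XO82 X) K) :=
  (D9.RankTwo.RowsD4.v_row T D9.RankTwo.RowsFull.rows (fun _ _ h => not_tied_o82 h)
    (fun _ _ _ hp h4 hX => KFacts.Mult.OEightInner.center_inner hp h4 hX)).row0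

/-- **`2².²E₆(2)`** -/
theorem v_2e62 (T : D9.RankTwo.Core.MainTI.{u}) : Cut.Row0.{u} (fun K _ => Cut.Vier (fun X _ => X2E62 X) K) :=
  (D9.RankTwo.RowsD4.v_row T D9.RankTwo.RowsFull.rows (fun _ _ h => not_tied_2e62 h)
    (fun _ _ _ hp h4 hX => KFacts.Mult.TwESixInner.center_inner hp h4 hX)).row0

/-- **The rows with `Z(K) ≠ 1`.** -/
theorem rowsCov (ft : D9.KillAnyRow.FT.{u}) (T : D9.RankTwo.Core.MainTI.{u}) : Cut.RowsCov.{u} where
  l34 := Cov.L34.row
  o82 := row_two fun K _ _ hK h2 hX => by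
    obtain ⟨e⟩ := D9.EEight.RowFinal.ident K inferInstance hK h2 hX
    exact ⟨EvenEEight.pairFree e D9.EEight.RowFinal.autConj, EvenEEight.sqDiff e D9.EEight.RowFinal.autConj⟩
  g24 := fun G _ C K S _ h => D9.G24.Final.g24_any ft G C K S h
  f42 := row_two fun K _ _ hK h2 hX => EvenF42.main hK hX (cyc_of_two h2).2
  sz8 := EvenSzRow.sz8
  m12 := D9.TwoM12.d4_row
  j2 := row_two fun K _ _ hK h2 hX => D9.J2.PFacts.main hK h2 hX
  suz := Spor.TwoSuz.suz
  ru := row_two fun _ _ _ hK h2 hX => by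
    obtain ⟨e⟩ := hX
    exact KFacts.RuDbl.Pairs.main hK h2 e
  co1 := row_two fun K _ _ hK h2 hX => ⟨Spor.TwoCo1.pairFree hK h2 hX, Spor.TwoCo1.sqDiff hK h2 hX⟩
  m22 := row_two fun K _ _ hK _ hX => ⟨M22.Main.pairFree hK hX, M22.Main.sqDiff hK hX⟩
  m22four := row_cyc fun K _ _ hK hP => by
    obtain ⟨h4, hc, hX⟩ := hP
    refine ⟨hc, ?_, M22.Main.pairFree hK hX, M22.Main.sqDiff hK hX⟩
    intro h
    rw [h, card_bot] at h4
    omega
  v_u62 := (D9.RankTwo.RowsU.v_u62 T D9.RankTwo.RowsFull.rows).row0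
  v_o82 := v_o82 T
  v_2e62 := v_2e62 T
  v_sz8 := (D9.RankTwo.RowsD4.v_sz8 T D9.RankTwo.RowsFull.rows).row0
  non_l34 := D9.RankTwo.RowsD4.non_l34 T D9.RankTwo.RowsFull.rows

end Cfsg.Agent.OddHalf.D4.Final.Cov

end
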