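import Cfsg.Agent.OddHalf.Iface
import Cfsg.Agent.StdU3.EndLie
import Cfsg.Agent.OddHalf.Small.PslChar
import Cfsg.Agent.OddHalf.Small.RankOne
import Cfsg.Agent.OddHalf.Small.Sp
import Mathlib
import Cfsg.Agent.OddHalf.D4.Spor.Row
import Cfsg.Agent.OddHalf.D4.Spor.NoSE
import Cfsg.Agent.OddHalf.D9.RankTwo.Core
import Cfsg.Agent.StdSz.EndClosed
import Cfsg.Agent.StrongEmb.Split

-- merged: Cfsg.Agent.OddHalf.D4.Sz.Kill1170
section

/-!
# A counterexample to S1765 has no strongly closed subgroup of class two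

From S1170 (and, for the Suzuki groups, the theorem on simple groups of order prime to 3). The groups in the list of
S1170 are `L₂(q)` (sectional rank at most 4), `A₇`, or of characteristic 2 type.
-/

set_option autoImplicit false

namespace Cfsg.Agent.OddHalf.D4.Sz.Kill1170

open Subgroup Cfsg Cfsg.Agent.OddHalf.Iface

universe u

/-- Simple groups of order prime to 3 are Suzuki groups (`ThreePrime.Main.isoSuzuki`). -/
def ThreeStmt : Prop :=
  ∀ (G : Type u) [Group G] [Finite G] [IsSimpleGroup G], (∃ a b : G, a * b ≠ b * a) → ¬ 3 ∣ Nat.card G →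
    Lie.IsoSuzuki G

/-- If `2 ^ (k + 1)` does not divide the order of `G`, then the sectional 2-rank of `G` is at most `k`. -/
theorem sect_of_not_dvd {G : Type*} [Group G] [Finite G] {k : ℕ} (h : ¬ 2 ^ (k + 1) ∣ Nat.card G) :
    SectionalPRankLE 2 k G := by
  have : Fact (Nat.Prime 2) := ⟨Nat.prime_two⟩
  intro H N _ A _ hA
  by_contra hcon
  push Not at hcon
  have hp : IsPGroup 2 ↥A := fun a => ⟨1, by rw [pow_one]; exact Subtype.ext (hA a a.2)⟩
  obtain ⟨n, hn⟩ := hp.exists_card_eq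
  rw [hn] at hcon
  have hk : k + 1 ≤ n := (Nat.pow_lt_pow_iff_right (by norm_num)).1 hcon
  apply h
  calc 2 ^ (k + 1) ∣ 2 ^ n := pow_dvd_pow 2 hk
    _ = Nat.card ↥A := hn.symm
    _ ∣ Nat.card (↥H ⧸ N) := Subgroup.card_subgroup_dvd_card A
    _ ∣ Nat.card ↥H := Subgroup.card_quotient_dvd_card N
    _ ∣ Nat.card G := Subgroup.card_subgroup_dvd_card H

/-- The exponent of an even prime power. -/
theorem exists_pow {q : ℕ} {F : Type} [Field F] [Fintype F] (hF : Fintype.card F = q ^ 2) (hq : Even q)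
    (h4 : 4 ≤ q) : ∃ n : ℕ, 1 ≤ n ∧ q = 2 ^ n := by
  obtain ⟨p, hp⟩ := CharP.exists F
  obtain ⟨n, hpr, hn⟩ := FiniteField.card F p
  have h2 : 2 ∣ p ^ (n : ℕ) := by
    rw [← hn, hF]
    exact dvd_pow (even_iff_two_dvd.1 hq) (by norm_num)
  have hp2 : p = 2 := ((Nat.prime_dvd_prime_iff_eq Nat.prime_two hpr).1 (Nat.prime_two.dvd_of_dvd_pow h2)).symm
  subst hp2
  have hd : q ∣ 2 ^ (n : ℕ) := by
    rw [← hn, hF]
    exact dvd_pow_self q (by norm_num)
  obtain ⟨k, -, hk⟩ := (Nat.dvd_prime_pow Nat.prime_two).1 hd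
  refine ⟨k, ?_, hk⟩
  rcases Nat.eq_zero_or_pos k with h0 | h0
  · rw [h0, pow_zero] at hk
    omega
  · exact h0

/-- **A counterexample to S1765 has no strongly closed subgroup of class two.** -/
theorem false_of_closed {G : Type u} [Group G] (C : Ctx G) (h1170 : Cfsg.Agent.StdSz.Out.S1170Stmt.{u})
    (h3p : ThreeStmt.{u}) (S : Sylow 2 G) (A : Subgroup G) (hAS : IsStronglyClosed A (S : Subgroup G))
    (hA1 : ¬ IsMulCommutative A) (hA2 : ⁅(⊤ : Subgroup A), ⊤⁆ ≤ center A) : False := by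
  have hfin := C.fin
  have hs := C.simple
  rcases h1170 G S A hAS hA1 hA2 with h | h | h | h | h | h
  · obtain ⟨K, _, _, hK, ⟨e⟩⟩ := h
    refine C.sect5 (sect_of_not_dvd (k := 4) ?_)
    intro hd
    refine Cfsg.Agent.StdU3.EndLie.not_sixteen_dvd_psl hK ?_
    rw [← Nat.card_congr e.toEquiv]
    exact (by norm_num : (16 : ℕ) ∣ 2 ^ (4 + 1)).trans hd
  · obtain ⟨K, _, _, q, hK, hq, hq4, he⟩ := h
    obtain ⟨n, hn, rfl⟩ := exists_pow hK hq hq4
    exact C.notTwo (Small.RankOne.u3 K n hn hK he)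
  · have h3 := Cfsg.Agent.StdU3.EndLie.not_three_dvd_suzuki h
    refine C.notTwo (Small.RankOne.sz (h3p G ?_ h3))
    by_contra hcon
    push Not at hcon
    exact C.na ⟨⟨hcon⟩⟩
  · obtain ⟨K, _, _, hc, ⟨e⟩⟩ := h
    exact C.notTwo (Small.PslChar.psl (ringChar.eq K 2) (by norm_num) e)
  · obtain ⟨K, _, _, hc, -, ⟨e⟩⟩ := h
    exact C.notTwo (Small.Generic.isCharacteristicTwoType_congr e.symm (Small.Sp.charTwo_PSp (by norm_num)))
  · exact C.nc (Or.inr (Or.inl ⟨7, Or.inl rfl, h⟩))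

/-- Element form: `S` is a Sylow 2-subgroup of `G`, `A ≤ S` is strongly closed and not abelian, commutators of `A`
are central in `A`. -/
theorem false_of_closed' {G : Type u} [Group G] (C : Ctx G) (h1170 : Cfsg.Agent.StdSz.Out.S1170Stmt.{u})
    (h3p : ThreeStmt.{u}) (S : Sylow 2 G) (A : Subgroup G) (hAS : A ≤ (S : Subgroup G))
    (hcl : ∀ a ∈ A, ∀ g : G, g * a * g⁻¹ ∈ (S : Subgroup G) → g * a * g⁻¹ ∈ A)
    (hna : ∃ a ∈ A, ∃ b ∈ A, a * b ≠ b * a)
    (hc2 : ∀ a ∈ A, ∀ b ∈ A, ∀ c ∈ A, (a * b * a⁻¹ * b⁻¹) * c = c * (a * b * a⁻¹ * b⁻¹)) : False := by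
  refine false_of_closed C h1170 h3p S A ⟨hAS, hcl⟩ ?_ ?_
  · rintro ⟨⟨h⟩⟩
    obtain ⟨a, ha, b, hb, hab⟩ := hna
    exact hab (congrArg Subtype.val (h ⟨a, ha⟩ ⟨b, hb⟩))
  · rw [Subgroup.commutator_le]
    intro x _ y _
    rw [mem_center_iff]
    intro z
    exact Subtype.ext (hc2 x x.2 y y.2 z z.2).symm

/-- **A counterexample to S1765 has no Sylow 2-subgroup of class two.** -/
theorem false_of_sylow {G : Type u} [Group G] (C : Ctx G) (h1170 : Cfsg.Agent.StdSz.Out.S1170Stmt.{u})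
    (h3p : ThreeStmt.{u}) (S : Sylow 2 G) (hna : ∃ a ∈ (S : Subgroup G), ∃ b ∈ (S : Subgroup G), a * b ≠ b * a)
    (hc2 : ∀ a ∈ (S : Subgroup G), ∀ b ∈ (S : Subgroup G), ∀ c ∈ (S : Subgroup G),
      (a * b * a⁻¹ * b⁻¹) * c = c * (a * b * a⁻¹ * b⁻¹)) : False :=
  false_of_closed' C h1170 h3p S S le_rfl (fun _ _ _ h => h) hna hc2

end Cfsg.Agent.OddHalf.D4.Sz.Kill1170

end

-- merged: Cfsg.Agent.OddHalf.D4.Final.Given
section

/-!
# ODD half, D4: the listed statements which are used (helper228, integrator)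
-/

set_option autoImplicit false

namespace Cfsg.Agent.OddHalf.D4.Final

open Subgroup Cfsg Cfsg.Agent.OddHalf.D4

universe u

/-- the listed statements used by D4: S1173, S0205, the main theorem behind S1179, S1170, simple groups of order prime
to 3, S1169, Bender's theorem on strongly embedded subgroups -/
structure Given : Prop where
  h1173 : Start.P1173.{u}
  hFT : Spor.FTT.{u}
  hTI : D9.RankTwo.Core.MainTI.{u}
  h1170 : Cfsg.Agent.StdSz.Out.S1170Stmt.{u}
  h3p : Sz.Kill1170.ThreeStmt.{u}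
  gold : Cfsg.Agent.StdSz.EndClosed.Gold.{u}
  hBen : ∀ (Y : Type u) [Group Y] [Finite Y], Cfsg.Agent.StrongEmb.Split.BenderHolds Y

/-- one central involution excludes strongly embedded subgroups -/
theorem pse : Spor.PSE.{u} := fun _ _ _ _ hna z1 => Spor.noSE hna z1

end Cfsg.Agent.OddHalf.D4.Final

end
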