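import Cfsg.Agent.OddCyclic.CoverSz
import Cfsg.Agent.KFacts.MulDef
import Cfsg.Agent.S1162
import Mathlib
import Cfsg.Agent.OddHalf.D4.MultOf
import Cfsg.Agent.OddHalf.D4.NC.Inst
import Cfsg.Agent.OddHalf.D9.RankTwo.RowsU
import Cfsg.Agent.OddHalf.D9.MultAll
import Cfsg.Agent.KFacts.RuDbl.One

-- merged: Cfsg.Agent.KFacts.Mult.SuzND
section

/-!
# `Sz(q)`, `q > 8`, has no perfect double cover
-/

set_option autoImplicit false

namespace Cfsg.Agent.KFacts.Mult.SuzND

open Subgroup Cfsg.Agent.KFacts.MulDef Cfsg.Agent.KFacts.MulTwo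

/-- The centre of a perfect double cover of a group with trivial centre. -/
theorem center_eq_ker {L X : Type*} [Group L] [Group X] {π : L →* X} {c : L} (hd : Dbl π c)
    (hX : center X = ⊥) : center L = π.ker := by
  ext z
  rw [MonoidHom.mem_ker]
  constructor
  · intro hz
    have h1 : π z ∈ center X := by
      rw [mem_center_iff]
      intro y
      obtain ⟨y, rfl⟩ := hd.surj y
      rw [← map_mul, ← map_mul, mem_center_iff.1 hz y]
    rwa [hX, mem_bot] at h1
  · intro hz
    rw [mem_center_iff]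
    intro y
    rcases (hd.ker z).1 hz with rfl | rfl
    · rw [mul_one, one_mul]
    · exact (hd.cen y).symm

/-- The centre of a perfect simple group is trivial. -/
theorem center_eq_bot_of_simple {X : Type*} [Group X] [IsSimpleGroup X] (h : commutator X = ⊤) : center X = ⊥ := by
  rcases (inferInstance : (center X).Normal).eq_bot_or_eq_top with h1 | h1
  · exact h1
  · exfalso
    have h2 : commutator X = ⊥ := by
      rw [commutator_def, Subgroup.commutator_eq_bot_iff_le_centralizer]
      intro x _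
      rw [mem_centralizer_iff]
      intro y _
      have hx : x ∈ center X := by rw [h1]; trivial
      exact (mem_center_iff.1 hx y)
    rw [h] at h2
    exact top_ne_bot h2

/-- **`Sz(q)`, `q > 8`, has no perfect double cover.** -/
theorem noDouble {F : Type} [Field F] [Fintype F] {m : ℕ} (hm : 2 ≤ m) (hF : Fintype.card F = 2 ^ (2 * m + 1)) :
    NoDouble ↥(Lie.Sz F (2 ^ (m + 1))) := by
  intro L _ _ π c hd
  have hs : IsSimpleGroup ↥(Lie.Sz F (2 ^ (m + 1))) := Cfsg.Agent.S1162.result (by omega) hF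
  have hperf : commutator ↥(Lie.Sz F (2 ^ (m + 1))) = ⊤ := commutator_top_of_surj π hd.surj hd.perf
  have hker := center_eq_ker hd (center_eq_bot_of_simple hperf)
  have h2 : IsPGroup 2 (center L) := by
    rintro ⟨z, hz⟩
    refine ⟨1, Subtype.ext ?_⟩
    show z ^ 2 ^ 1 = 1
    rw [hker, MonoidHom.mem_ker, hd.ker] at hz
    rcases hz with rfl | rfl
    · simp
    · rw [pow_one, pow_two, hd.sq]
  have e : L ⧸ center L ≃* ↥(Lie.Sz F (2 ^ (m + 1))) :=
    (QuotientGroup.quotientMulEquivOfEq hker).trans (QuotientGroup.quotientKerEquivOfSurjective π hd.surj)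
  have h3 := Cfsg.Agent.OddCyclic.CoverSz.center_eq_bot hd.perf h2 hm hF e
  have h4 : c ∈ center L := by
    rw [mem_center_iff]
    exact fun y => (hd.cen y).symm
  rw [h3, mem_bot] at h4
  exact hd.ne h4

end Cfsg.Agent.KFacts.Mult.SuzND

end

-- merged: Cfsg.Agent.OddHalf.D4.Final.Mult
section

/-!
# ODD half, D4: the multiplier facts (helper228, integrator)
-/

set_option autoImplicit false

namespace Cfsg.Agent.OddHalf.D4.Final.Mult

open Subgroup Cfsg Cfsg.Agent.OddHalf.D4 Cfsg.Agent.OddHalf.D4.MultOf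

universe u

/-- the rows of `Ru` (theorems: `opn`) -/
structure Open : Prop where
  /-- `Mult` of D9 -/
  two : D9.MultAll.Two.Missing.{u}
  ru : NonCyc.{u} (fun X _ => Spor.IsoRu X)

/-- the double cover of `Ru` is unique -/
theorem oneCover_ru (X : Type u) [Group X] (h : Spor.IsoRu X) : Cfsg.Agent.KFacts.MulBound.OneCover X := by
  obtain ⟨e⟩ := h
  exact Cfsg.Agent.KFacts.MulBaer.OneCover.congr Cfsg.Agent.KFacts.RuDbl.One.oneCover_spor e.symm

/-- there is no open row -/
theorem opn : Open.{u} where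
  two := ⟨D9.MultOf.Bd.of_oneCover oneCover_ru⟩
  ru := NonCyc.of_oneCover oneCover_ru

/-- **`Mult`** of D9. -/
theorem mult (o : Open.{u}) : D9.Cut.Mult.{u} := D9.MultAll.mult_of o.two

/-- **`MultD4`**. -/
theorem multD4 (o : Open.{u}) : Cut.MultD4.{u} :=
  multD4_of D9.MultAll.Spor.sporND D9.MultAll.Lie.lieND (NC.Inst.ncRows o.ru)
    (NC.Inst.vRows D9.RankTwo.RowsU.u62All
      (fun _ _ _ _ hm hF => KFacts.Mult.SuzND.noDouble hm hF))

end Cfsg.Agent.OddHalf.D4.Final.Mult

end
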