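import Mathlib
import Cfsg.Agent.OddHalf.D4.Small.KU33
import Cfsg.Agent.OddHalf.Small.PSp43
import Cfsg.Agent.S0765
import Cfsg.Agent.ClassicalGeometry.SympBasic
import Cfsg.Agent.OddHalf.D4.Small.Row
import Cfsg.Agent.OddHalf.D6.QThree.U43Facts
import Cfsg.Agent.LargeExtra.W2.U43.InvClass
import Cfsg.Agent.LargeExtra.W2.U43.ThreeLocJ
import Cfsg.Agent.LargeExtra.W2.U43.Ident
import Cfsg.Agent.OddHalf.D4.Small.Core
import Cfsg.Agent.OddHalf.D4.Small.LFourDef
import Cfsg.Agent.OddHalf.D4.Start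
import Cfsg.Agent.OddHalf.D4.RowL2o
import Cfsg.Agent.OddHalf.D4.LThreeTwo
import Cfsg.Agent.OddHalf.D4.Small.KL33
import Cfsg.Agent.OddHalf.D4.Small.RowG23
import Cfsg.Agent.OddHalf.NI.RowsD4
import Cfsg.Agent.OddHalf.NI3.Final

-- merged: Cfsg.Agent.OddHalf.D4.Small.KPSp43
section

/-!
# ODD, D4, small Lie odd: the facts on `PSp₄(3)`

`z = (1, -1)`, `C(z) = (SL₂(3) * SL₂(3)).2`, `R = Q₈ * Q₈`, `S = R⟨t⟩`, `A = 2⁴`. Normal form of the elements of
`C(z)`: `e p q` and `t * e p q`.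
-/

set_option autoImplicit false

namespace Cfsg.Agent.OddHalf.D4.Small.KPSp43

open Matrix Subgroup Cfsg
open Cfsg.Agent.Lib.FieldThree (F3)
open Cfsg.Agent.SmallSimple.S1000.Order25920PSp (Mat Sp π π_mul π_one π_eq π_ne_one m1 m2 m3 m4 Q0 gens)
open Cfsg.Agent.OddHalf.Small.PSp43 (bm bm_mul bm_inj exists_bm det_of_mem J_eq bm_transpose m4_conj m43 comm_or
  eq_or_of_π_eq inv_eq_of_mul bm_mul_inv m4_inv' m4_eq)

/-! ### pairs of `2 × 2` matrices -/

/-- `2 × 2` matrices -/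
abbrev P4 := F3 × F3 × F3 × F3

/-- product -/
def ml (p q : P4) : P4 := (p.1 * q.1 + p.2.1 * q.2.2.1, p.1 * q.2.1 + p.2.1 * q.2.2.2,
  p.2.2.1 * q.1 + p.2.2.2 * q.2.2.1, p.2.2.1 * q.2.1 + p.2.2.2 * q.2.2.2)
/-- determinant -/
def dt (p : P4) : F3 := p.1 * p.2.2.2 - p.2.1 * p.2.2.1
/-- negative -/
def ng (p : P4) : P4 := (-p.1, -p.2.1, -p.2.2.1, -p.2.2.2)
/-- inverse -/
def iv (p : P4) : P4 := (p.2.2.2, -p.2.1, -p.2.2.1, p.1)
/-- one -/
def o4 : P4 := (1, 0, 0, 1)
/-- `i` -/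
def i4 : P4 := (0, -1, 1, 0)
/-- `j` -/
def j4 : P4 := (1, 1, 1, -1)
/-- `k` -/
def k4 : P4 := ml i4 j4
/-- order 3 -/
def d4 : P4 := (1, 1, 0, 1)

/-- `Q₈` -/
def L8 : List P4 := [o4, ng o4, i4, ng i4, j4, ng j4, k4, ng k4]

theorem dt_ml_aux : ∀ a b c d a' b' c' d' : F3, dt (a, b, c, d) = 1 → dt (a', b', c', d') = 1 →
    dt (ml (a, b, c, d) (a', b', c', d')) = 1 := by
  intro a b c d a' b' c' d' h h'
  have h1 : a * d - b * c = 1 := h
  have h2 : a' * d' - b' * c' = 1 := h'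
  show (a * a' + b * c') * (c * b' + d * d') - (a * b' + b * d') * (c * a' + d * c') = 1
  linear_combination (a' * d' - b' * c') * h1 + h2

theorem dt_ml {p q : P4} (hp : dt p = 1) (hq : dt q = 1) : dt (ml p q) = 1 := by
  obtain ⟨a, b, c, d⟩ := p
  obtain ⟨a', b', c', d'⟩ := q
  exact dt_ml_aux _ _ _ _ _ _ _ _ hp hq

theorem dt_iv {p : P4} (hp : dt p = 1) : dt (iv p) = 1 := by
  obtain ⟨a, b, c, d⟩ := p
  have h1 : a * d - b * c = 1 := hp
  show d * a - -b * -c = 1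
  linear_combination h1

theorem dt_ng {p : P4} (hp : dt p = 1) : dt (ng p) = 1 := by
  obtain ⟨a, b, c, d⟩ := p
  have h1 : a * d - b * c = 1 := hp
  show -a * -d - -b * -c = 1
  linear_combination h1

theorem ml_assoc (p q r : P4) : ml (ml p q) r = ml p (ml q r) := by
  simp only [ml, Prod.mk.injEq]
  refine ⟨?_, ?_, ?_, ?_⟩ <;> ring

theorem ml_o (p : P4) : ml p o4 = p := by
  obtain ⟨a, b, c, d⟩ := p
  simp [ml, o4]

theorem o_ml (p : P4) : ml o4 p = p := by
  obtain ⟨a, b, c, d⟩ := p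
  simp [ml, o4]

theorem ml_iv {p : P4} (hp : dt p = 1) : ml p (iv p) = o4 := by
  obtain ⟨a, b, c, d⟩ := p
  have h1 : a * d - b * c = 1 := hp
  simp only [ml, iv, o4, Prod.mk.injEq]
  refine ⟨?_, ?_, ?_, ?_⟩
  · linear_combination h1
  · ring
  · ring
  · linear_combination h1

theorem dt_o : dt o4 = 1 := by decide
theorem dt_i : dt i4 = 1 := by decide
theorem dt_j : dt j4 = 1 := by decide
theorem dt_k : dt k4 = 1 := by decide
theorem dt_d : dt d4 = 1 := by decide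

theorem L_dt : ∀ p ∈ L8, dt p = 1 := by decide +kernel
theorem L_ml : ∀ p ∈ L8, ∀ q ∈ L8, ml p q ∈ L8 := by decide +kernel
theorem L_iv : ∀ p ∈ L8, iv p ∈ L8 := by decide +kernel
theorem L_ng : ∀ p ∈ L8, ng p ∈ L8 := by decide +kernel
theorem L_o : o4 ∈ L8 := by decide +kernel
theorem L_i : i4 ∈ L8 := by decide +kernel
theorem L_j : j4 ∈ L8 := by decide +kernel
theorem L_k : k4 ∈ L8 := by decide +kernel
theorem L_four : ∀ p ∈ L8, ml (ml p p) (ml p p) = o4 := by decide +kernel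
set_option synthInstance.maxHeartbeats 400000 in
set_option synthInstance.maxSize 4000 in
theorem L_conj_aux : ∀ a b c d : F3, dt (a, b, c, d) = 1 → ∀ r ∈ L8,
    ml (ml (a, b, c, d) r) (iv (a, b, c, d)) ∈ L8 := by decide +kernel
theorem L_conj {p r : P4} (hp : dt p = 1) (hr : r ∈ L8) : ml (ml p r) (iv p) ∈ L8 := by
  obtain ⟨a, b, c, d⟩ := p
  exact L_conj_aux _ _ _ _ hp r hr

theorem ng_ne_aux : ∀ a b c d : F3, dt (a, b, c, d) = 1 → (a, b, c, d) ≠ ng (a, b, c, d) := by decide +kernel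
theorem ng_ne {p : P4} (hp : dt p = 1) : p ≠ ng p := by
  obtain ⟨a, b, c, d⟩ := p
  exact ng_ne_aux _ _ _ _ hp

theorem ng_ng (p : P4) : ng (ng p) = p := by
  obtain ⟨a, b, c, d⟩ := p
  simp [ng]

set_option synthInstance.maxHeartbeats 400000 in
set_option synthInstance.maxSize 4000 in
theorem sc_aux : ∀ a b c d : F3, dt (a, b, c, d) = 1 → ml (a, b, c, d) i4 = ml i4 (a, b, c, d) →
    ml (a, b, c, d) j4 = ml j4 (a, b, c, d) → (a, b, c, d) = o4 ∨ (a, b, c, d) = ng o4 := by decide +kernel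
theorem sc {p : P4} (hp : dt p = 1) (hi : ml p i4 = ml i4 p) (hj : ml p j4 = ml j4 p) : p = o4 ∨ p = ng o4 := by
  obtain ⟨a, b, c, d⟩ := p
  exact sc_aux _ _ _ _ hp hi hj

theorem mi_aux : ∀ a b c d : F3, dt (a, b, c, d) = 1 → ml (a, b, c, d) i4 ≠ (a, b, c, d) ∧
    ml (a, b, c, d) i4 ≠ ng (a, b, c, d) := by decide +kernel
theorem mi {p : P4} (hp : dt p = 1) : ml p i4 ≠ p ∧ ml p i4 ≠ ng p := by
  obtain ⟨a, b, c, d⟩ := p
  exact mi_aux _ _ _ _ hp

set_option synthInstance.maxHeartbeats 400000 in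
set_option synthInstance.maxSize 4000 in
theorem nq_aux : ∀ a b c d : F3, dt (a, b, c, d) = 1 →
    (ml (a, b, c, d) i4 = ml i4 (a, b, c, d) ∨ ml (a, b, c, d) i4 = ng (ml i4 (a, b, c, d))) →
    (ml (a, b, c, d) j4 = ml j4 (a, b, c, d) ∨ ml (a, b, c, d) j4 = ng (ml j4 (a, b, c, d))) →
    (a, b, c, d) ∈ L8 := by decide +kernel
theorem nq {p : P4} (hp : dt p = 1) (hi : ml p i4 = ml i4 p ∨ ml p i4 = ng (ml i4 p))
    (hj : ml p j4 = ml j4 p ∨ ml p j4 = ng (ml j4 p)) : p ∈ L8 := by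
  obtain ⟨a, b, c, d⟩ := p
  exact nq_aux _ _ _ _ hp hi hj

/-! ### the block matrices -/

/-- the block matrix -/
def mk (p q : P4) : Mat := bm ![p.1, q.1] ![p.2.1, q.2.1] ![p.2.2.1, q.2.2.1] ![p.2.2.2, q.2.2.2]

theorem mk_mul (p q p' q' : P4) : mk p q * mk p' q' = mk (ml p p') (ml q q') := by
  unfold mk
  rw [bm_mul]
  congr 1 <;> funext i <;> fin_cases i <;> rfl

theorem mk_inj {p q p' q' : P4} (h : mk p q = mk p' q') : p = p' ∧ q = q' := by
  obtain ⟨h1, h2, h3, h4⟩ := bm_inj h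
  refine ⟨?_, ?_⟩
  · exact Prod.ext (congrFun h1 0) (Prod.ext (congrFun h2 0) (Prod.ext (congrFun h3 0) (congrFun h4 0)))
  · exact Prod.ext (congrFun h1 1) (Prod.ext (congrFun h2 1) (Prod.ext (congrFun h3 1) (congrFun h4 1)))

theorem mk_neg (p q : P4) : -(mk p q) = mk (ng p) (ng q) := by
  unfold mk bm
  rw [fromBlocks_neg, diagonal_neg, diagonal_neg, diagonal_neg, diagonal_neg]
  congr 2 <;> funext i <;> fin_cases i <;> rfl

theorem m4_mk (p q : P4) : (m4 : Mat) * mk p q * m4 = mk q p := by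
  unfold mk
  rw [m4_conj]
  congr 1 <;> funext i <;> fin_cases i <;> rfl

theorem m3_mk : (m3 : Mat) = mk o4 (ng o4) := by decide +kernel
theorem m1_mk : (m1 : Mat) = mk i4 i4 := by decide +kernel
theorem m2_mk : (m2 : Mat) = mk j4 j4 := by decide +kernel
theorem one_mk : (1 : Mat) = mk o4 o4 := by decide +kernel

theorem block_of {g : Sp} (h : (g : Mat) * m3 = (m3 : Mat) * g) : ∃ p q : P4, (g : Mat) = mk p q ∧ dt p = 1 ∧
    dt q = 1 := by
  obtain ⟨a, b, c, d, hg⟩ := exists_bm h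
  have hd := det_of_mem (hg ▸ g.2)
  refine ⟨(a 0, b 0, c 0, d 0), (a 1, b 1, c 1, d 1), ?_, hd 0, hd 1⟩
  rw [hg]
  unfold mk
  congr 1 <;> funext i <;> fin_cases i <;> rfl

theorem bm_mem {a b c d : Fin 2 → F3} (h : ∀ i, a i * d i - b i * c i = 1) :
    bm a b c d ∈ Matrix.symplecticGroup (Fin 2) F3 := by
  rw [SymplecticGroup.mem_iff, J_eq, bm_transpose, bm_mul, bm_mul]
  congr 1 <;> funext i <;> have hi := h i <;>
    simp only [Pi.add_apply, Pi.mul_apply, Pi.neg_apply, Pi.zero_apply, Pi.one_apply]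
  · ring
  · linear_combination -hi
  · linear_combination hi
  · ring

theorem mk_mem {p q : P4} (hp : dt p = 1) (hq : dt q = 1) : mk p q ∈ Matrix.symplecticGroup (Fin 2) F3 := by
  apply bm_mem
  intro i
  fin_cases i
  · exact hp
  · exact hq

/-- the element of `Sp` -/
def el (p q : P4) (hp : dt p = 1) (hq : dt q = 1) : Sp := ⟨mk p q, mk_mem hp hq⟩

/-- the element of `K` -/
noncomputable def e (p q : P4) : PSp 2 F3 :=
  open Classical in if h : dt p = 1 ∧ dt q = 1 then π (el p q h.1 h.2) else 1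

theorem e_def {p q : P4} (hp : dt p = 1) (hq : dt q = 1) : e p q = π (el p q hp hq) := dif_pos ⟨hp, hq⟩

/-- `z` -/
noncomputable abbrev z : PSp 2 F3 := π m3
/-- `t` -/
noncomputable abbrev t : PSp 2 F3 := π m4

theorem e_mul {p q p' q' : P4} (hp : dt p = 1) (hq : dt q = 1) (hp' : dt p' = 1) (hq' : dt q' = 1) :
    e p q * e p' q' = e (ml p p') (ml q q') := by
  rw [e_def hp hq, e_def hp' hq', e_def (dt_ml hp hp') (dt_ml hq hq'), ← π_mul]
  congr 1
  exact Subtype.ext (mk_mul _ _ _ _)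

theorem e_one : e o4 o4 = 1 := by
  rw [e_def dt_o dt_o, ← π_one]
  congr 1
  exact Subtype.ext one_mk.symm

theorem e_inv {p q : P4} (hp : dt p = 1) (hq : dt q = 1) : (e p q)⁻¹ = e (iv p) (iv q) := by
  rw [inv_eq_iff_mul_eq_one, e_mul hp hq (dt_iv hp) (dt_iv hq), ml_iv hp, ml_iv hq, e_one]

theorem e_eq {p q p' q' : P4} (hp : dt p = 1) (hq : dt q = 1) (hp' : dt p' = 1) (hq' : dt q' = 1)
    (h : e p q = e p' q') : (p = p' ∧ q = q') ∨ (p = ng p' ∧ q = ng q') := by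
  rw [e_def hp hq, e_def hp' hq'] at h
  rcases eq_or_of_π_eq h with h1 | h1
  · exact Or.inl (mk_inj h1)
  · right
    have h2 : mk p q = -(mk p' q') := h1
    rw [mk_neg] at h2
    exact mk_inj h2

theorem e_ng {p q : P4} (hp : dt p = 1) (hq : dt q = 1) : e (ng p) (ng q) = e p q := by
  rw [e_def hp hq, e_def (dt_ng hp) (dt_ng hq)]
  exact π_eq (Or.inr (mk_neg p q).symm)

theorem m4_m4 : m4 * m4 = 1 := by
  nth_rw 1 [← m4_inv']
  exact inv_mul_cancel _

theorem t_t : t * t = 1 := by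
  rw [← π_mul, m4_m4, π_one]

theorem t_e {p q : P4} (hp : dt p = 1) (hq : dt q = 1) : t * e p q = e q p * t := by
  rw [e_def hp hq, e_def hq hp, ← π_mul, ← π_mul]
  congr 1
  apply Subtype.ext
  show (m4 : Mat) * mk p q = mk q p * m4
  have h4 : (m4 : Mat) * m4 = 1 := congrArg Subtype.val m4_m4
  rw [← m4_mk p q, mul_assoc, h4, mul_one]

theorem e_ne {p q p' q' : P4} (hp : dt p = 1) (hq : dt q = 1) (hp' : dt p' = 1) (hq' : dt q' = 1) :
    e p q ≠ t * e p' q' := by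
  intro h
  have h1 : t = e (ml p (iv p')) (ml q (iv q')) := by
    rw [← e_mul hp hq (dt_iv hp') (dt_iv hq'), ← e_inv hp' hq', h]
    group
  rw [e_def (dt_ml hp (dt_iv hp')) (dt_ml hq (dt_iv hq'))] at h1
  have key : ∀ p q : P4, mk p q * (m3 : Mat) = (m3 : Mat) * mk p q := by
    intro p q
    rw [m3_mk, mk_mul, mk_mul]
    congr 1
    · rw [ml_o, o_ml]
    · obtain ⟨a, b, c, d⟩ := q
      simp [ml, ng, o4]
  have h2 : (m4 : Mat) * m3 = (m3 : Mat) * m4 := by
    rcases eq_or_of_π_eq h1 with h3 | h3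
    · rw [h3]; exact key _ _
    · rw [h3, neg_mul, mul_neg]
      congr 1
      exact key _ _
  rw [m43] at h2
  have h3 : ¬ (-((m3 : Mat) * m4) = (m3 : Mat) * m4) := by decide +kernel
  exact h3 h2

theorem z_eq : z = e o4 (ng o4) := by
  rw [e_def dt_o (dt_ng dt_o)]
  exact π_eq (Or.inl m3_mk)

theorem z_eq' : z = e (ng o4) o4 := by
  rw [z_eq, ← e_ng (dt_ng dt_o) dt_o, ng_ng]

theorem z_comm {p q : P4} (hp : dt p = 1) (hq : dt q = 1) : e p q * z = z * e p q := by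
  rw [z_eq, e_mul hp hq dt_o (dt_ng dt_o), e_mul dt_o (dt_ng dt_o) hp hq, ml_o, o_ml]
  congr 1
  obtain ⟨a, b, c, d⟩ := q
  simp [ml, ng, o4]

theorem t_z : t * z = z * t := by
  rw [z_eq, t_e dt_o (dt_ng dt_o), ← z_eq, ← z_eq']

/-- **normal form in `C(z)`** -/
theorem cent_z {x : PSp 2 F3} (hx : x * z = z * x) : ∃ p q : P4, dt p = 1 ∧ dt q = 1 ∧
    (x = e p q ∨ x = t * e p q) := by
  obtain ⟨g, rfl⟩ := QuotientGroup.mk_surjective x
  rcases comm_or (x := g) (y := m3) hx with h | h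
  · obtain ⟨p, q, hg, hp, hq⟩ := block_of h
    refine ⟨p, q, hp, hq, Or.inl ?_⟩
    rw [e_def hp hq]
    exact π_eq (x := g) (Or.inl hg)
  · have h2 : ((m4 * g : Sp) : Mat) * m3 = m3 * ((m4 * g : Sp) : Mat) := by
      show (m4 : Mat) * g * m3 = m3 * (m4 * g)
      rw [mul_assoc, h, mul_neg, ← mul_assoc, m43, neg_mul, neg_neg, mul_assoc]
    obtain ⟨p, q, hg, hp, hq⟩ := block_of h2
    refine ⟨p, q, hp, hq, Or.inr ?_⟩
    rw [e_def hp hq]
    have h3 : π (m4 * g) = π (el p q hp hq) := π_eq (Or.inl hg)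
    rw [← h3, π_mul, ← mul_assoc, t_t, one_mul]
    rfl

/-! ### `R` and `S` -/

/-- `R` -/
noncomputable def R : Subgroup (PSp 2 F3) where
  carrier := {x | ∃ p ∈ L8, ∃ q ∈ L8, x = e p q}
  mul_mem' := by
    rintro _ _ ⟨p, hp, q, hq, rfl⟩ ⟨p', hp', q', hq', rfl⟩
    exact ⟨_, L_ml p hp p' hp', _, L_ml q hq q' hq', e_mul (L_dt p hp) (L_dt q hq) (L_dt p' hp') (L_dt q' hq')⟩
  one_mem' := ⟨o4, L_o, o4, L_o, e_one.symm⟩
  inv_mem' := by
    rintro _ ⟨p, hp, q, hq, rfl⟩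
    exact ⟨_, L_iv p hp, _, L_iv q hq, e_inv (L_dt p hp) (L_dt q hq)⟩

theorem e_R {p q : P4} (hp : p ∈ L8) (hq : q ∈ L8) : e p q ∈ R := ⟨p, hp, q, hq, rfl⟩

theorem t_R_t {x : PSp 2 F3} (hx : x ∈ R) : t * x * t ∈ R := by
  obtain ⟨p, hp, q, hq, rfl⟩ := hx
  rw [t_e (L_dt p hp) (L_dt q hq), mul_assoc, t_t, mul_one]
  exact e_R hq hp

/-- `S` -/
noncomputable def S : Subgroup (PSp 2 F3) where
  carrier := {x | x ∈ R ∨ t * x ∈ R}
  mul_mem' := by
    rintro x y (hx | hx) (hy | hy)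
    · exact Or.inl (R.mul_mem hx hy)
    · right
      have h1 : t * (x * y) = (t * x * t) * (t * y) := by
        calc t * (x * y) = t * x * 1 * y := by group
          _ = t * x * (t * t) * y := by rw [t_t]
          _ = (t * x * t) * (t * y) := by group
      rw [h1]
      exact R.mul_mem (t_R_t hx) hy
    · right
      have h1 : t * (x * y) = (t * x) * y := by group
      rw [h1]
      exact R.mul_mem hx hy
    · left
      have h1 : x * y = (t * (t * x) * t) * (t * y) := by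
        calc x * y = 1 * x * 1 * y := by group
          _ = (t * t) * x * (t * t) * y := by rw [t_t]
          _ = (t * (t * x) * t) * (t * y) := by group
      rw [h1]
      exact R.mul_mem (t_R_t hx) hy
  one_mem' := Or.inl R.one_mem
  inv_mem' := by
    rintro x (hx | hx)
    · exact Or.inl (R.inv_mem hx)
    · right
      have h1 : t * x⁻¹ = t * (t * x)⁻¹ * t := by
        have h2 : t⁻¹ = t := inv_eq_of_mul_eq_one_left t_t
        calc t * x⁻¹ = t * x⁻¹ * (t * t) := by rw [t_t, mul_one]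
          _ = t * (x⁻¹ * t⁻¹) * t := by rw [h2]; group
          _ = t * (t * x)⁻¹ * t := by group
      rw [h1]
      exact t_R_t (R.inv_mem hx)

theorem R_le_S : R ≤ S := fun _ hx => Or.inl hx

theorem t_S : t ∈ S := by
  right
  rw [t_t]; exact R.one_mem

theorem R_z {x : PSp 2 F3} (hx : x ∈ R) : x * z = z * x := by
  obtain ⟨p, hp, q, hq, rfl⟩ := hx
  exact z_comm (L_dt p hp) (L_dt q hq)

theorem S_z {x : PSp 2 F3} (hx : x ∈ S) : x * z = z * x := by
  rcases hx with hx | hx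
  · exact R_z hx
  · have h1 := R_z hx
    have h2 : t⁻¹ = t := inv_eq_of_mul_eq_one_left t_t
    calc x * z = t⁻¹ * (t * x * z) := by group
      _ = t * (z * (t * x)) := by rw [h1, h2]
      _ = (t * z) * t * x := by group
      _ = z * (t * t) * x := by rw [t_z]; group
      _ = z * x := by rw [t_t, mul_one]

theorem R_four {x : PSp 2 F3} (hx : x ∈ R) : x * x * (x * x) = 1 := by
  obtain ⟨p, hp, q, hq, rfl⟩ := hx
  have hp' := L_dt p hp
  have hq' := L_dt q hq
  rw [e_mul hp' hq' hp' hq', e_mul (dt_ml hp' hp') (dt_ml hq' hq') (dt_ml hp' hp') (dt_ml hq' hq'), L_four p hp,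
    L_four q hq, e_one]

theorem S_sq {x : PSp 2 F3} (hx : x ∈ S) : x * x ∈ R := by
  rcases hx with hx | hx
  · exact R.mul_mem hx hx
  · have h1 : x * x = (t * (t * x) * t) * (t * x) := by
      calc x * x = 1 * x * 1 * x := by group
        _ = (t * t) * x * (t * t) * x := by rw [t_t]
        _ = (t * (t * x) * t) * (t * x) := by group
    rw [h1]
    exact R.mul_mem (t_R_t hx) hx

theorem isPGroup_S : IsPGroup 2 ↥S := by
  rintro ⟨x, hx⟩
  refine ⟨3, Subtype.ext ?_⟩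
  show x ^ 8 = 1
  have h := R_four (S_sq hx)
  rw [← h]
  simp only [pow_succ, pow_zero, one_mul, mul_assoc]

/-- representatives -/
def r4 (k : Fin 4) : P4 := ![o4, i4, j4, k4] k
/-- all elements -/
def r8 (k : Fin 8) : P4 := ![o4, ng o4, i4, ng i4, j4, ng j4, k4, ng k4] k

theorem r4_L : ∀ k, r4 k ∈ L8 := by decide +kernel
theorem r8_L : ∀ k, r8 k ∈ L8 := by decide +kernel
theorem r4_inj : ∀ k k', r4 k = r4 k' → k = k' := by decide +kernel
theorem r4_ng : ∀ k k', r4 k ≠ ng (r4 k') := by decide +kernel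
theorem r8_inj : ∀ k k', r8 k = r8 k' → k = k' := by decide +kernel

theorem card_S : 64 ≤ Nat.card ↥S := by
  have : Finite (PSp 2 F3) := Quotient.finite _
  let f : Fin 4 × Fin 8 × Bool → ↥S := fun x =>
    if x.2.2 then ⟨e (r4 x.1) (r8 x.2.1), R_le_S (e_R (r4_L _) (r8_L _))⟩
    else ⟨t * e (r4 x.1) (r8 x.2.1), S.mul_mem t_S (R_le_S (e_R (r4_L _) (r8_L _)))⟩
  have hf : Function.Injective f := by
    rintro ⟨k, l, s⟩ ⟨k', l', s'⟩ h
    have hk := L_dt _ (r4_L k)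
    have hk' := L_dt _ (r4_L k')
    have hl := L_dt _ (r8_L l)
    have hl' := L_dt _ (r8_L l')
    have key : e (r4 k) (r8 l) = e (r4 k') (r8 l') → k = k' ∧ l = l' := by
      intro h1
      rcases e_eq hk hl hk' hl' h1 with ⟨h2, h3⟩ | ⟨h2, -⟩
      · exact ⟨r4_inj _ _ h2, r8_inj _ _ h3⟩
      · exact absurd h2 (r4_ng _ _)
    cases s <;> cases s'
    · have h1 : t * e (r4 k) (r8 l) = t * e (r4 k') (r8 l') := congrArg Subtype.val h
      obtain ⟨h2, h3⟩ := key (mul_left_cancel h1)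
      rw [h2, h3]
    · have h1 : t * e (r4 k) (r8 l) = e (r4 k') (r8 l') := congrArg Subtype.val h
      exact absurd h1.symm (e_ne hk' hl' hk hl)
    · have h1 : e (r4 k) (r8 l) = t * e (r4 k') (r8 l') := congrArg Subtype.val h
      exact absurd h1 (e_ne hk hl hk' hl')
    · have h1 : e (r4 k) (r8 l) = e (r4 k') (r8 l') := congrArg Subtype.val h
      obtain ⟨h2, h3⟩ := key h1
      rw [h2, h3]
  have h1 := Nat.card_le_card_of_injective f hf
  have h2 : Nat.card (Fin 4 × Fin 8 × Bool) = 64 := by simp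
  rwa [h2] at h1

theorem odd_S : Odd S.index := by
  have : Finite (PSp 2 F3) := Quotient.finite _
  have h1 := Cfsg.Agent.SmallSimple.PSLFacts.card_psp_two_three (F := F3) F3.card
  exact odd_index_of isPGroup_S (n := 6) (m := 405) (by rw [h1]; norm_num) (by decide) card_S

/-- `C_P(R) = ⟨z⟩` -/
theorem cent_R {x : PSp 2 F3} (hx : x * z = z * x) (hr : ∀ r ∈ R, x * r = r * x) : x = 1 ∨ x = z := by
  obtain ⟨p, q, hp, hq, h | h⟩ := cent_z hx
  · have k1 : ∀ u ∈ L8, ml p u = ml u p := by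
      intro u hu
      have hu' := L_dt u hu
      have h1 := hr _ (e_R hu L_o)
      rw [h, e_mul hp hq hu' dt_o, e_mul hu' dt_o hp hq, ml_o, o_ml] at h1
      rcases e_eq (dt_ml hp hu') hq (dt_ml hu' hp) hq h1 with h2 | h2
      · exact h2.1
      · exact absurd h2.2 (ng_ne hq)
    have k2 : ∀ u ∈ L8, ml q u = ml u q := by
      intro u hu
      have hu' := L_dt u hu
      have h1 := hr _ (e_R L_o hu)
      rw [h, e_mul hp hq dt_o hu', e_mul dt_o hu' hp hq, ml_o, o_ml] at h1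
      rcases e_eq hp (dt_ml hq hu') hp (dt_ml hu' hq) h1 with h2 | h2
      · exact h2.2
      · exact absurd h2.1 (ng_ne hp)
    rcases sc hp (k1 _ L_i) (k1 _ L_j) with h3 | h3 <;> rcases sc hq (k2 _ L_i) (k2 _ L_j) with h4 | h4
    · left; rw [h, h3, h4, e_one]
    · right; rw [h, h3, h4, ← z_eq]
    · right; rw [h, h3, h4, ← z_eq']
    · left; rw [h, h3, h4, e_ng dt_o dt_o, e_one]
  · exfalso
    have h1 := hr _ (e_R L_i L_o)
    rw [h, mul_assoc, e_mul hp hq dt_i dt_o, ← mul_assoc] at h1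
    have h2 : e i4 o4 * t = t * e o4 i4 := (t_e dt_o dt_i).symm
    rw [h2, mul_assoc, e_mul dt_o dt_i hp hq, ml_o, o_ml] at h1
    rcases e_eq (dt_ml hp dt_i) hq hp (dt_ml dt_i hq) (mul_left_cancel h1) with h3 | h3
    · exact (mi hp).1 h3.1
    · exact (mi hp).2 h3.1

theorem e_conj_R {p q : P4} (hp : dt p = 1) (hq : dt q = 1) {r : PSp 2 F3} (hr : r ∈ R) :
    e p q * r * (e p q)⁻¹ ∈ R := by
  obtain ⟨u, hu, v, hv, rfl⟩ := hr
  rw [e_inv hp hq, e_mul hp hq (L_dt u hu) (L_dt v hv), e_mul (dt_ml hp (L_dt u hu)) (dt_ml hq (L_dt v hv))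
    (dt_iv hp) (dt_iv hq)]
  exact e_R (L_conj hp hu) (L_conj hq hv)

theorem t_inv : t⁻¹ = t := inv_eq_of_mul_eq_one_left t_t

theorem Rn {x : PSp 2 F3} (hx : x * z = z * x) {r : PSp 2 F3} (hr : r ∈ R) : x * r * x⁻¹ ∈ R := by
  obtain ⟨p, q, hp, hq, h | h⟩ := cent_z hx
  · rw [h]; exact e_conj_R hp hq hr
  · rw [h]
    have h1 : t * e p q * r * (t * e p q)⁻¹ = t * (e p q * r * (e p q)⁻¹) * t := by
      rw [_root_.mul_inv_rev, t_inv]; group
    rw [h1]
    exact t_R_t (e_conj_R hp hq hr)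

theorem core_aux : ∀ p ∈ L8, ml p (iv d4) ∉ L8 := by decide +kernel

theorem core {x : PSp 2 F3} (hx : x ∈ S) (h : e d4 o4 * x * (e d4 o4)⁻¹ ∈ S) : x ∈ R := by
  rcases hx with hx | hx
  · exact hx
  · exfalso
    obtain ⟨p, hp, q, hq, hpq⟩ := hx
    have hp' := L_dt p hp
    have hq' := L_dt q hq
    have hx' : x = t * e p q := by
      rw [← hpq, ← mul_assoc, t_t, one_mul]
    have h1 : e d4 o4 * x * (e d4 o4)⁻¹ = t * e (ml p (iv d4)) (ml d4 q) := by
      have h2 : e d4 o4 * t = t * e o4 d4 := (t_e dt_o dt_d).symm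
      rw [hx', e_inv dt_d dt_o, ← mul_assoc, h2]
      have h3 : iv o4 = o4 := by decide
      rw [h3, mul_assoc, mul_assoc, e_mul hp' hq' (dt_iv dt_d) dt_o,
        e_mul dt_o dt_d (dt_ml hp' (dt_iv dt_d)) (dt_ml hq' dt_o), o_ml, ml_o]
    rw [h1] at h
    rcases h with h | h
    · obtain ⟨u, hu, v, hv, huv⟩ := h
      exact e_ne (L_dt u hu) (L_dt v hv) (dt_ml hp' (dt_iv dt_d)) (dt_ml dt_d hq') huv.symm
    · rw [← mul_assoc, t_t, one_mul] at h
      obtain ⟨u, hu, v, hv, huv⟩ := h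
      rcases e_eq (dt_ml hp' (dt_iv dt_d)) (dt_ml dt_d hq') (L_dt u hu) (L_dt v hv) huv with h2 | h2
      · exact core_aux p hp (h2.1 ▸ hu)
      · exact core_aux p hp (h2.1 ▸ L_ng u hu)

theorem z_R : z ∈ R := by rw [z_eq]; exact e_R L_o (L_ng _ L_o)

theorem z2 : z * z = 1 := by
  rw [← π_mul, ← π_one]
  exact π_eq (by decide +kernel)

theorem z1 : z ≠ 1 := π_ne_one (x := m3) (by decide +kernel)

theorem coreS : Core (PSp 2 F3) S R z where
  two := isPGroup_S
  odd := odd_S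
  z2 := z2
  z1 := z1
  zR := z_R
  RS := R_le_S
  zc := fun s hs => S_z hs
  uniq := by
    intro x hx _ h1 hc
    exact (cent_R (S_z hx) (fun r hr => (hc r (R_le_S hr)).symm)).resolve_left h1
  Rn := fun p hp r hr => Rn hp hr
  core := fun x hx h => core hx (h _ (z_comm dt_d dt_o))

/-! ### the structure of `R` -/

/-- `Q₁` -/
noncomputable def Q1 : Subgroup (PSp 2 F3) where
  carrier := {x | ∃ p ∈ L8, x = e p o4}
  mul_mem' := by
    rintro _ _ ⟨p, hp, rfl⟩ ⟨p', hp', rfl⟩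
    refine ⟨_, L_ml p hp p' hp', ?_⟩
    rw [e_mul (L_dt p hp) dt_o (L_dt p' hp') dt_o, ml_o]
  one_mem' := ⟨o4, L_o, e_one.symm⟩
  inv_mem' := by
    rintro _ ⟨p, hp, rfl⟩
    refine ⟨_, L_iv p hp, ?_⟩
    rw [e_inv (L_dt p hp) dt_o]
    rfl

/-- `Q₂` -/
noncomputable def Q2 : Subgroup (PSp 2 F3) where
  carrier := {x | ∃ p ∈ L8, x = e o4 p}
  mul_mem' := by
    rintro _ _ ⟨p, hp, rfl⟩ ⟨p', hp', rfl⟩
    refine ⟨_, L_ml p hp p' hp', ?_⟩
    rw [e_mul dt_o (L_dt p hp) dt_o (L_dt p' hp'), ml_o]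
  one_mem' := ⟨o4, L_o, e_one.symm⟩
  inv_mem' := by
    rintro _ ⟨p, hp, rfl⟩
    refine ⟨_, L_iv p hp, ?_⟩
    rw [e_inv dt_o (L_dt p hp)]
    rfl

theorem ml_ngo (p : P4) : ml p (ng o4) = ng p := by
  obtain ⟨a, b, c, d⟩ := p
  simp [ml, ng, o4]

theorem ji : ml j4 i4 = ng (ml i4 j4) := by decide +kernel
theorem ii : ml i4 i4 = ng o4 := by decide +kernel
theorem jj : ml j4 j4 = ng o4 := by decide +kernel

theorem mul_z1 {p : P4} (hp : dt p = 1) : e p o4 * z = e (ng p) o4 := by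
  rw [z_eq', e_mul hp dt_o (dt_ng dt_o) dt_o, ml_o, ml_ngo]

theorem mul_z2 {p : P4} (hp : dt p = 1) : e o4 p * z = e o4 (ng p) := by
  rw [z_eq, e_mul dt_o hp dt_o (dt_ng dt_o), ml_o, ml_ngo]

theorem isQ1 : IsQ z Q1 := by
  refine IsQ.mk' (i := e i4 o4) (j := e j4 o4) z2 z1 ⟨_, L_i, rfl⟩ ⟨_, L_j, rfl⟩ ?_ ?_ ?_ ?_
  · rw [e_mul dt_i dt_o dt_i dt_o, ml_o, ii, ← z_eq']
  · rw [e_mul dt_j dt_o dt_j dt_o, ml_o, jj, ← z_eq']
  · rw [e_mul dt_j dt_o dt_i dt_o, e_mul dt_i dt_o dt_j dt_o, ml_o, mul_z1 (dt_ml dt_i dt_j), ji]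
  · rintro q ⟨p, hp, rfl⟩
    simp only [L8, List.mem_cons, List.not_mem_nil, or_false] at hp
    have hij : e i4 o4 * e j4 o4 = e k4 o4 := by rw [e_mul dt_i dt_o dt_j dt_o, ml_o]; rfl
    rw [hij, mul_z1 dt_i, mul_z1 dt_j, mul_z1 dt_k, z_eq', ← e_one]
    rcases hp with rfl | rfl | rfl | rfl | rfl | rfl | rfl | rfl <;> simp

theorem isQ2 : IsQ z Q2 := by
  refine IsQ.mk' (i := e o4 i4) (j := e o4 j4) z2 z1 ⟨_, L_i, rfl⟩ ⟨_, L_j, rfl⟩ ?_ ?_ ?_ ?_
  · rw [e_mul dt_o dt_i dt_o dt_i, ml_o, ii, ← z_eq]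
  · rw [e_mul dt_o dt_j dt_o dt_j, ml_o, jj, ← z_eq]
  · rw [e_mul dt_o dt_j dt_o dt_i, e_mul dt_o dt_i dt_o dt_j, ml_o, mul_z2 (dt_ml dt_i dt_j), ji]
  · rintro q ⟨p, hp, rfl⟩
    simp only [L8, List.mem_cons, List.not_mem_nil, or_false] at hp
    have hij : e o4 i4 * e o4 j4 = e o4 k4 := by rw [e_mul dt_o dt_i dt_o dt_j, ml_o]; rfl
    rw [hij, mul_z2 dt_i, mul_z2 dt_j, mul_z2 dt_k, z_eq, ← e_one]
    rcases hp with rfl | rfl | rfl | rfl | rfl | rfl | rfl | rfl <;> simp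

theorem isQQ : IsQQ z Q1 Q2 R where
  q1 := isQ1
  q2 := isQ2
  le1 := by rintro _ ⟨p, hp, rfl⟩; exact e_R hp L_o
  le2 := by rintro _ ⟨p, hp, rfl⟩; exact e_R L_o hp
  com := by
    rintro _ ⟨p, hp, rfl⟩ _ ⟨q, hq, rfl⟩
    rw [e_mul (L_dt p hp) dt_o dt_o (L_dt q hq), e_mul dt_o (L_dt q hq) (L_dt p hp) dt_o, ml_o, o_ml, o_ml, ml_o]
  inf := by
    rintro _ ⟨p, hp, rfl⟩ ⟨q, hq, h⟩
    rcases e_eq (L_dt p hp) dt_o dt_o (L_dt q hq) h with ⟨h1, -⟩ | ⟨h1, -⟩
    · left; rw [h1, e_one]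
    · right; rw [h1, z_eq']
  mem := by
    rintro _ ⟨p, hp, q, hq, rfl⟩
    refine ⟨e p o4, ⟨p, hp, rfl⟩, e o4 q, ⟨q, hq, rfl⟩, ?_⟩
    rw [e_mul (L_dt p hp) dt_o dt_o (L_dt q hq), ml_o, o_ml]

theorem hd_aux : ∀ p ∈ L8, p ≠ o4 → p ≠ ng o4 → ml (ml d4 p) (iv d4) ≠ p ∧ ml (ml d4 p) (iv d4) ≠ ng p := by
  decide +kernel

theorem d_cube : ml (ml d4 d4) d4 = o4 := by decide +kernel

theorem sheet : Sheet (PSp 2 F3) S R z := by
  have : Finite (PSp 2 F3) := Quotient.finite _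
  refine Sheet.of_QQ coreS.sheet0 isQQ (fun p hp hr => cent_R hp hr) (d := e d4 o4) (z_comm dt_d dt_o) ?_ ?_ ?_
  · rw [e_mul dt_d dt_o dt_d dt_o, e_mul (dt_ml dt_d dt_d) (dt_ml dt_o dt_o) dt_d dt_o, d_cube, ml_o, ml_o, e_one]
  · rintro _ ⟨q, hq, rfl⟩
    rw [e_mul dt_d dt_o dt_o (L_dt q hq), e_mul dt_o (L_dt q hq) dt_d dt_o, ml_o, o_ml, o_ml, ml_o]
  · rintro _ ⟨p, hp, rfl⟩ h1 hz
    have hp' := L_dt p hp
    have h3 : e d4 o4 * e p o4 * (e d4 o4)⁻¹ = e (ml (ml d4 p) (iv d4)) o4 := by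
      rw [e_inv dt_d dt_o, e_mul dt_d dt_o hp' dt_o, e_mul (dt_ml dt_d hp') (dt_ml dt_o dt_o) (dt_iv dt_d)
        (dt_iv dt_o)]
      rfl
    rw [h3]
    have hdt := dt_ml (dt_ml dt_d hp') (dt_iv dt_d)
    obtain ⟨a1, a2⟩ := hd_aux p hp (fun h => h1 (by rw [h, e_one])) (fun h => hz (by rw [h, z_eq']))
    have a3 := ng_ne dt_o
    refine ⟨?_, ?_⟩
    · intro h
      rcases e_eq hdt dt_o hp' dt_o h with h4 | h4
      · exact a1 h4.1
      · exact a3 h4.2
    · rw [mul_z1 hp']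
      intro h
      rcases e_eq hdt dt_o (dt_ng hp') dt_o h with h4 | h4
      · exact a2 h4.1
      · exact a3 h4.2

/-! ### the second local subgroup -/

theorem m1_e : π m1 = e i4 i4 := by
  rw [e_def dt_i dt_i]
  exact π_eq (Or.inl m1_mk)

theorem m2_e : π m2 = e j4 j4 := by
  rw [e_def dt_j dt_j]
  exact π_eq (Or.inl m2_mk)

open Cfsg.Agent.SmallSimple.S1000.Order25920PSp in
theorem Q0_comm {a b : PSp 2 F3} (ha : a ∈ Q0) (hb : b ∈ Q0) : a * b = b * a := by
  have h1 : Q0 ≤ centralizer ({a} : Set (PSp 2 F3)) := by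
    conv_lhs => rw [Q0]
    rw [closure_le]
    intro x hx
    show x ∈ centralizer ({a} : Set (PSp 2 F3))
    rw [mem_centralizer_singleton_iff]
    exact Q0_comm_gens x hx a ha
  exact (mem_centralizer_singleton_iff.mp (h1 hb)).symm

theorem z_Q0 : z ∈ Q0 := Cfsg.Agent.SmallSimple.S1000.Order25920PSp.m3_mem
theorem t_Q0 : t ∈ Q0 := Cfsg.Agent.SmallSimple.S1000.Order25920PSp.m4_mem
theorem i_Q0 : e i4 i4 ∈ Q0 := by rw [← m1_e]; exact Cfsg.Agent.SmallSimple.S1000.Order25920PSp.m1_mem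
theorem j_Q0 : e j4 j4 ∈ Q0 := by rw [← m2_e]; exact Cfsg.Agent.SmallSimple.S1000.Order25920PSp.m2_mem

theorem pp_Q0 {p : P4} (hp : p ∈ L8) : e p p ∈ Q0 := by
  have hij : e k4 k4 ∈ Q0 := by
    have h1 := Q0.mul_mem i_Q0 j_Q0
    rw [e_mul dt_i dt_i dt_j dt_j] at h1
    exact h1
  have ho : e o4 o4 ∈ Q0 := by rw [e_one]; exact one_mem _
  simp only [L8, List.mem_cons, List.not_mem_nil, or_false] at hp
  rcases hp with rfl | rfl | rfl | rfl | rfl | rfl | rfl | rfl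
  · exact ho
  · rw [e_ng dt_o dt_o]; exact ho
  · exact i_Q0
  · rw [e_ng dt_i dt_i]; exact i_Q0
  · exact j_Q0
  · rw [e_ng dt_j dt_j]; exact j_Q0
  · exact hij
  · rw [e_ng dt_k dt_k]; exact hij

theorem pq_Q0 {p q : P4} (hp : p ∈ L8) (h : q = p ∨ q = ng p) : e p q ∈ Q0 := by
  rcases h with rfl | rfl
  · exact pp_Q0 hp
  · have h1 := Q0.mul_mem (pp_Q0 hp) z_Q0
    rw [z_eq, e_mul (L_dt p hp) (L_dt p hp) dt_o (dt_ng dt_o), ml_o, ml_ngo] at h1
    exact h1

theorem Q0_le_S : Q0 ≤ S := by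
  rw [Q0, closure_le]
  rintro x (rfl | rfl | rfl | rfl)
  · show π m1 ∈ S
    rw [m1_e]; exact R_le_S (e_R L_i L_i)
  · show π m2 ∈ S
    rw [m2_e]; exact R_le_S (e_R L_j L_j)
  · exact R_le_S z_R
  · exact t_S

theorem cent_Q0' {x : PSp 2 F3} {p q : P4} (hp : dt p = 1) (hq : dt q = 1) (hx : x = e p q)
    (h : ∀ a ∈ Q0, x * a = a * x) : x ∈ Q0 := by
  have ht := h _ t_Q0
  rw [hx, t_e hp hq] at ht
  have h1 := e_eq hp hq hq hp (mul_right_cancel ht)
  have hq' : q = p ∨ q = ng p := by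
    rcases h1 with ⟨-, h2⟩ | ⟨-, h2⟩
    · exact Or.inl h2
    · exact Or.inr h2
  have hi := h _ i_Q0
  have hj := h _ j_Q0
  rw [hx, e_mul hp hq dt_i dt_i, e_mul dt_i dt_i hp hq] at hi
  rw [hx, e_mul hp hq dt_j dt_j, e_mul dt_j dt_j hp hq] at hj
  have hi' := e_eq (dt_ml hp dt_i) (dt_ml hq dt_i) (dt_ml dt_i hp) (dt_ml dt_i hq) hi
  have hj' := e_eq (dt_ml hp dt_j) (dt_ml hq dt_j) (dt_ml dt_j hp) (dt_ml dt_j hq) hj
  have hpL : p ∈ L8 := nq hp (hi'.imp And.left And.left) (hj'.imp And.left And.left)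
  rw [hx]
  exact pq_Q0 hpL hq'

theorem cent_Q0 (x : PSp 2 F3) : (∀ a ∈ Q0, x * a = a * x) ↔ x ∈ Q0 := by
  constructor
  · intro h
    obtain ⟨p, q, hp, hq, h1 | h1⟩ := cent_z (h _ z_Q0)
    · exact cent_Q0' hp hq h1 h
    · have h2 : t * x = e p q := by rw [h1, ← mul_assoc, t_t, one_mul]
      have h3 : t * x ∈ Q0 := by
        refine cent_Q0' hp hq h2 ?_
        intro a ha
        rw [mul_assoc, h a ha, ← mul_assoc, Q0_comm t_Q0 ha, mul_assoc]
      have h4 := Q0.mul_mem t_Q0 h3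
      rwa [← mul_assoc, t_t, one_mul] at h4
  · intro h a ha
    exact Q0_comm h ha

theorem ci_aux : ∀ p ∈ L8, ml (ml p i4) (iv p) = i4 ∨ ml (ml p i4) (iv p) = ng i4 := by decide +kernel
theorem cj_aux : ∀ p ∈ L8, ml (ml p j4) (iv p) = j4 ∨ ml (ml p j4) (iv p) = ng j4 := by decide +kernel
theorem cq_aux : ∀ p ∈ L8, ∀ q ∈ L8, ml p (iv q) = ml q (iv p) ∨ ml p (iv q) = ng (ml q (iv p)) := by
  decide +kernel

theorem iv_ml {p : P4} (hp : dt p = 1) : ml (iv p) p = o4 := by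
  obtain ⟨a, b, c, d⟩ := p
  have h1 : a * d - b * c = 1 := hp
  simp only [ml, iv, o4, Prod.mk.injEq]
  refine ⟨?_, ?_, ?_, ?_⟩
  · linear_combination h1
  · ring
  · ring
  · linear_combination h1

theorem ng_eq_cases {u p : P4} (h : p = u ∨ p = ng u) : ∀ {q : P4}, (q = u ∨ q = ng u) → q = p ∨ q = ng p := by
  intro q hq
  rcases h with rfl | rfl <;> rcases hq with rfl | rfl
  · exact Or.inl rfl
  · exact Or.inr rfl
  · exact Or.inr (ng_ng _).symm
  · exact Or.inl rfl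

theorem R_norm {s : PSp 2 F3} (hs : s ∈ R) : s ∈ normalizer (Q0 : Set (PSp 2 F3)) := by
  obtain ⟨p, hp, q, hq, rfl⟩ := hs
  have hp' := L_dt p hp
  have hq' := L_dt q hq
  apply Cfsg.Agent.SmallSimple.S1000.Order25920PSp.mem_normalizer
  have hconj : ∀ u v : P4, dt u = 1 → dt v = 1 → e p q * e u v = e (ml (ml p u) (iv p)) (ml (ml q v) (iv q)) * e p q := by
    intro u v hu hv
    rw [e_mul hp' hq' hu hv, e_mul (dt_ml (dt_ml hp' hu) (dt_iv hp')) (dt_ml (dt_ml hq' hv) (dt_iv hq')) hp' hq',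
      ml_assoc _ (iv p) p, ml_assoc _ (iv q) q, iv_ml hp', iv_ml hq', ml_o, ml_o]
  rintro x (rfl | rfl | rfl | rfl)
  · rw [m1_e]
    refine ⟨_, ?_, hconj i4 i4 dt_i dt_i⟩
    exact pq_Q0 (L_conj hp' L_i) (ng_eq_cases (ci_aux p hp) (ci_aux q hq))
  · rw [m2_e]
    refine ⟨_, ?_, hconj j4 j4 dt_j dt_j⟩
    exact pq_Q0 (L_conj hp' L_j) (ng_eq_cases (cj_aux p hp) (cj_aux q hq))
  · exact ⟨z, z_Q0, z_comm hp' hq'⟩
  · refine ⟨e (ml p (iv q)) (ml q (iv p)) * t, Q0.mul_mem (pq_Q0 (L_ml p hp _ (L_iv q hq)) ?_) t_Q0, ?_⟩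
    · rcases cq_aux q hq p hp with h | h
      · exact Or.inl h
      · exact Or.inr h
    · rw [mul_assoc, t_e hp' hq', ← mul_assoc, e_mul (dt_ml hp' (dt_iv hq')) (dt_ml hq' (dt_iv hp')) hq' hp',
        ml_assoc, ml_assoc, iv_ml hq', iv_ml hp', ml_o, ml_o]

theorem S_norm {s : PSp 2 F3} (hs : s ∈ S) : s ∈ normalizer (Q0 : Set (PSp 2 F3)) := by
  rcases hs with hs | hs
  · exact R_norm hs
  · have h1 := mul_mem (le_normalizer t_Q0) (R_norm hs)
    rwa [← mul_assoc, t_t, one_mul] at h1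

/-! ### generation -/

theorem comm_of_eigen {x y : Sp} {v : Fin 2 ⊕ Fin 2 → F3} {c : F3}
    (hy : (y : Mat) = sympTransvection 2 v c) {s : F3} (hs : s * s = 1) (hx : (x : Mat) *ᵥ v = s • v) :
    x * y = y * x := by
  have key : ∀ u : Fin 2 ⊕ Fin 2 → F3, ((x * y : Sp) : Mat) *ᵥ u = ((y * x : Sp) : Mat) *ᵥ u := by
    intro u
    have e1 : ((x * y : Sp) : Mat) = (x : Mat) * y := rfl
    have e2 : ((y * x : Sp) : Mat) = (y : Mat) * x := rfl
    rw [e1, e2, ← Matrix.mulVec_mulVec, ← Matrix.mulVec_mulVec, hy,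
      ClassicalGeometry.SympBasic.sympTransvection_mulVec, ClassicalGeometry.SympBasic.sympTransvection_mulVec,
      Matrix.mulVec_add, Matrix.mulVec_smul, hx]
    have h1 : sympForm 2 F3 ((x : Mat) *ᵥ u) v = s * sympForm 2 F3 u v := by
      have h2 : sympForm 2 F3 ((x : Mat) *ᵥ u) ((x : Mat) *ᵥ v) = sympForm 2 F3 u v :=
        ClassicalGeometry.SympBasic.sympForm_mulVec x.2 u v
      rw [hx, ClassicalGeometry.SympBasic.sympForm_smul_right] at h2
      calc sympForm 2 F3 ((x : Mat) *ᵥ u) v = (s * s) * sympForm 2 F3 ((x : Mat) *ᵥ u) v := by rw [hs, one_mul]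
        _ = s * sympForm 2 F3 u v := by rw [mul_assoc, h2]
    rw [h1, smul_smul]
    congr 2
    ring
  apply Subtype.ext
  refine Matrix.ext fun i j => ?_
  have h1 := congrFun (key (Pi.single j 1)) i
  simpa using h1

theorem mk_mulVec (p q : P4) (v : Fin 2 ⊕ Fin 2 → F3) : mk p q *ᵥ v =
    Sum.elim ![p.1 * v (.inl 0) + p.2.1 * v (.inr 0), q.1 * v (.inl 1) + q.2.1 * v (.inr 1)]
      ![p.2.2.1 * v (.inl 0) + p.2.2.2 * v (.inr 0), q.2.2.1 * v (.inl 1) + q.2.2.2 * v (.inr 1)] := by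
  unfold mk bm
  rw [fromBlocks_mulVec]
  funext i
  rcases i with i | i <;> fin_cases i <;> simp [mulVec_diagonal]

theorem m4_mulVec (v : Fin 2 ⊕ Fin 2 → F3) : (m4 : Mat) *ᵥ v =
    Sum.elim ![v (.inl 1), v (.inl 0)] ![v (.inr 1), v (.inr 0)] := by
  rw [m4_eq, fromBlocks_mulVec]
  funext i
  rcases i with i | i <;> fin_cases i <;>
    simp [Cfsg.Agent.OddHalf.Small.PSp43.Pm, Matrix.mulVec, dotProduct, Fin.sum_univ_two]

theorem trans_aux : ∀ x y u v : F3, (x ≠ 0 ∨ y ≠ 0) → (u ≠ 0 ∨ v ≠ 0) → ∃ a b c d : F3, a * d - b * c = 1 ∧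
    a * x + b * y = u ∧ c * x + d * y = v := by decide +kernel

theorem gen (H : Subgroup (PSp 2 F3)) (h1 : ∀ p, p * z = z * p → p ∈ H) (h2 : ∀ p, p * t = t * p → p ∈ H) :
    H = ⊤ := by
  have key : closure {A : Sp | ∃ (w : Fin 2 ⊕ Fin 2 → F3) (c : F3), (A : Mat) = sympTransvection 2 w c} ≤
      H.comap Cfsg.Agent.OddHalf.Small.PSp43.πh := by
    rw [closure_le]
    rintro y ⟨v, c, hy⟩
    show π y ∈ H
    have s1 : (1 : F3) * 1 = 1 := by decide
    have s2 : (-1 : F3) * -1 = 1 := by decide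
    have hz : ∀ s : F3, s * s = 1 → (m3 : Mat) *ᵥ v = s • v → π y ∈ H := by
      intro s hs hm
      apply h1
      have h3 := comm_of_eigen hy hs hm
      show π y * π m3 = π m3 * π y
      rw [← π_mul, ← π_mul, h3]
    by_cases hv0 : v (.inl 0) = 0 ∧ v (.inr 0) = 0
    · refine hz (-1) s2 ?_
      rw [m3_mk, mk_mulVec]
      funext i
      rcases i with i | i <;> fin_cases i <;> simp [hv0.1, hv0.2, o4, ng]
    by_cases hv1 : v (.inl 1) = 0 ∧ v (.inr 1) = 0
    · refine hz 1 s1 ?_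
      rw [m3_mk, mk_mulVec]
      funext i
      rcases i with i | i <;> fin_cases i <;> simp [hv1.1, hv1.2, o4, ng]
    · obtain ⟨a, b, c', d, hd, e1, e2⟩ := trans_aux (v (.inl 0)) (v (.inr 0)) (v (.inl 1)) (v (.inr 1))
        (by by_contra hcon; push Not at hcon; exact hv0 hcon) (by by_contra hcon; push Not at hcon; exact hv1 hcon)
      have hp : dt (a, b, c', d) = 1 := hd
      let h : Sp := el (a, b, c', d) o4 hp dt_o
      have hz' : π h ∈ H := by
        apply h1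
        have h3 : π h = e (a, b, c', d) o4 := (e_def hp dt_o).symm
        rw [h3]
        exact z_comm hp dt_o
      have hw : ((h⁻¹ * m4 * h : Sp) : Mat) *ᵥ v = (1 : F3) • v := by
        have e3 : ((h⁻¹ * m4 * h : Sp) : Mat) = ((h⁻¹ : Sp) : Mat) * (m4 : Mat) * (h : Mat) := rfl
        have e4 : (h : Mat) *ᵥ v = Sum.elim ![v (.inl 1), v (.inl 1)] ![v (.inr 1), v (.inr 1)] := by
          show mk (a, b, c', d) o4 *ᵥ v = _
          rw [mk_mulVec]
          funext i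
          rcases i with i | i <;> fin_cases i <;> simp [e1, e2, o4]
        have e5 : (m4 : Mat) *ᵥ ((h : Mat) *ᵥ v) = (h : Mat) *ᵥ v := by
          rw [e4, m4_mulVec]
          funext i
          rcases i with i | i <;> fin_cases i <;> simp
        have e6 : ((h⁻¹ : Sp) : Mat) * (h : Mat) = 1 := congrArg Subtype.val (inv_mul_cancel h)
        rw [e3, ← Matrix.mulVec_mulVec, ← Matrix.mulVec_mulVec, e5, Matrix.mulVec_mulVec, e6, Matrix.one_mulVec,
          one_smul]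
      have hcomm := comm_of_eigen hy s1 hw
      have h4 : π (h * y * h⁻¹) ∈ H := by
        apply h2
        have h5 : (h * y * h⁻¹) * m4 = m4 * (h * y * h⁻¹) := by
          calc (h * y * h⁻¹) * m4 = h * (y * (h⁻¹ * m4 * h)) * h⁻¹ := by group
            _ = h * ((h⁻¹ * m4 * h) * y) * h⁻¹ := by rw [hcomm]
            _ = m4 * (h * y * h⁻¹) := by group
        show π (h * y * h⁻¹) * π m4 = π m4 * π (h * y * h⁻¹)
        rw [← π_mul, ← π_mul, h5]
      have h6 : π y = (π h)⁻¹ * π (h * y * h⁻¹) * π h := by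
        rw [π_mul, π_mul]
        have h7 : π h⁻¹ = (π h)⁻¹ := rfl
        rw [h7]; group
      rw [h6]
      exact H.mul_mem (H.mul_mem (H.inv_mem hz') h4) hz'
  rw [eq_top_iff]
  intro x _
  obtain ⟨g, rfl⟩ := QuotientGroup.mk_surjective x
  have h3 : g ∈ closure {A : Sp | ∃ (w : Fin 2 ⊕ Fin 2 → F3) (c : F3), (A : Mat) = sympTransvection 2 w c} := by
    rw [Cfsg.Agent.S0765.result (F := F3) 2]
    exact mem_top _
  exact key h3

/-- **`PSp₄(3)`** -/
theorem row : Row (PSp 2 F3) := by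
  have : Finite (PSp 2 F3) := Quotient.finite _
  refine coreS.row sheet ?_ Q0_le_S cent_Q0 (fun s hs a ha => (mem_normalizer_iff.mp (S_norm hs) a).mp ha) ?_
    (g := π Cfsg.Agent.SmallSimple.S1000.Order25920PSp.ga) (w := t)
    (fun a ha => (mem_normalizer_iff.mp Cfsg.Agent.SmallSimple.S1000.Order25920PSp.ga_mem a).mp ha) ?_ t_S gen
  · intro x hx hr
    rcases cent_R hx hr with h | h
    · rw [h]; exact ⟨one_mem _, fun p _ => by rw [one_mul, mul_one]⟩
    · rw [h]; exact ⟨z_R, fun p hp => hp.symm⟩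
  · intro a ha hs p hp
    rcases cent_R (S_z (Q0_le_S ha)) (fun r hr => (hs r (R_le_S hr)).symm) with h | h
    · rw [h, one_mul, mul_one]
    · rw [h]; exact hp.symm
  · have h : π Cfsg.Agent.SmallSimple.S1000.Order25920PSp.ga * z =
        t * π Cfsg.Agent.SmallSimple.S1000.Order25920PSp.ga := by
      rw [← π_mul, ← π_mul]
      exact π_eq (by decide +kernel)
    rw [h]; group

end Cfsg.Agent.OddHalf.D4.Small.KPSp43

namespace Cfsg.Agent.OddHalf.D4.Small

/-- the facts on `K ≅ PSp₄(3)` -/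
theorem row_psp43 {K : Type*} [Group K] {F : Type*} [Field F] [Fintype F] (hF : Fintype.card F = 3)
    (e : K ≃* Cfsg.PSp 2 F) : Row K :=
  KPSp43.row.of_equiv (e.trans
    (Cfsg.Agent.LieClassical.FieldTransfer.pspCongr 2 (Cfsg.Agent.Lib.FieldThree.equivOfCard hF))).symm

end Cfsg.Agent.OddHalf.D4.Small

end

-- merged: Cfsg.Agent.OddHalf.D4.Small.UFourLoc
section

/-!
# ODD, D4, small Lie odd, `U₄(3)`: the local facts (helper890)

For a finite group with the configuration `Tw` (helper893):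
* `isQQ`: `Q = ⟨i, j⟩ * ⟨k, l⟩`;
* `syl`: `⟨i, j, k, l, y, s⟩` of order `2 ^ 7`;
* `abel`: `A = ⟨z, s, i k, j l⟩`, `C(A) = A`, normalised by `syl` and by `d`.
-/

set_option autoImplicit false

namespace Cfsg.Agent.OddHalf.D4.Small.UFour

open Subgroup Cfsg.Agent.Co2Type.Quad Cfsg.Agent.LargeExtra.W2 Cfsg.Agent.LargeExtra.W2.CM
open Cfsg.Agent.LargeExtra.W2.U43 Cfsg.Agent.LargeExtra.W2.U43.ExistsD Cfsg.Agent.LargeExtra.W2.U43.InvClass
open Cfsg.Agent.OddHalf.D6.QThree.U43Facts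

variable {G : Type*} [Group G] {Q : Subgroup G} {z i j k l x₁ x₂ y s d : G}

/-! ### `Q₁`, `Q₂` -/

theorem qmul_eq (p q : Qt) : p.mul q = ⟨xor (xor p.s q.s) (xor (xor (xor (p.a && q.a) (p.b && q.b)) (p.b && q.a))
      (xor (xor (p.c && q.c) (p.d && q.d)) (p.d && q.c))),
    xor p.a q.a, xor p.b q.b, xor p.c q.c, xor p.d q.d⟩ := rfl

/-- a finite multiplicatively closed set of elements is a subgroup -/
def ofMul [Finite G] (S : Set G) (h1 : (1 : G) ∈ S) (hm : ∀ a ∈ S, ∀ b ∈ S, a * b ∈ S) : Subgroup G where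
  carrier := S
  one_mem' := h1
  mul_mem' := fun ha hb => hm _ ha _ hb
  inv_mem' := by
    intro a ha
    have h2 : ∀ n : ℕ, a ^ n ∈ S := by
      intro n
      induction n with
      | zero => rw [pow_zero]; exact h1
      | succ n ih => rw [pow_succ]; exact hm _ ih _ ha
    have h3 : a⁻¹ = a ^ (orderOf a - 1) := by
      rw [inv_eq_iff_mul_eq_one, ← pow_succ', Nat.sub_add_cancel (orderOf_pos a), pow_orderOf_eq_one]
    rw [h3]
    exact h2 _

theorem mem_ofMul [Finite G] {S : Set G} {h1 : (1 : G) ∈ S} {hm : ∀ a ∈ S, ∀ b ∈ S, a * b ∈ S} {x : G} :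
    x ∈ ofMul S h1 hm ↔ x ∈ S := Iff.rfl

variable [Finite G]

/-- `⟨i, j⟩` -/
def Q1 (R : Rules true false true z i j k l x₁ x₂ y s) : Subgroup G :=
  ofMul {x | ∃ σ a b : Bool, x = Qt.ev z i j k l ⟨σ, a, b, false, false⟩}
    ⟨false, false, false, by simp [Qt.ev, pw]⟩ (by
      rintro _ ⟨σ, a, b, rfl⟩ _ ⟨σ', a', b', rfl⟩
      rw [evQ_mul R]
      exact ⟨_, _, _, rfl⟩)

/-- `⟨k, l⟩` -/
def Q2 (R : Rules true false true z i j k l x₁ x₂ y s) : Subgroup G :=
  ofMul {x | ∃ σ a b : Bool, x = Qt.ev z i j k l ⟨σ, false, false, a, b⟩}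
    ⟨false, false, false, by simp [Qt.ev, pw]⟩ (by
      rintro _ ⟨σ, a, b, rfl⟩ _ ⟨σ', a', b', rfl⟩
      rw [evQ_mul R]
      exact ⟨_, _, _, rfl⟩)

theorem isQ1 (R : Rules true false true z i j k l x₁ x₂ y s) (z1 : z ≠ 1) : IsQ z (Q1 R) := by
  refine IsQ.mk' (i := i) (j := j) R.zz z1 ⟨false, true, false, by simp [Qt.ev, pw]⟩
    ⟨false, false, true, by simp [Qt.ev, pw]⟩ R.ii R.jj (by coll R) ?_
  rintro _ ⟨σ, a, b, rfl⟩
  have hz1 : z * i = i * z := R.zi.symm
  have hz2 : z * j = j * z := R.zj.symm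
  have hz3 : z * (i * j) = i * j * z := by rw [← mul_assoc, hz1, mul_assoc, hz2, mul_assoc]
  rcases σ with _ | _ <;> rcases a with _ | _ <;> rcases b with _ | _ <;>
    simp [Qt.ev, pw, hz1, hz2, hz3]

theorem isQ2 (R : Rules true false true z i j k l x₁ x₂ y s) (z1 : z ≠ 1) : IsQ z (Q2 R) := by
  refine IsQ.mk' (i := k) (j := l) R.zz z1 ⟨false, true, false, by simp [Qt.ev, pw]⟩
    ⟨false, false, true, by simp [Qt.ev, pw]⟩ R.kk R.ll (by coll R) ?_
  rintro _ ⟨σ, a, b, rfl⟩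
  have hz1 : z * k = k * z := R.zk.symm
  have hz2 : z * l = l * z := R.zl.symm
  have hz3 : z * (k * l) = k * l * z := by rw [← mul_assoc, hz1, mul_assoc, hz2, mul_assoc]
  rcases σ with _ | _ <;> rcases a with _ | _ <;> rcases b with _ | _ <;>
    simp [Qt.ev, pw, hz1, hz2, hz3]

theorem ev_mem (h : Tw Q z i j k l x₁ x₂ y s) (w : Qt) : w.ev z i j k l ∈ Q := by
  have hz : z ∈ Q := h.large.z_mem
  have hi : i ∈ Q := by rw [h.gen]; exact subset_closure (by simp)
  have hj : j ∈ Q := by rw [h.gen]; exact subset_closure (by simp)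
  have hk : k ∈ Q := by rw [h.gen]; exact subset_closure (by simp)
  have hl : l ∈ Q := by rw [h.gen]; exact subset_closure (by simp)
  have key : ∀ (b : Bool) (g : G), g ∈ Q → pw b g ∈ Q := by
    intro b g hg
    cases b
    · exact one_mem _
    · exact hg
  exact mul_mem (key _ _ hz) (mul_mem (key _ _ hi) (mul_mem (key _ _ hj) (mul_mem (key _ _ hk) (key _ _ hl))))

/-- `Q = Q₁ * Q₂` -/
theorem isQQ (h : Tw Q z i j k l x₁ x₂ y s) : IsQQ z (Q1 h.rules) (Q2 h.rules) Q where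
  q1 := isQ1 h.rules h.large.z_ne
  q2 := isQ2 h.rules h.large.z_ne
  le1 := by
    rintro _ ⟨σ, a, b, rfl⟩
    exact ev_mem h _
  le2 := by
    rintro _ ⟨σ, a, b, rfl⟩
    exact ev_mem h _
  com := by
    rintro _ ⟨σ, a, b, rfl⟩ _ ⟨σ', a', b', rfl⟩
    rw [evQ_mul h.rules, evQ_mul h.rules]
    congr 1
    cases σ <;> cases σ' <;> cases a <;> cases b <;> cases a' <;> cases b' <;> rfl
  inf := by
    rintro _ ⟨σ, a, b, rfl⟩ ⟨σ', a', b', h1⟩
    have h2 := evQ_inj h h1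
    injection h2 with h3 h4 h5 h6 h7
    subst h4 h5
    cases σ
    · left; simp [Qt.ev, pw]
    · right; simp [Qt.ev, pw]
  mem := by
    intro r hr
    obtain ⟨w, rfl⟩ := exists_qt h hr
    refine ⟨_, ⟨w.s, w.a, w.b, rfl⟩, _, ⟨false, w.c, w.d, rfl⟩, ?_⟩
    rw [evQ_mul h.rules]
    congr 1
    obtain ⟨σ, a, b, c, d⟩ := w
    cases σ <;> cases a <;> cases b <;> cases c <;> cases d <;> rfl

/-- the element `x₁` of order three -/
theorem x₁_facts (h : Tw Q z i j k l x₁ x₂ y s) :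
    x₁ * z = z * x₁ ∧ x₁ * x₁ * x₁ = 1 ∧ (∀ r ∈ Q2 h.rules, x₁ * r = r * x₁) ∧
      ∀ x ∈ Q1 h.rules, x ≠ 1 → x ≠ z → x₁ * x * x₁⁻¹ ≠ x ∧ x₁ * x * x₁⁻¹ ≠ x * z := by
  have R := h.rules
  refine ⟨R.zx, by rw [mul_assoc]; exact R.xxx, ?_, ?_⟩
  · rintro _ ⟨σ, a, b, rfl⟩
    exact ax1 R _
  · rintro _ ⟨σ, a, b, rfl⟩ h1 h2
    have e : x₁ * Qt.ev z i j k l ⟨σ, a, b, false, false⟩ * x₁⁻¹ =
        (Qt.x1 ⟨σ, a, b, false, false⟩).ev z i j k l := by
      rw [ax1 R, mul_inv_cancel_right]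
    have ez : z = Qt.ev z i j k l ⟨true, false, false, false, false⟩ := by simp [Qt.ev, pw]
    constructor
    · intro h3
      rw [e] at h3
      have h4 := evQ_inj h h3
      injection h4 with h5 h6 h7 h8 h9
      have h6' : b = a := h6
      have h7' : xor a b = b := h7
      subst h6'
      cases b
      · cases σ
        · exact h1 (by simp [Qt.ev, pw])
        · exact h2 (by simp [Qt.ev, pw])
      · exact absurd h7' (by decide)
    · intro h3
      rw [e] at h3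
      nth_rewrite 3 [ez] at h3
      rw [evQ_mul R] at h3
      have h4 := evQ_inj h h3
      injection h4 with h5 h6 h7 h8 h9
      have h6' : b = xor a false := h6
      have h7' : xor a b = xor b false := h7
      subst h6'
      cases a
      · cases σ
        · exact h1 (by simp [Qt.ev, pw])
        · exact h2 (by simp [Qt.ev, pw])
      · exact absurd h7' (by decide)

/-! ### The Sylow 2-subgroup -/

/-- `⟨i, j, k, l, y, s⟩` -/
def syl (R : Rules true false true z i j k l x₁ x₂ y s) : Subgroup G :=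
  ofMul {x | ∃ t : T, t.m = C3.o ∧ t.n = C3.o ∧ x = t.ev z i j k l x₁ x₂ y s}
    ⟨T.one, rfl, rfl, ev_one.symm⟩ (by
      rintro _ ⟨t, h1, h2, rfl⟩ _ ⟨u, h3, h4, rfl⟩
      refine ⟨_, ?_, ?_, ev_mul R t u⟩
      · show t.m.add (ng t.e (bif t.f then u.n else u.m)) = C3.o
        rw [h1, h3, h4]
        cases t.e <;> cases t.f <;> rfl
      · show t.n.add (ng t.e (bif t.f then u.m else u.n)) = C3.o
        rw [h2, h3, h4]
        cases t.e <;> cases t.f <;> rfl)

/-- `t ^ 16` -/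
def p16 (t : T) : T :=
  let t2 := mu t t
  let t4 := mu t2 t2
  let t8 := mu t4 t4
  mu t8 t8

theorem chkP : allT (fun t => !(C3.eqb t.m C3.o && C3.eqb t.n C3.o) || T.beq (p16 t) T.one) = true := by
  decide +kernel

theorem syl_isPGroup (R : Rules true false true z i j k l x₁ x₂ y s) : IsPGroup 2 (syl R) := by
  rintro ⟨x, t, h1, h2, rfl⟩
  refine ⟨4, Subtype.ext ?_⟩
  show (t.ev z i j k l x₁ x₂ y s) ^ 2 ^ 4 = 1
  have h3 := allT_spec chkP t
  rw [h1, h2, Bool.or_eq_true] at h3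
  rcases h3 with h3 | h3
  · exact Bool.noConfusion h3
  · have h4 : p16 t = T.one := T.eq_of_beq h3
    have emul : ∀ t u : T, t.ev z i j k l x₁ x₂ y s * u.ev z i j k l x₁ x₂ y s =
        (mu t u).ev z i j k l x₁ x₂ y s := fun t u => ev_mul R t u
    have h5 : (t.ev z i j k l x₁ x₂ y s) ^ 2 ^ 4 = (p16 t).ev z i j k l x₁ x₂ y s := by
      have h6 : ∀ X : G, X ^ 2 ^ 4 = ((X * X) * (X * X) * ((X * X) * (X * X))) *
          ((X * X) * (X * X) * ((X * X) * (X * X))) := fun X => by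
        have e1 : X * X = X ^ 2 := (pow_two X).symm
        rw [e1, ← pow_add, ← pow_add, ← pow_add]; norm_num
      simp only [p16]
      rw [← emul, ← emul, ← emul, ← emul]
      exact h6 _
    rw [h5, h4, ev_one]

theorem syl_card (h : Tw Q z i j k l x₁ x₂ y s) : 2 ^ 7 ≤ Nat.card (syl h.rules) := by
  let f : (Bool × Bool × Bool × Bool × Bool) × Bool × Bool → syl h.rules := fun u =>
    ⟨T.ev z i j k l x₁ x₂ y s ⟨⟨u.1.1, u.1.2.1, u.1.2.2.1, u.1.2.2.2.1, u.1.2.2.2.2⟩, C3.o, C3.o, u.2.1, u.2.2⟩,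
      ⟨_, rfl, rfl, rfl⟩⟩
  have hf : Function.Injective f := by
    intro u v huv
    have h1 := ev_inj h.toCase9aa h.rules (congrArg Subtype.val huv)
    injection h1 with h2 h3 h4 h5 h6
    injection h2 with g1 g2 g3 g4 g5
    obtain ⟨⟨u1, u2, u3, u4, u5⟩, u6, u7⟩ := u
    obtain ⟨⟨v1, v2, v3, v4, v5⟩, v6, v7⟩ := v
    dsimp only at g1 g2 g3 g4 g5 h5 h6
    rw [g1, g2, g3, g4, g5, h5, h6]
  have h1 := Nat.card_le_card_of_injective f hf
  have h2 : Nat.card ((Bool × Bool × Bool × Bool × Bool) × Bool × Bool) = 2 ^ 7 := by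
    simp [Nat.card_prod, Nat.card_eq_fintype_card]
  rwa [h2] at h1

theorem syl_comm (R : Rules true false true z i j k l x₁ x₂ y s) {x : G} (hx : x ∈ syl R) : x * z = z * x := by
  obtain ⟨t, -, -, rfl⟩ := hx
  exact ev_comm R t

theorem le_syl (h : Tw Q z i j k l x₁ x₂ y s) : Q ≤ syl h.rules := by
  intro x hx
  obtain ⟨w, rfl⟩ := exists_qt h hx
  exact ⟨qt w, rfl, rfl, (ev_qt w).symm⟩

/-! ### The elementary abelian subgroup `A` -/

/-- the code of `z ^ σ (i k) ^ a (j l) ^ b s ^ f` -/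
def at' (σ a b f : Bool) : T := ⟨⟨σ, a, b, a, b⟩, C3.o, C3.o, false, f⟩

theorem at_mul (σ a b f σ' a' b' f' : Bool) : mu (at' σ a b f) (at' σ' a' b' f') =
    at' (xor σ σ') (xor a a') (xor b b') (xor f f') := by
  cases σ <;> cases a <;> cases b <;> cases f <;> cases σ' <;> cases a' <;> cases b' <;> cases f' <;> rfl

/-- `⟨z, s, i k, j l⟩` -/
def abel (R : Rules true false true z i j k l x₁ x₂ y s) : Subgroup G :=
  ofMul {x | ∃ σ a b f : Bool, x = (at' σ a b f).ev z i j k l x₁ x₂ y s}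
    ⟨false, false, false, false, ev_one.symm⟩ (by
      rintro _ ⟨σ, a, b, f, rfl⟩ _ ⟨σ', a', b', f', rfl⟩
      exact ⟨_, _, _, _, (ev_mul R _ _).trans (congrArg (T.ev z i j k l x₁ x₂ y s) (at_mul _ _ _ _ _ _ _ _))⟩)

theorem abel_le (R : Rules true false true z i j k l x₁ x₂ y s) : abel R ≤ syl R := by
  rintro _ ⟨σ, a, b, f, rfl⟩
  exact ⟨_, rfl, rfl, rfl⟩

theorem abel_comm (R : Rules true false true z i j k l x₁ x₂ y s) {a b : G} (ha : a ∈ abel R) (hb : b ∈ abel R) :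
    a * b = b * a := by
  obtain ⟨σ, a, b, f, rfl⟩ := ha
  obtain ⟨σ', a', b', f', rfl⟩ := hb
  rw [ev_mul R, ev_mul R]
  have h1 := at_mul σ a b f σ' a' b' f'
  have h2 := at_mul σ' a' b' f' σ a b f
  unfold mu at h1 h2
  rw [h1, h2, Bool.xor_comm σ', Bool.xor_comm a', Bool.xor_comm b', Bool.xor_comm f']

theorem abel_sq (R : Rules true false true z i j k l x₁ x₂ y s) {a : G} (ha : a ∈ abel R) : a * a = 1 := by
  obtain ⟨σ, a, b, f, rfl⟩ := ha
  rw [ev_mul R]
  have h1 := at_mul σ a b f σ a b f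
  unfold mu at h1
  rw [h1, Bool.xor_self, Bool.xor_self, Bool.xor_self, Bool.xor_self]
  exact ev_one

theorem z_mem (R : Rules true false true z i j k l x₁ x₂ y s) : z ∈ abel R :=
  ⟨true, false, false, false, ev_z.symm⟩

theorem s_mem (R : Rules true false true z i j k l x₁ x₂ y s) : s ∈ abel R :=
  ⟨false, false, false, true, ev_s.symm⟩

theorem ik_mem (R : Rules true false true z i j k l x₁ x₂ y s) : i * k ∈ abel R :=
  ⟨false, true, false, false, by simp [T.ev, Qt.ev, at', pw, pw3]⟩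

theorem jl_mem (R : Rules true false true z i j k l x₁ x₂ y s) : j * l ∈ abel R :=
  ⟨false, false, true, false, by simp [T.ev, Qt.ev, at', pw, pw3]⟩

theorem chkC : allT (fun t => !(T.beq (mu t ts) (mu ts t) && (T.beq (mu t tik) (mu tik t) &&
    T.beq (mu t tjl) (mu tjl t))) || T.beq t (at' t.w.s t.w.a t.w.b t.f)) = true := by
  decide +kernel

/-- `C(A) = A` -/
theorem abel_self (h : Tw Q z i j k l x₁ x₂ y s) {g : G} (hg : ∀ a ∈ abel h.rules, g * a = a * g) :
    g ∈ abel h.rules := by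
  have R := h.rules
  obtain ⟨t, rfl⟩ := exists_ev h.toCase9aa R (hg z (z_mem R))
  have emul : ∀ t u : T, t.ev z i j k l x₁ x₂ y s * u.ev z i j k l x₁ x₂ y s =
      (mu t u).ev z i j k l x₁ x₂ y s := fun t u => ev_mul R t u
  have key : ∀ u : T, u.ev z i j k l x₁ x₂ y s ∈ abel R → T.beq (mu t u) (mu u t) = true := by
    intro u hu
    have h1 := hg _ hu
    rw [emul, emul] at h1
    rw [T.beq_iff]
    exact ev_inj h.toCase9aa R h1
  have k1 := key ts (by rw [ev_s]; exact s_mem R)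
  have k2 := key tik (by
    rw [tik, ← emul, ev_i, ev_k]; exact ik_mem R)
  have k3 := key tjl (by
    rw [tjl, ← emul, ev_j, ev_l]; exact jl_mem R)
  have h3 := allT_spec chkC t
  rw [k1, k2, k3, Bool.or_eq_true] at h3
  rcases h3 with h3 | h3
  · exact Bool.noConfusion h3
  · exact ⟨_, _, _, _, congrArg (T.ev z i j k l x₁ x₂ y s) (T.eq_of_beq h3)⟩

theorem abel_gen (R : Rules true false true z i j k l x₁ x₂ y s) {H : Subgroup G} (hz : z ∈ H) (hs : s ∈ H)
    (hik : i * k ∈ H) (hjl : j * l ∈ H) : abel R ≤ H := by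
  rintro _ ⟨σ, a, b, f, rfl⟩
  have e : (at' σ a b f).ev z i j k l x₁ x₂ y s = pw σ z * (pw a (i * k) * (pw b (j * l) * pw f s)) := by
    have hkj := R.kj
    have h1 : k * (j * l) = j * (k * l) := by rw [← mul_assoc, hkj, mul_assoc]
    cases σ <;> cases a <;> cases b <;> cases f <;> simp [T.ev, Qt.ev, at', pw, pw3, mul_assoc] <;>
      rw [← mul_assoc k j, hkj, mul_assoc]
  rw [e]
  have key : ∀ (b : Bool) (g : G), g ∈ H → pw b g ∈ H := by
    intro b g hg
    cases b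
    · exact one_mem _
    · exact hg
  exact mul_mem (key _ _ hz) (mul_mem (key _ _ hik) (mul_mem (key _ _ hjl) (key _ _ hs)))

/-- conjugation into `A` from the generators -/
theorem abel_conj (R : Rules true false true z i j k l x₁ x₂ y s) {g : G} (hz : g * z * g⁻¹ ∈ abel R)
    (hs : g * s * g⁻¹ ∈ abel R) (hik : g * (i * k) * g⁻¹ ∈ abel R) (hjl : g * (j * l) * g⁻¹ ∈ abel R) :
    ∀ a ∈ abel R, g * a * g⁻¹ ∈ abel R := by
  have h1 : abel R ≤ (abel R).comap (MulAut.conj g).toMonoidHom := abel_gen R hz hs hik hjl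
  intro a ha
  exact h1 ha

theorem chkN : allT (fun t => !(C3.eqb t.m C3.o && C3.eqb t.n C3.o) ||
    ([tz, ts, tik, tjl].all fun a => anyL [at' false false false false, at' true false false false,
      at' false true false false, at' true true false false, at' false false true false, at' true false true false,
      at' false true true false, at' true true true false, at' false false false true, at' true false false true,
      at' false true false true, at' true true false true, at' false false true true, at' true false true true,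
      at' false true true true, at' true true true true] fun b => T.beq (mu t a) (mu b t))) = true := by
  decide +kernel

/-- the Sylow 2-subgroup normalises `A` -/
theorem syl_norm (R : Rules true false true z i j k l x₁ x₂ y s) {g : G} (hg : g ∈ syl R) :
    ∀ a ∈ abel R, g * a * g⁻¹ ∈ abel R := by
  obtain ⟨t, h1, h2, rfl⟩ := hg
  have h3 := allT_spec chkN t
  rw [h1, h2, Bool.or_eq_true] at h3
  have emul : ∀ t u : T, t.ev z i j k l x₁ x₂ y s * u.ev z i j k l x₁ x₂ y s =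
      (mu t u).ev z i j k l x₁ x₂ y s := fun t u => ev_mul R t u
  rcases h3 with h3 | h3
  · exact Bool.noConfusion h3
  · rw [List.all_eq_true] at h3
    have key : ∀ a ∈ [tz, ts, tik, tjl], t.ev z i j k l x₁ x₂ y s * a.ev z i j k l x₁ x₂ y s *
        (t.ev z i j k l x₁ x₂ y s)⁻¹ ∈ abel R := by
      intro a ha
      obtain ⟨b, hb, h4⟩ := anyL_mem (h3 a ha)
      have h5 := T.eq_of_beq h4
      have h6 : ∃ σ a b' f, b = at' σ a b' f := by
        simp only [List.mem_cons, List.not_mem_nil, or_false] at hb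
        rcases hb with rfl | rfl | rfl | rfl | rfl | rfl | rfl | rfl | rfl | rfl | rfl | rfl | rfl | rfl | rfl | rfl <;>
          exact ⟨_, _, _, _, rfl⟩
      obtain ⟨σ, a', b', f, rfl⟩ := h6
      refine ⟨σ, a', b', f, ?_⟩
      rw [mul_inv_eq_iff_eq_mul, emul, emul, h5]
    have k1 := key tz (by simp)
    have k2 := key ts (by simp)
    have k3 := key tik (by simp)
    have k4 := key tjl (by simp)
    rw [ev_z] at k1
    rw [ev_s] at k2
    rw [tik, ← emul, ev_i, ev_k] at k3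
    rw [tjl, ← emul, ev_j, ev_l] at k4
    exact abel_conj R k1 k2 k3 k4

/-- `d` normalises `A` -/
theorem d_norm (R : Rules true false true z i j k l x₁ x₂ y s) (hd : Del z i j k l x₁ x₂ y s d) :
    ∀ a ∈ abel R, d * a * d⁻¹ ∈ abel R := by
  apply abel_conj R
  · rw [hd.dz]; exact s_mem R
  · rw [hd.ds]; exact mul_mem (s_mem R) (z_mem R)
  · rw [hd.dik, mul_inv_cancel_right]; exact ik_mem R
  · rw [hd.djl, mul_inv_cancel_right]; exact jl_mem R

end Cfsg.Agent.OddHalf.D4.Small.UFour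

end

-- merged: Cfsg.Agent.OddHalf.D4.Small.UFourRel
section

/-!
# ODD, D4, small Lie odd, `U₄(3)`: generation (helper890)

* `rel_of_perm`: the relations of the permutation model hold in every group with the rules of `U₄(3)`.
* `exists_gen`: a group `G` of order `|U₄(3)|` with the configuration `Tw` and `z ~ s ~ y s` is generated by `C(z)`
  and an element `d` with `Del`.
-/

set_option autoImplicit false
set_option maxRecDepth 10000

namespace Cfsg.Agent.OddHalf.D4.Small.UFour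

open Cfsg Cfsg.Agent.Co2Type.Quad Cfsg.Agent.LargeExtra.W2 Cfsg.Agent.LargeExtra.W2.CM
open Cfsg.Agent.LargeExtra.W2.U43 Cfsg.Agent.LargeExtra.W2.U43.Ident
open Cfsg.Agent.LargeExtra.W2.U43.ExistsD Cfsg.Agent.LargeExtra.W2.U43.ThreeLoc
open Cfsg.Agent.LargeExtra.W2.U43.ThreeLocJ Cfsg.Agent.LargeExtra.W2.U43.InvClass
open Cfsg.Agent.SporadicRecognition.CosetCert Cfsg.Agent.SporadicRecognition.CosetCertHyp

variable {G : Type*} [Group G] {z i j k l x₁ x₂ y s d e : G}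

theorem snd_inj (R : Rules true false true z i j k l x₁ x₂ y s) (hd : Del z i j k l x₁ x₂ y s d)
    (he : Del z i j (l * z) (k * z) x₁ x₂⁻¹ y (y * s) e) (j1 : x₁ * (d * x₁ * d⁻¹) = d * x₁ * d⁻¹ * x₁)
    (j2 : e * (x₁ * x₂) * e⁻¹ = d * (x₁ * x₂⁻¹) * d⁻¹ * (d⁻¹ * (x₁ * x₂⁻¹) * d)⁻¹) :
    Function.Injective ((MonoidHom.snd G (Equiv.Perm (Fin 280))).subgroupMap
      (Subgroup.closure ((fun t => (letters i z x₁ y s d e t, PermModel.P t)) '' {x | x < 12}))) := by
  obtain ⟨hf, hc⟩ := card_pairs R hd he j1 j2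
  set L := Subgroup.closure ((fun t => (letters i z x₁ y s d e t, PermModel.P t)) '' {x | x < 12}) with hL
  have h2 : M ≤ L.map (MonoidHom.snd G (Equiv.Perm (Fin 280))) := by
    rw [hL, Graph.map_snd_closure (letters i z x₁ y s d e) PermModel.P]
    exact PermModel.range_le
  have f2 : Function.Surjective ((MonoidHom.snd G (Equiv.Perm (Fin 280))).subgroupMap L) :=
    MonoidHom.subgroupMap_surjective _ _
  have : Finite (L.map (MonoidHom.snd G (Equiv.Perm (Fin 280)))) := Finite.of_surjective _ f2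
  have c1 : Nat.card (L.map (MonoidHom.snd G (Equiv.Perm (Fin 280)))) ≤ Nat.card L :=
    Nat.card_le_card_of_surjective _ f2
  have c2 : Nat.card M ≤ Nat.card (L.map (MonoidHom.snd G (Equiv.Perm (Fin 280)))) :=
    Subgroup.card_le_of_le h2
  have c3 : 3265920 ≤ Nat.card M := SporadicStructure.U43Perm.card_ge
  exact ((Nat.bijective_iff_surjective_and_card _).2 ⟨f2, by omega⟩).1

/-- The relations of the permutation model hold. -/
theorem rel_of_perm (R : Rules true false true z i j k l x₁ x₂ y s) (hd : Del z i j k l x₁ x₂ y s d)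
    (he : Del z i j (l * z) (k * z) x₁ x₂⁻¹ y (y * s) e) (j1 : x₁ * (d * x₁ * d⁻¹) = d * x₁ * d⁻¹ * x₁)
    (j2 : e * (x₁ * x₂) * e⁻¹ = d * (x₁ * x₂⁻¹) * d⁻¹ * (d⁻¹ * (x₁ * x₂⁻¹) * d)⁻¹)
    {w w' : List ℕ} (hw : ∀ t ∈ w, t < 12) (hw' : ∀ t ∈ w', t < 12) (h : PermModel.eqW w w' = true) :
    ev (letters i z x₁ y s d e) w = ev (letters i z x₁ y s d e) w' := by
  have inj := snd_inj R hd he j1 j2
  have mem : ∀ v : List ℕ, (∀ t ∈ v, t < 12) →
      (ev (letters i z x₁ y s d e) v, ev PermModel.P v) ∈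
        Subgroup.closure ((fun t => (letters i z x₁ y s d e t, PermModel.P t)) '' {x | x < 12}) := by
    intro v hv
    rw [← ev_prod]
    induction v with
    | nil => rw [ev_nil]; exact one_mem _
    | cons a v ih =>
      rw [ev_cons]
      exact mul_mem (Subgroup.subset_closure ⟨a, hv a (by simp), rfl⟩)
        (ih fun t ht => hv t (List.mem_cons_of_mem _ ht))
  have h1 : ev PermModel.P w = ev PermModel.P w' := PermModel.prod_eq_of_eqW h
  have h2 := @inj ⟨_, mem w hw⟩ ⟨_, mem w' hw'⟩ (Subtype.ext h1)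
  exact congrArg (fun u => u.1.1) h2

variable {Q : Subgroup G}

/-- `e` may be replaced by `z e z⁻¹` (helper893). -/
theorem conj_mirror (h : Tw Q z i j k l x₁ x₂ y s)
    (he : Del z i j (l * z) (k * z) x₁ x₂⁻¹ y (y * s) e) :
    Del z i j (l * z) (k * z) x₁ x₂⁻¹ y (y * s) (z * e * z⁻¹) := by
  have R := h.rules
  have R' := h.mirror.rules
  have iz : z⁻¹ = z := inv_eq_of_mul_eq_one_left R.zz
  have cz : ∀ {c c' w : G}, c * z = z * c → c' * z = z * c' → e * c * e⁻¹ = c' →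
      (z * e * z⁻¹) * c * (z * e * z⁻¹)⁻¹ = c' := by
    intro c c' w hc hc' h1
    calc (z * e * z⁻¹) * c * (z * e * z⁻¹)⁻¹ = z * e * z⁻¹ * (c * z) * e⁻¹ * z⁻¹ := by group
      _ = z * (e * c * e⁻¹) * z⁻¹ := by rw [hc]; group
      _ = c' * z * z⁻¹ := by rw [h1, hc']
      _ = c' := by group
  have cc : ∀ {c : G}, c * z = z * c → e * c = c * e → (z * e * z⁻¹) * c = c * (z * e * z⁻¹) := by
    intro c hc h1
    have h2 := cz (w := 1) hc hc (by rw [h1]; group)
    rwa [mul_inv_eq_iff_eq_mul] at h2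
  refine ⟨?_, ?_, ?_, ?_, ?_, ?_, ?_⟩
  · have := he.d3
    calc (z * e * z⁻¹) ^ 3 = z * e ^ 3 * z⁻¹ := conj_pow
      _ = 1 := by rw [this]; group
  · exact cz (w := 1) rfl (by coll R) he.dz
  · exact cz (w := 1) (by coll R) (by coll R) he.ds
  · exact cc (by coll R) he.dik
  · exact cc (by coll R) he.djl
  · exact cc (by rw [inv_x₂ R]; coll R) he.dr
  · have hy : y * z = z * y := by coll R
    calc y * (z * e * z⁻¹) * y⁻¹ = y * z * e * (y * z)⁻¹ := by group
      _ = z * (y * e * y⁻¹) * z⁻¹ := by rw [hy]; group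
      _ = z * (e⁻¹ * z) * z⁻¹ := by rw [he.dy]
      _ = (z * e * z⁻¹)⁻¹ * z := by group

/-- `z i j l` is conjugate to `i k` in `C(z)`. -/
theorem conj_zijl (h : Tw Q z i j k l x₁ x₂ y s) :
    ∃ c, c * z = z * c ∧ c * (z * i * j * l) = i * k * c := by
  have R := h.rules
  -- `x₁⁻¹ (i j) x₁ = j`, `x₁⁻¹ j x₁ = i`, `x₂⁻¹ l x₂ = k`
  refine ⟨z * j * (x₁ * x₁) * (x₁ * x₁) * (x₂ * x₂), ?_, ?_⟩ <;> coll R

/-- **Generation**: `C(z)` and `d` generate. -/
theorem exists_gen [Finite G] (h : Tw Q z i j k l x₁ x₂ y s) (hs : IsConj z s) (hys : IsConj z (y * s))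
    (hcard : Nat.card G = 3265920) :
    ∃ d, Del z i j k l x₁ x₂ y s d ∧
      ∀ H : Subgroup G, (∀ g, g * z = z * g → g ∈ H) → d ∈ H → H = ⊤ := by
  have R := h.rules
  obtain ⟨d, hd⟩ := exists_del h hs
  obtain ⟨e₀, he₀⟩ := exists_del h.mirror hys
  have h1 : x₁ * (d * x₁ * d⁻¹) = d * x₁ * d⁻¹ * x₁ := j1 h hd
  obtain ⟨e, he, h2⟩ : ∃ e, Del z i j (l * z) (k * z) x₁ x₂⁻¹ y (y * s) e ∧
      e * (x₁ * x₂) * e⁻¹ = d * (x₁ * x₂⁻¹) * d⁻¹ * (d⁻¹ * (x₁ * x₂⁻¹) * d)⁻¹ := by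
    rcases j2 h hd he₀ with h3 | h3
    · exact ⟨e₀, he₀, h3⟩
    · exact ⟨z * e₀ * z⁻¹, conj_mirror h he₀, h3⟩
  refine ⟨d, hd, ?_⟩
  -- the relation
  have h3 := rel_of_perm R hd he h1 h2 (w := [8, 0, 8, 3, 7, 3, 7, 5, 7])
    (w' := [2, 0, 3, 0, 4, 7, 3, 0, 4, 7, 8, 0, 8, 3, 7, 3, 7]) (by decide) (by decide) (by decide +kernel)
  simp only [ev, List.map_cons, List.map_nil, List.prod_cons, List.prod_nil, letters, mul_one] at h3
  have ss : s * s = 1 := by have := R.ss; simpa only [pw, cond_false] using this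
  have ew : s * (x₁ * s) = x₂ := by
    have h4 : s * x₁ = x₂ * s := R.sx
    rw [← mul_assoc, h4, mul_assoc, ss, mul_one]
  have ej : x₁ * (i * x₁⁻¹) = j := by
    have h4 : x₁ * i * x₁⁻¹ = j := h.x₁_act.i
    rw [← mul_assoc]; exact h4
  have el : s * (j * s) = l := by
    have h4 : s * j = l * s := R.sj
    rw [← mul_assoc, h4, mul_assoc, ss, mul_one]
  have e1 : d * (i * (d * (x₁ * (s * (x₁ * (s * (y * s))))))) = d * i * d * (x₁ * x₂) * (y * s) := by
    rw [← ew]; simp only [mul_assoc]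
  have e2 : z * (i * (x₁ * (i * (x₁⁻¹ * (s * (x₁ * (i * (x₁⁻¹ * (s * (d * (i * (d * (x₁ * (s * (x₁ * s)))))))))))))))
      = z * i * j * l * (d * i * d * (x₁ * x₂)) := by
    rw [← ew, ← el, ← ej]; simp only [mul_assoc]
  rw [e1, e2] at h3
  intro H hC hdH
  have mi : i ∈ H := hC i (by coll R)
  have mj : j ∈ H := hC j (by coll R)
  have mr : x₁ * x₂ ∈ H := hC _ (by coll R)
  have mw : d * i * d * (x₁ * x₂) ∈ H := mul_mem (mul_mem (mul_mem hdH mi) hdH) mr
  obtain ⟨c, hc, hcc⟩ := conj_zijl h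
  have mc : c ∈ H := hC c hc
  have hw := conj_ik h hd
  have mv : j⁻¹ * d⁻¹ * i * d * d ∈ H :=
    mul_mem (mul_mem (mul_mem (mul_mem (inv_mem mj) (inv_mem hdH)) mi) hdH) hdH
  obtain ⟨v, hv⟩ : ∃ v, v = j⁻¹ * d⁻¹ * i * d * d := ⟨_, rfl⟩
  obtain ⟨w, hw'⟩ : ∃ w, w = d * i * d * (x₁ * x₂) := ⟨_, rfl⟩
  rw [← hv] at hw mv
  rw [← hw'] at h3 mw
  -- `y s = (w⁻¹ c⁻¹ v) z (…)⁻¹`
  have h4 : (w⁻¹ * c⁻¹ * v) * z * (w⁻¹ * c⁻¹ * v)⁻¹ = y * s := by
    calc (w⁻¹ * c⁻¹ * v) * z * (w⁻¹ * c⁻¹ * v)⁻¹ = w⁻¹ * c⁻¹ * (v * z * v⁻¹) * c * w := by group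
      _ = w⁻¹ * c⁻¹ * (i * k * c) * w := by rw [hw]; group
      _ = w⁻¹ * (z * i * j * l * w) := by rw [← hcc]; group
      _ = y * s := by rw [← h3]; group
  have h5 : e * z * e⁻¹ = y * s := he.dz
  have mV : w⁻¹ * c⁻¹ * v ∈ H := mul_mem (mul_mem (inv_mem mw) (inv_mem mc)) mv
  obtain ⟨V, hV⟩ : ∃ V, V = w⁻¹ * c⁻¹ * v := ⟨_, rfl⟩
  rw [← hV] at h4 mV
  have h6 : V⁻¹ * e * z = z * (V⁻¹ * e) := by
    calc V⁻¹ * e * z = V⁻¹ * (e * z * e⁻¹) * e := by group
      _ = V⁻¹ * (V * z * V⁻¹) * e := by rw [h5, h4]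
      _ = z * (V⁻¹ * e) := by group
  have me : e ∈ H := by
    have h7 := mul_mem mV (hC _ h6)
    rwa [mul_inv_cancel_left] at h7
  have hle : Subgroup.closure ({i, j, k, l, x₁, x₂, y, s, d, e} : Set G) ≤ H := by
    rw [Subgroup.closure_le]
    intro g hg
    simp only [Set.mem_insert_iff, Set.mem_singleton_iff] at hg
    rcases hg with rfl | rfl | rfl | rfl | rfl | rfl | rfl | rfl | rfl | rfl
    · exact mi
    · exact mj
    · exact hC _ (by coll R)
    · exact hC _ (by coll R)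
    · exact hC _ (by coll R)
    · exact hC _ (by coll R)
    · exact hC _ (by coll R)
    · exact hC _ (by coll R)
    · exact hdH
    · exact me
  have hc := (card_simple R h.large.z_ne hd he h1 h2).1
  have h8 : Nat.card H = Nat.card G := by
    apply le_antisymm
    · exact Nat.card_le_card_of_injective _ H.subtype_injective
    · rw [hcard, ← hc]
      exact Subgroup.card_le_of_le hle
  exact Subgroup.eq_top_of_card_eq H h8

end Cfsg.Agent.OddHalf.D4.Small.UFour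

end

-- merged: Cfsg.Agent.OddHalf.D4.Small.UFour
section

/-!
# ODD, D4, small Lie odd: the row of `U₄(3)` (helper890)
-/

set_option autoImplicit false

namespace Cfsg.Agent.OddHalf.D4.Small.UFour

open Subgroup Cfsg.Agent.Co2Type.Quad Cfsg.Agent.LargeExtra.W2 Cfsg.Agent.LargeExtra.W2.CM
open Cfsg.Agent.LargeExtra.W2.U43 Cfsg.Agent.LargeExtra.W2.U43.ExistsD Cfsg.Agent.LargeExtra.W2.U43.InvClass
open Cfsg.Agent.OddHalf.D6.QThree.U43Facts Cfsg.Agent.OddHalf.D6.QThree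

universe u

variable {K : Type u} [Group K] [Finite K] {Q : Subgroup K} {z i j k l x₁ x₂ y s : K}

/-- `syl` is a Sylow 2-subgroup. -/
theorem exists_sylow (h : Tw Q z i j k l x₁ x₂ y s) (hcard : Nat.card K = 3265920) :
    ∃ S : Sylow 2 K, (S : Subgroup K) = syl h.rules := by
  have : Fact (Nat.Prime 2) := ⟨Nat.prime_two⟩
  have h1 : Nat.card (syl h.rules) ∣ 2 ^ 7 := by
    obtain ⟨n, hn⟩ := IsPGroup.iff_card.1 (syl_isPGroup h.rules)
    have h2 : Nat.card (syl h.rules) ∣ Nat.card K := Subgroup.card_subgroup_dvd_card _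
    rw [hcard, show (3265920 : ℕ) = 2 ^ 7 * 25515 by norm_num] at h2
    rw [hn] at h2 ⊢
    exact (Nat.Coprime.pow_left n (by decide : Nat.Coprime 2 25515)).dvd_of_dvd_mul_right h2
  have h2 : Nat.card (syl h.rules) = 2 ^ 7 :=
    le_antisymm (Nat.le_of_dvd (by norm_num) h1) (syl_card h)
  have h3 : Nat.card (syl h.rules) = 2 ^ (Nat.card K).factorization 2 := by
    rw [h2, hcard]
    congr 1
    have : (3265920 : ℕ) = 2 ^ 7 * 25515 := by norm_num
    rw [this, Nat.factorization_mul (by norm_num) (by norm_num), Nat.Prime.factorization_pow Nat.prime_two]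
    simp [Nat.factorization_eq_zero_of_not_dvd]
  exact ⟨Sylow.ofCard (syl h.rules) h3, rfl⟩

/-- `C_P(Q) = ⟨z⟩` -/
theorem self' (h : Tw Q z i j k l x₁ x₂ y s) (p : K) (hp : p * z = z * p) (hc : ∀ r ∈ Q, p * r = r * p) :
    p = 1 ∨ p = z := h.large.cent p (h.large.self p hp hc) hc

/-- the sheet -/
theorem sheet (h : Tw Q z i j k l x₁ x₂ y s) : Sheet K (syl h.rules) Q z := by
  have R := h.rules
  obtain ⟨d1, d2, d3, d4⟩ := x₁_facts h
  refine Sheet.of_QQ (Q₁ := Q1 R) (Q₂ := Q2 R) ?_ (isQQ h) (self' h) d1 d2 d3 d4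
  refine { z2 := R.zz, z1 := h.large.z_ne, zR := h.large.z_mem, RS := le_syl h,
           zc := fun x hx => syl_comm R hx, uniq := ?_, Rn := h.large.conj_mem, char := ?_ }
  · intro x hx _ hx1 hxc
    rcases self' h x (syl_comm R hx) (fun r hr => (hxc r (le_syl h hr)).symm) with h1 | h1
    · exact absurd h1 hx1
    · exact h1
  · intro α hα r hr
    have hN : Q.map α.toMonoidHom ≤ Q := by
      refine U43Tw.le_of_act h.toPlus h.x₁_act h.x₂_act _ ?_ ?_ ?_
      · rintro _ ⟨q, hq, rfl⟩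
        rw [mem_centralizer_singleton_iff]
        show α q * z = z * α q
        have h1 := congrArg α (h.large.comm_z q hq)
        rwa [map_mul, map_mul, hα] at h1
      · rintro c hc _ ⟨q, hq, rfl⟩
        rw [mem_centralizer_singleton_iff] at hc
        have hc' : α.symm c * z = z * α.symm c := by
          have h1 := congrArg α.symm hc
          have h2 : α.symm z = z := by
            rw [MulEquiv.symm_apply_eq]; exact hα.symm
          rwa [map_mul, map_mul, h2] at h1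
        refine ⟨_, h.large.conj_mem _ hc' q hq, ?_⟩
        show α (α.symm c * q * (α.symm c)⁻¹) = c * α q * c⁻¹
        rw [map_mul, map_mul, map_inv, MulEquiv.apply_symm_apply]
      · exact (LargeExtra.Base.isPGroup h.large).map _
    exact hN ⟨r, hr, rfl⟩

/-- **`U₄(3)`: the row.** -/
theorem row_of_tw (h : Tw Q z i j k l x₁ x₂ y s) (hs : IsConj z s) (hys : IsConj z (y * s))
    (hcard : Nat.card K = 3265920) : Row K := by
  have R := h.rules
  obtain ⟨S, hS⟩ := exists_sylow h hcard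
  obtain ⟨d, hd, hgen⟩ := exists_gen h hs hys hcard
  have hsh := sheet h
  rw [← hS] at hsh
  have hodd : Odd (S : Subgroup K).index := by
    rw [← Nat.not_even_iff_odd, even_iff_two_dvd]
    have : Fact (Nat.Prime 2) := ⟨Nat.prime_two⟩
    exact S.not_dvd_index
  refine ⟨HasSheet.of_one hsh, FOneK.of_one S ?_, ?_⟩
  · -- the second local subgroup
    let L : Subgroup K := normalizer (abel R : Set K)
    have hSL : (S : Subgroup K) ≤ L := by
      intro g hg
      have hg' : g ∈ syl R := hS ▸ hg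
      rw [mem_normalizer_iff]
      intro a
      constructor
      · exact fun ha => syl_norm R hg' a ha
      · intro ha
        have h1 := syl_norm R (inv_mem hg') _ ha
        have h2 : g⁻¹ * (g * a * g⁻¹) * g⁻¹⁻¹ = a := by group
        rwa [h2] at h1
    have hdL : d ∈ L := by
      have h1 := d_norm R hd
      rw [mem_normalizer_iff]
      intro a
      constructor
      · exact fun ha => h1 a ha
      · intro ha
        have h2 := h1 _ (h1 _ ha)
        have h3 : d * (d * (d * a * d⁻¹) * d⁻¹) * d⁻¹ = d * d * d * a * (d * d * d)⁻¹ := by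
          simp only [mul_inv_rev, mul_assoc]
        have h4 : d * d * d = 1 := by rw [← hd.d3, pow_succ, pow_two]
        rw [h3, h4] at h2
        simpa using h2
    refine fOne_of_local (R := Q) (A := abel R) (L := L) (z := z) S.isPGroup' hodd hsh.RS hsh.zc hsh.Rn ?_ ?_ ?_ ?_
      ?_ ?_ ?_
    · intro x hx hxr
      refine ⟨h.large.self x hx hxr, ?_⟩
      intro p hp
      rcases self' h x hx hxr with h1 | h1
      · rw [h1]; simp
      · rw [h1, hp]
    · rw [hS]; exact abel_le R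
    · intro x
      constructor
      · exact fun hx => abel_self h hx
      · exact fun hx a ha => abel_comm R hx ha
    · intro g hg a ha
      exact (mem_normalizer_iff.mp hg a).mp ha
    · have h1 : (S : Subgroup K).relIndex L ∣ (S : Subgroup K).index := relIndex_dvd_index_of_le hSL
      exact Odd.of_dvd_nat hodd h1
    · intro a ha hac p hp
      have hac' : ∀ r ∈ Q, a * r = r * a := fun r hr =>
        (hac r (hsh.RS hr) (hSL (hsh.RS hr))).symm
      have haz : a * z = z * a := abel_comm R ha (z_mem R)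
      rcases self' h a haz hac' with h1 | h1
      · rw [h1]; simp
      · rw [h1, hp]
    · intro H hP hLH
      exact hgen H hP (hLH hdL)
  · -- `K = ⟨C(z), C(i k)⟩`
    have hik : i * k ∈ (S : Subgroup K) := by rw [hS]; exact abel_le R (ik_mem R)
    refine NoSEK.of_gen (z := z) (w := i * k) (hsh.RS hsh.zR) hik hsh.z2 hsh.z1 (abel_sq R (ik_mem R)) ?_ ?_
    · intro h1
      have h2 : j * (i * k) = (i * k) * j * z := by coll R
      rw [h1, mul_one, one_mul] at h2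
      exact h.large.z_ne (by simpa using h2)
    · intro H h1 h2
      exact hgen H h1 (h2 d hd.dik)

/-- **`U₄(3)`** -/
theorem row {X : Type u} [Group X] {F : Type*} [Field F] [Fintype F] (hF : Fintype.card F = 9)
    (f : X ≃* Cfsg.PSU 4 F 3) : Row X := by
  have : Fact (Nat.Prime 3) := ⟨Nat.prime_three⟩
  have : CharP F 3 := charP_of_card_eq_prime_pow (f := 2) (by rw [hF]; norm_num)
  have : Finite (Cfsg.PSU 4 F 3) := inferInstance
  obtain ⟨i, j, k, l, x₁, x₂, y, s, h, hs, hys⟩ := U43Tw.exists_tw (F := F) hF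
  exact (row_of_tw h hs hys (by rw [U43Tw.card_K hF]; norm_num)).of_equiv f.symm

end Cfsg.Agent.OddHalf.D4.Small.UFour

end

-- merged: Cfsg.Agent.OddHalf.D4.Small.LFourG
section

/-!
# ODD, D4, small Lie odd: `L₄(3)`, Theorem 1

`K`, `K'` two subgroups with the facts `BaseL`, no common involution in `C(K)`, `C(K')`. Then `C(K') ∩ N(K)` has
2-rank at most 1.
-/

set_option autoImplicit false

namespace Cfsg.Agent.OddHalf.D4.Small.LFour

open Subgroup Cfsg Basic

variable {G : Type*} [Group G]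

/-- The facts on `K` used for every conjugate of `K`. -/
structure BaseL (K : Subgroup G) : Prop where
  te : TE K
  cen : ∀ x ∈ K, x ∈ centralizer (K : Set G) → x = 1
  simp : ∀ N : Subgroup G, N ≤ K → (∀ a ∈ K, ∀ n ∈ N, a * n * a⁻¹ ∈ N) → N = ⊥ ∨ N = K
  sheet : HasSheetL ↥K
  /-- `m_2(C(K)) ≥ 2` -/
  rk : ∃ a ∈ centralizer (K : Set G), ∃ b ∈ centralizer (K : Set G), a * a = 1 ∧ b * b = 1 ∧ a ≠ 1 ∧ b ≠ 1 ∧
    a ≠ b ∧ a * b = b * a

theorem BaseL.toBase [Finite G] {K : Subgroup G} (h : BaseL K) : Base K :=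
  ⟨h.te, h.cen, h.simp, fun _ hS => h.sheet.hasSheet.atS hS, h.rk⟩

section Pull

variable {K S : Subgroup G}

theorem atS_of {P R : Subgroup ↥K} {z : ↥K} (hS : IsSyl S (normalizer (K : Set G)))
    (hP : ∀ x : ↥K, x ∈ P ↔ (x : G) ∈ S) (hs : Sheet ↥K P R z) : AtS K S (R.map K.subtype) (z : G) := by
  have hzP : z ∈ P := hs.RS hs.zR
  have hzS : (z : G) ∈ S := (hP z).mp hzP
  have huniq : ∀ x ∈ S, x ∈ K → x * x = 1 → x ≠ 1 → (∀ s ∈ S, s ∈ K → s * x = x * s) → x = (z : G) := by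
    intro x hxS hxK hx2 hx1 hxc
    have h1 := hs.uniq ⟨x, hxK⟩ ((hP _).mpr hxS) (Subtype.ext hx2) (fun h1 => hx1 (congrArg Subtype.val h1))
      (fun s hs' => Subtype.ext (hxc s ((hP s).mp hs') s.2))
    exact congrArg Subtype.val h1
  refine ⟨hs.toLocG, hzS, ?_, huniq⟩
  intro s hs'
  have hsN := hS.le hs'
  have h1 : s * (z : G) * s⁻¹ = z := by
    refine huniq _ (S.mul_mem (S.mul_mem hs' hzS) (S.inv_mem hs')) ((mem_normalizer_iff.mp hsN _).mp z.2) ?_ ?_ ?_
    · have h2 : (z : G) * z = 1 := congrArg Subtype.val hs.z2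
      calc s * (z : G) * s⁻¹ * (s * z * s⁻¹) = s * ((z : G) * z) * s⁻¹ := by group
        _ = 1 := by rw [h2]; group
    · intro h2
      apply hs.z1
      apply Subtype.ext
      have h3 : (z : G) = s⁻¹ * (s * z * s⁻¹) * s := by group
      rw [h3, h2]
      group
      rfl
    · intro t ht htK
      have h2 : s⁻¹ * t * s ∈ S := S.mul_mem (S.mul_mem (S.inv_mem hs') ht) hs'
      have h3 : s⁻¹ * t * s ∈ K := (mem_normalizer_iff''.mp hsN t).mp htK
      have h4 : (⟨s⁻¹ * t * s, h3⟩ : ↥K) * z = z * ⟨s⁻¹ * t * s, h3⟩ := hs.zc _ ((hP _).mpr h2)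
      have h5 : s⁻¹ * t * s * (z : G) = z * (s⁻¹ * t * s) := congrArg Subtype.val h4
      calc t * (s * (z : G) * s⁻¹) = s * (s⁻¹ * t * s * z) * s⁻¹ := by group
        _ = s * (z * (s⁻¹ * t * s)) * s⁻¹ := by rw [h5]
        _ = s * z * s⁻¹ * t := by group
  calc s * (z : G) = (s * z * s⁻¹) * s := by group
    _ = z * s := by rw [h1]

/-- the type of a 2-element centralizing the Sylow subgroup -/
def Ty (z : ↥K) (ρ : MulAut ↥K) (i : Fin 4) (x : ↥K) : ↥K :=
  if i = 0 then z * x * z⁻¹ else if i = 1 then ρ x else if i = 2 then ρ (z * x * z⁻¹) else x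

/-- A 2-element centralizing `S ∩ K` acts on `K` as one of the four automorphisms. -/
theorem act_four {P R : Subgroup ↥K} {z : ↥K} {ρ : MulAut ↥K} (hS : IsSyl S (normalizer (K : Set G)))
    (hP : ∀ x : ↥K, x ∈ P ↔ (x : G) ∈ S) (hs : SheetL ↥K P R z ρ) {c : G} (hc : c ∈ S)
    (hcc : ∀ s ∈ S, s ∈ K → c * s = s * c) : ∃ i : Fin 4, ∀ x : ↥K, c * x * c⁻¹ = (Ty z ρ i x : G) := by
  have hcN := hS.le hc
  obtain ⟨n, hn⟩ := hS.two ⟨c, hc⟩
  have hn' : c ^ 2 ^ n = 1 := congrArg Subtype.val hn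
  have h := hs.four (cAut hcN) ⟨n, by
    ext x
    rw [cAut_pow, hn']
    simp⟩ (fun s hs => (cAut_eq_iff hcN s).mpr (hcc s ((hP s).mp hs) s.2))
  rcases h with h | h | h | h
  · exact ⟨3, fun x => congrArg Subtype.val (h x)⟩
  · exact ⟨0, fun x => congrArg Subtype.val (h x)⟩
  · exact ⟨1, fun x => congrArg Subtype.val (h x)⟩
  · exact ⟨2, fun x => congrArg Subtype.val (h x)⟩

/-- two elements acting in the same way differ by an element of `C(K)` -/
theorem mem_centralizer_of_eq {c d : G} (hd : d ∈ normalizer (K : Set G))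
    (h : ∀ x : ↥K, c * x * c⁻¹ = d * x * d⁻¹) : c * d⁻¹ ∈ centralizer (K : Set G) := by
  rw [mem_centralizer_iff]
  intro x hx
  have h1 := h ⟨d⁻¹ * x * d, (mem_normalizer_iff''.mp hd x).mp hx⟩
  have h2 : c * (d⁻¹ * x * d) * c⁻¹ = d * (d⁻¹ * x * d) * d⁻¹ := h1
  calc x * (c * d⁻¹) = (d * (d⁻¹ * x * d) * d⁻¹) * (c * d⁻¹) := by group
    _ = (c * (d⁻¹ * x * d) * c⁻¹) * (c * d⁻¹) := by rw [h2]
    _ = c * d⁻¹ * x := by group

theorem le_of_subgroupOf {H : Subgroup G} (h : H.subgroupOf K = ⊤) : K ≤ H := by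
  intro x hx
  have h2 : (⟨x, hx⟩ : ↥K) ∈ H.subgroupOf K := by rw [h]; exact mem_top _
  exact mem_subgroupOf.mp h2

end Pull

/-- `K ≤ N(K')` is impossible when some element of `C(K') ∩ N(K)` is not in `C(K)`. -/
theorem inf_eq_bot {K K' : Subgroup G} (hK : BaseL K) (hcom : ¬ K ≤ centralizer (K' : Set G))
    (hle : K ≤ normalizer (K' : Set G)) : ∀ x ∈ K, x ∈ centralizer (K' : Set G) → x = 1 := by
  rcases hK.simp (K ⊓ centralizer (K' : Set G)) inf_le_left (by
    intro x hx n hn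
    exact ⟨K.mul_mem (K.mul_mem hx hn.1) (K.inv_mem hx), mem_centralizer_conj (hle hx) hn.2⟩) with h1 | h1
  · intro x hx hxC
    have h2 : x ∈ K ⊓ centralizer (K' : Set G) := ⟨hx, hxC⟩
    rw [h1, mem_bot] at h2
    exact h2
  · exfalso
    apply hcom
    intro x hx
    have h2 : x ∈ K ⊓ centralizer (K' : Set G) := by rw [h1]; exact hx
    exact h2.2

/-- Step A: `z ∈ C(K')`. -/
theorem z_mem {K K' S : Subgroup G} {P R : Subgroup ↥K} {z : ↥K} {ρ : MulAut ↥K} {a b : G} (hK : BaseL K)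
    (te' : TE K')
    (nc : ∀ x ∈ centralizer (K : Set G), x ∈ centralizer (K' : Set G) → x * x = 1 → x = 1)
    (hcom : ¬ K ≤ centralizer (K' : Set G))
    (hS : IsSyl S (normalizer (K : Set G))) (hP : ∀ x : ↥K, x ∈ P ↔ (x : G) ∈ S) (hs : SheetL ↥K P R z ρ)
    (haS : a ∈ S) (hbS : b ∈ S)
    (haC : a ∈ centralizer (K' : Set G)) (hbC : b ∈ centralizer (K' : Set G)) (ha2 : a * a = 1)
    (hb2 : b * b = 1) (ha1 : a ≠ 1) (hb1 : b ≠ 1) (hne : a ≠ b) (hab : a * b = b * a) :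
    (z : G) ∈ centralizer (K' : Set G) := by
  by_contra hz
  have hA := atS_of hS hP hs.toSheet
  have hT : Two K K' z a b := ⟨hS.le haS, hS.le hbS, haC, hbC, ha2, hb2, ha1, hb1, hne, hab, hA.zc a haS,
    hA.zc b hbS⟩
  obtain ⟨h1, h2⟩ := centralizes hA.loc te' hz hT
  obtain ⟨-, h3⟩ := centralizes hA.loc te' hz hT.right
  -- the types
  have ty : ∀ c ∈ S, (∀ p ∈ K, p * z = z * p → c * p = p * c) →
      ∃ i : Fin 4, ∀ x : ↥K, c * x * c⁻¹ = (Ty z ρ i x : G) := fun c hc hcP =>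
    act_four hS hP hs hc (fun s hsS hsK => hcP s hsK (hA.zc s hsS))
  obtain ⟨i, hi⟩ := ty a haS h1
  obtain ⟨j, hj⟩ := ty b hbS h2
  obtain ⟨k, hk⟩ := ty (a * b) (mul_mem haS hbS) h3
  have triv : ∀ c : G, c ∈ centralizer (K' : Set G) → c * c = 1 → c ≠ 1 →
      (∀ x : ↥K, c * x * c⁻¹ = (Ty z ρ 3 x : G)) → False := by
    intro c hcC hc2 hc1 hc
    apply hc1
    refine nc c ?_ hcC hc2
    rw [mem_centralizer_iff]
    intro x hx
    have h4 : c * x * c⁻¹ = x := hc ⟨x, hx⟩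
    calc x * c = (c * x * c⁻¹) * c := by rw [h4]
      _ = c * x := by group
  have same : ∀ c d : G, d ∈ normalizer (K : Set G) → c ∈ centralizer (K' : Set G) →
      d ∈ centralizer (K' : Set G) → c * c = 1 → d * d = 1 → c ≠ d → c * d = d * c →
      ∀ l : Fin 4, (∀ x : ↥K, c * x * c⁻¹ = (Ty z ρ l x : G)) → (∀ x : ↥K, d * x * d⁻¹ = (Ty z ρ l x : G)) →
      False := by
    intro c d hdN hcC hdC hc2 hd2 hcd hcomm l hc hd
    have h4 := mem_centralizer_of_eq hdN (fun x => (hc x).trans (hd x).symm)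
    have h5 : d⁻¹ = d := inv_eq_self_of hd2
    rw [h5] at h4
    apply hcd
    have h6 : c * d = 1 := by
      refine nc _ h4 (mul_mem hcC hdC) ?_
      calc c * d * (c * d) = c * (d * c) * d := by group
        _ = c * (c * d) * d := by rw [hcomm]
        _ = (c * c) * (d * d) := by group
        _ = 1 := by rw [hc2, hd2, mul_one]
    calc c = c * (d * d) := by rw [hd2, mul_one]
      _ = (c * d) * d := by group
      _ = d := by rw [h6, one_mul]
  have hr := hT.right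
  have hr' := hT.symm.right
  have hi3 : i ≠ 3 := by rintro rfl; exact triv a haC ha2 ha1 hi
  have hj3 : j ≠ 3 := by rintro rfl; exact triv b hbC hb2 hb1 hj
  have hk3 : k ≠ 3 := by rintro rfl; exact triv _ hr.bC hr.b2 hr.b1 hk
  have hij : i ≠ j := by
    rintro rfl
    exact same a b hT.bN haC hbC ha2 hb2 hne hab i hi hj
  have hik : i ≠ k := by
    rintro rfl
    exact same a (a * b) hr.bN haC hr.bC ha2 hr.b2 hr.ab hr.com i hi hk
  have hjk : j ≠ k := by
    rintro rfl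
    have h5 : b ≠ a * b := by
      intro h6
      exact ha1 (by simpa using h6.symm)
    refine same b (a * b) hr.bN hbC hr.bC hb2 hr.b2 h5 ?_ j hj hk
    calc b * (a * b) = (b * a) * b := by group
      _ = (a * b) * b := by rw [hab]
  have hall : ∀ l : Fin 4, l ≠ 3 → ∃ c ∈ centralizer (K' : Set G), c * c = 1 ∧ c ≠ 1 ∧
      ∀ x : ↥K, c * x * c⁻¹ = (Ty z ρ l x : G) := by
    intro l hl
    have key : ∀ i j k l : Fin 4, i ≠ 3 → j ≠ 3 → k ≠ 3 → i ≠ j → i ≠ k → j ≠ k → l ≠ 3 →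
        l = i ∨ l = j ∨ l = k := by decide
    rcases key i j k l hi3 hj3 hk3 hij hik hjk hl with rfl | rfl | rfl
    · exact ⟨a, haC, ha2, ha1, hi⟩
    · exact ⟨b, hbC, hb2, hb1, hj⟩
    · exact ⟨a * b, hr.bC, hr.b2, hr.b1, hk⟩
  -- `K ≤ N(K')`
  have hKN : K ≤ normalizer (K' : Set G) := by
    apply le_of_subgroupOf
    have key : ∀ l : Fin 4, l ≠ 3 → ∀ x : ↥K, Ty z ρ l x = x → x ∈ (normalizer (K' : Set G)).subgroupOf K := by
      intro l hl x hx
      obtain ⟨c, hcC, hc2, hc1, hc⟩ := hall l hl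
      rw [mem_subgroupOf]
      refine te' c hcC hc2 hc1 x ?_
      have h4 := hc x
      rw [hx] at h4
      calc (x : G) * c = (c * x * c⁻¹) * c := by rw [h4]
        _ = c * x := by group
    refine hs.gen1 _ ?_ ?_ ?_
    · intro x hx
      refine key 0 (by decide) x ?_
      show z * x * z⁻¹ = x
      rw [← hx]
      group
    · intro x hx
      exact key 1 (by decide) x hx
    · intro x hx
      exact key 2 (by decide) x hx
  have hbot := inf_eq_bot hK hcom hKN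
  apply ha1
  refine nc a ?_ haC ha2
  rw [mem_centralizer_iff]
  intro x hx
  have h4 : a * x * a⁻¹ * x⁻¹ = 1 := by
    refine hbot _ (K.mul_mem ((mem_normalizer_iff.mp hT.aN x).mp hx) (K.inv_mem hx)) ?_
    have h5 := mul_mem haC (mem_centralizer_conj (hKN hx) (inv_mem haC))
    have h6 : a * (x * a⁻¹ * x⁻¹) = a * x * a⁻¹ * x⁻¹ := by group
    rwa [h6] at h5
  calc x * a = (a * x * a⁻¹ * x⁻¹)⁻¹ * (a * x) := by group
    _ = a * x := by rw [h4, inv_one, one_mul]

/-- conjugation as a homomorphism -/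
def conjN (K : Subgroup G) : ↥(normalizer (K : Set G)) →* MulAut ↥K where
  toFun a := cAut a.2
  map_one' := by
    ext x
    rw [cAut_coe]
    simp
  map_mul' a b := by
    ext x
    rw [MulAut.mul_apply, cAut_coe, cAut_coe, cAut_coe, coe_mul]
    group

/-- **Theorem 1.** -/
theorem rank_le_one [Finite G] {K K' : Subgroup G} (hK : BaseL K) (hK' : BaseL K')
    (nc : ∀ x ∈ centralizer (K : Set G), x ∈ centralizer (K' : Set G) → x * x = 1 → x = 1)
    (hcom : ¬ K ≤ centralizer (K' : Set G)) (hcom' : ¬ K' ≤ centralizer (K : Set G))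
    {a b : G} (haN : a ∈ normalizer (K : Set G)) (hbN : b ∈ normalizer (K : Set G))
    (haC : a ∈ centralizer (K' : Set G)) (hbC : b ∈ centralizer (K' : Set G)) (ha2 : a * a = 1)
    (hb2 : b * b = 1) (ha1 : a ≠ 1) (hb1 : b ≠ 1) (hne : a ≠ b) (hab : a * b = b * a) : False := by
  have nc' : ∀ x ∈ centralizer (K' : Set G), x ∈ centralizer (K : Set G) → x * x = 1 → x = 1 :=
    fun x h1 h2 h3 => nc x h2 h1 h3
  have mem_cl : ∀ a b : G, a ∈ closure ({a, b} : Set G) ∧ b ∈ closure ({a, b} : Set G) := fun a b =>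
    ⟨subset_closure (by simp), subset_closure (by simp)⟩
  have cl_le : ∀ (a b : G) (H : Subgroup G), a ∈ H → b ∈ H → closure ({a, b} : Set G) ≤ H := by
    intro a b H ha hb
    rw [closure_le]
    rintro x (rfl | hx)
    · exact ha
    · rw [Set.mem_singleton_iff] at hx
      subst hx
      exact hb
  -- the first Sylow subgroup
  obtain ⟨S, hS, hle⟩ := exists_isSyl (isPGroup_pair ha2 hb2 hab) (cl_le a b _ haN hbN)
  obtain ⟨P, hP⟩ := exists_sylow_inf hS
  obtain ⟨z, R, ρ, hs⟩ := hK.sheet P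
  have hA := atS_of hS hP hs.toSheet
  have hz := z_mem hK hK'.te nc hcom hS hP hs (hle (mem_cl a b).1) (hle (mem_cl a b).2) haC hbC ha2 hb2 ha1
    hb1 hne hab
  -- the second one
  have hCN : centralizer (K : Set G) ≤ normalizer (K' : Set G) := by
    intro x hx
    exact hK'.te z hz hA.loc.z2 hA.loc.z1 x (comm_of_centralizer hx hA.loc.zK).symm
  obtain ⟨c, hc, d, hd, hc2, hd2, hc1, hd1, hcd, hcdc⟩ := hK.rk
  obtain ⟨S', hS', hle'⟩ := exists_isSyl (isPGroup_pair hc2 hd2 hcdc) (cl_le c d _ (hCN hc) (hCN hd))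
  obtain ⟨P', hP'⟩ := exists_sylow_inf hS'
  obtain ⟨z', R', ρ', hs'⟩ := hK'.sheet P'
  have hA' := atS_of hS' hP' hs'.toSheet
  have hz' := z_mem hK' hK.te nc' hcom' hS' hP' hs' (hle' (mem_cl c d).1) (hle' (mem_cl c d).2) hc hd hc2 hd2
    hc1 hd1 hcd hcdc
  -- the common Sylow subgroup
  obtain ⟨T, hT, -⟩ := exists_isSyl (M := normalizer (K : Set G) ⊓ normalizer (K' : Set G))
    (Q := (⊥ : Subgroup G)) IsPGroup.of_bot bot_le
  obtain ⟨S₁, hS₁, hTS₁⟩ := exists_isSyl hT.two (hT.le.trans inf_le_left)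
  obtain ⟨P₁, hP₁⟩ := exists_sylow_inf hS₁
  obtain ⟨z₁, R₁, ρ₁, hs₁⟩ := hK.sheet P₁
  have hA₁ := atS_of hS₁ hP₁ hs₁.toSheet
  obtain ⟨hTK, hz₁⟩ := sylow_inf hK'.te hS hA hz hT hS₁ hTS₁ hA₁
  have hT' : IsSyl T (normalizer (K' : Set G) ⊓ normalizer (K : Set G)) := by rw [inf_comm]; exact hT
  obtain ⟨S₂, hS₂, hTS₂⟩ := exists_isSyl hT'.two (hT'.le.trans inf_le_left)
  obtain ⟨P₂, hP₂⟩ := exists_sylow_inf hS₂
  obtain ⟨z₂, R₂, ρ₂, hs₂⟩ := hK'.sheet P₂
  have hA₂ := atS_of hS₂ hP₂ hs₂.toSheet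
  obtain ⟨hTK', hz₂⟩ := sylow_inf hK.te hS' hA' hz' hT' hS₂ hTS₂ hA₂
  -- `T ∩ K ∩ K' = 1`
  have hTKK : ∀ x ∈ T, x ∈ K → x ∈ K' → x = 1 := by
    intro x hxT hxK hxK'
    by_contra hx1
    obtain ⟨y, hyT, hyN, hy2, hyc⟩ := CommConj.exists_central_involution (S := T ⊓ K) (N := K ⊓ K')
      (hT.two.to_le inf_le_left) (by
        intro s hs n hn
        refine ⟨K.mul_mem (K.mul_mem hs.2 hn.1) (K.inv_mem hs.2), ?_⟩
        exact (mem_normalizer_iff.mp (hT.le hs.1).2 n).mp hn.2)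
      ⟨x, ⟨hxT, hxK⟩, ⟨hxK, hxK'⟩, hx1⟩
    have hy22 : y * y = 1 := sq_one hy2
    have hy1 : y ≠ 1 := by
      rintro rfl
      rw [orderOf_one] at hy2
      exact absurd hy2 (by norm_num)
    have h1 : y = z₁ := by
      refine hA₁.uniq y (hTS₁ hyT.1) hyT.2 hy22 hy1 ?_
      intro s hs hsK
      have h2 : s ∈ T ⊓ K := by rw [← hTK]; exact ⟨hs, hsK⟩
      exact hyc s h2
    apply hy1
    refine hK'.cen y hyN.2 ?_
    rw [h1]
    exact hz₁
  -- `T ∩ K` acts on `K'` by the four automorphisms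
  have hfour : ∀ s ∈ T ⊓ K, ∃ i : Fin 4, ∀ x : ↥K', s * x * s⁻¹ = (Ty z₂ ρ₂ i x : G) := by
    intro s hs
    refine act_four hS₂ hP₂ hs₂ (hTS₂ hs.1) ?_
    intro u hu huK
    have hu' : u ∈ T ⊓ K' := by rw [← hTK']; exact ⟨hu, huK⟩
    have h1 : u * s * u⁻¹ * s⁻¹ = 1 := by
      refine hTKK _ ?_ ?_ ?_
      · exact T.mul_mem (T.mul_mem (T.mul_mem hu'.1 hs.1) (T.inv_mem hu'.1)) (T.inv_mem hs.1)
      · exact K.mul_mem ((mem_normalizer_iff.mp (hT.le hu'.1).1 s).mp hs.2) (K.inv_mem hs.2)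
      · have h2 : u * s * u⁻¹ * s⁻¹ = u * (s * u⁻¹ * s⁻¹) := by group
        rw [h2]
        exact K'.mul_mem huK ((mem_normalizer_iff.mp (hT.le hs.1).2 u⁻¹).mp (K'.inv_mem huK))
    calc s * u = (u * s * u⁻¹ * s⁻¹)⁻¹ * (u * s) := by group
      _ = u * s := by rw [h1, inv_one, one_mul]
  -- `R₁ ≤ T ∩ K`
  have hR₁T : ∀ r ∈ R₁, (r : G) ∈ T ⊓ K := by
    intro r hr
    rw [← hTK]
    exact ⟨(hP₁ r).mp (hs₁.RS hr), r.2⟩
  -- `R₁ ∩ C(K')` has index at most 4
  have hR₁N : ∀ r ∈ R₁, (r : G) ∈ normalizer (K' : Set G) := fun r hr => (hT.le (hR₁T r hr).1).2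
  let f : ↥R₁ →* MulAut ↥K' :=
    { toFun := fun r => conjN K' ⟨(r : ↥K), hR₁N r r.2⟩
      map_one' := by
        rw [← map_one (conjN K')]
        rfl
      map_mul' := by
        intro r s
        rw [← map_mul]
        rfl }
  have hf : ∀ (r : ↥R₁) (x : ↥K'), ((f r x : ↥K') : G) = (r : ↥K) * x * ((r : ↥K) : G)⁻¹ := fun r x => rfl
  have hcenK : (z₁ : G) ∈ centralizer (K' : Set G) := hz₁
  have hker : (∀ n ∈ f.ker.map R₁.subtype, n = 1 ∨ n = z₁) ∨ f.ker.map R₁.subtype = R₁ := by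
    refine hs₁.irr _ (map_subtype_le _) ?_
    rintro p hp _ ⟨n, hn, rfl⟩
    have hpN : (p : G) ∈ normalizer (K' : Set G) := hK'.te z₁ hcenK (congrArg Subtype.val hs₁.z2)
      (fun h => hs₁.z1 (Subtype.ext h)) p (congrArg Subtype.val hp)
    have h1 : ((n : ↥K) : G) ∈ centralizer (K' : Set G) := by
      rw [mem_centralizer_iff]
      intro x hx
      have h2 : f n = 1 := hn
      have h3 := hf n ⟨x, hx⟩
      rw [h2] at h3
      have h4 : x = (n : ↥K) * x * ((n : ↥K) : G)⁻¹ := h3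
      calc x * ((n : ↥K) : G) = ((n : ↥K) * x * ((n : ↥K) : G)⁻¹) * (n : ↥K) := by rw [← h4]
        _ = (n : ↥K) * x := by group
    have h2 : (p : G) * (n : ↥K) * (p : G)⁻¹ ∈ centralizer (K' : Set G) := mem_centralizer_conj hpN h1
    refine ⟨⟨p * n * p⁻¹, hs₁.Rn p hp n n.2⟩, ?_, rfl⟩
    show f _ = 1
    ext x
    rw [hf]
    have h3 := mem_centralizer_iff.mp h2 x x.2
    show (p : G) * (n : ↥K) * (p : G)⁻¹ * x * ((p : G) * (n : ↥K) * (p : G)⁻¹)⁻¹ = x
    rw [← h3]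
    group
  have hR₁C : ∀ r ∈ R₁, (r : G) ∈ centralizer (K' : Set G) := by
    rcases hker with h1 | h1
    · exfalso
      -- the kernel has at most 2 elements, the range at most 4
      have hk2 : Nat.card ↥f.ker ≤ 2 := by
        have h2 : Set.InjOn (fun n : ↥R₁ => (n : ↥K)) (f.ker : Set ↥R₁) := fun a _ b _ h => Subtype.ext h
        have h3 : (f.ker : Set ↥R₁).ncard ≤ ({1, z₁} : Set ↥K).ncard := by
          refine Set.ncard_le_ncard_of_injOn (fun n : ↥R₁ => (n : ↥K)) ?_ h2 (Set.toFinite _)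
          intro n hn
          rcases h1 n ⟨n, hn, rfl⟩ with h4 | h4
          · exact Or.inl h4
          · exact Or.inr h4
        have h4 : ({1, z₁} : Set ↥K).ncard ≤ 2 := Set.ncard_insert_le _ _ |>.trans (by rw [Set.ncard_singleton])
        have h5 : Nat.card ↥f.ker = (f.ker : Set ↥R₁).ncard := rfl
        omega
      have hr4 : Nat.card ↥f.range ≤ 4 := by
        have h3 : ∀ α : ↥f.range, ∃ i : Fin 4, ∀ x : ↥K', ((α : MulAut ↥K') x : G) = (Ty z₂ ρ₂ i x : G) := by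
          rintro ⟨_, r, rfl⟩
          obtain ⟨i, hi⟩ := hfour _ (hR₁T r r.2)
          exact ⟨i, fun x => by rw [← hi]; exact hf r x⟩
        choose g hg using h3
        have h4 : Function.Injective g := by
          intro α β hαβ
          apply Subtype.ext
          ext x
          rw [hg, hg, hαβ]
        have h5 := Nat.card_le_card_of_injective g h4
        rwa [Nat.card_fin] at h5
      have h2 : Nat.card ↥R₁ = Nat.card ↥f.range * Nat.card ↥f.ker := by
        rw [← index_ker f, mul_comm, card_mul_index]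
      have h3 := hs₁.big
      rw [h2] at h3
      have h4 : Nat.card ↥f.range * Nat.card ↥f.ker ≤ 4 * 2 := Nat.mul_le_mul hr4 hk2
      omega
    · intro r hr
      have h2 : r ∈ f.ker.map R₁.subtype := by rw [h1]; exact hr
      obtain ⟨n, hn, rfl⟩ := h2
      rw [mem_centralizer_iff]
      intro x hx
      have h2 : f n = 1 := hn
      have h3 := hf n ⟨x, hx⟩
      rw [h2] at h3
      have h4 : x = (n : ↥K) * x * ((n : ↥K) : G)⁻¹ := h3
      show x * ((n : ↥K) : G) = (n : ↥K) * x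
      calc x * ((n : ↥K) : G) = ((n : ↥K) * x * ((n : ↥K) : G)⁻¹) * (n : ↥K) := by rw [← h4]
        _ = (n : ↥K) * x := by group
  have hKN : K ≤ normalizer (K' : Set G) := by
    apply le_of_subgroupOf
    refine hs₁.gen2 _ ?_
    intro r hr hr2 hr1 x hx
    rw [mem_subgroupOf]
    exact hK'.te r (hR₁C r hr) (congrArg Subtype.val hr2) (fun h => hr1 (Subtype.ext h)) x
      (congrArg Subtype.val hx)
  exact hs₁.z1 (Subtype.ext (inf_eq_bot hK hcom hKN z₁ z₁.2 hz₁))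

end Cfsg.Agent.OddHalf.D4.Small.LFour

end

-- merged: Cfsg.Agent.OddHalf.D4.Small.LFourEnd
section

/-!
# ODD, D4, small Lie odd: `L₄(3)`, the end

`𝒦` a family of subgroups closed under conjugation, with the facts `BaseL`. A reflection `u` on `X ∈ 𝒦` which
centralizes `Y ∈ 𝒦` is impossible.
-/

set_option autoImplicit false

namespace Cfsg.Agent.OddHalf.D4.Small.LFour

open Subgroup Cfsg Basic CommConj

variable {G : Type*} [Group G]

structure FamL (F : Set (Subgroup G)) : Prop where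
  base : ∀ X ∈ F, BaseL X
  cj : ∀ X ∈ F, ∀ g, cj g X ∈ F
  nc : ∀ X ∈ F, ∀ Y ∈ F, X ≠ Y → ∀ x ∈ centralizer (X : Set G), x ∈ centralizer (Y : Set G) → x * x = 1 → x = 1
  com : ∀ X ∈ F, ∀ Y ∈ F, X ≠ Y → ¬ X ≤ centralizer (Y : Set G)

variable {F : Set (Subgroup G)} {X Y : Subgroup G}

/-- **Theorem 1.** -/
theorem thm1 [Finite G] (hF : FamL F) (hX : X ∈ F) (hY : Y ∈ F) (hne : X ≠ Y) {a b : G}
    (haN : a ∈ normalizer (X : Set G)) (hbN : b ∈ normalizer (X : Set G))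
    (haC : a ∈ centralizer (Y : Set G)) (hbC : b ∈ centralizer (Y : Set G)) (ha2 : a * a = 1)
    (hb2 : b * b = 1) (ha1 : a ≠ 1) (hb1 : b ≠ 1) (hab : a ≠ b) (hc : a * b = b * a) : False :=
  rank_le_one (hF.base X hX) (hF.base Y hY) (hF.nc X hX Y hY hne) (hF.com X hX Y hY hne)
    (hF.com Y hY X hX hne.symm) haN hbN haC hbC ha2 hb2 ha1 hb1 hab hc

theorem cl_pair_le {a b : G} {H : Subgroup G} (ha : a ∈ H) (hb : b ∈ H) : closure ({a, b} : Set G) ≤ H := by
  rw [closure_le]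
  rintro x (rfl | hx)
  · exact ha
  · rw [Set.mem_singleton_iff] at hx
    subst hx
    exact hb

theorem conj_sq {m x : G} (h : x * x = 1) : m * x * m⁻¹ * (m * x * m⁻¹) = 1 := by
  calc m * x * m⁻¹ * (m * x * m⁻¹) = m * (x * x) * m⁻¹ := by group
    _ = 1 := by rw [h]; group

theorem conj_ne_one {m x : G} (h : x ≠ 1) : m * x * m⁻¹ ≠ 1 := by
  intro h1
  apply h
  calc x = m⁻¹ * (m * x * m⁻¹) * m := by group
    _ = 1 := by rw [h1]; group

theorem conj_inj {m x y : G} (h : x ≠ y) : m * x * m⁻¹ ≠ m * y * m⁻¹ := by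
  intro h1
  exact h (mul_left_cancel (mul_right_cancel h1))

theorem conj_comm {m x y : G} (h : x * y = y * x) : m * x * m⁻¹ * (m * y * m⁻¹) = m * y * m⁻¹ * (m * x * m⁻¹) := by
  calc m * x * m⁻¹ * (m * y * m⁻¹) = m * (x * y) * m⁻¹ := by group
    _ = m * (y * x) * m⁻¹ := by rw [h]
    _ = m * y * m⁻¹ * (m * x * m⁻¹) := by group

theorem order_facts {x : G} (h : orderOf x = 2) : x * x = 1 ∧ x ≠ 1 := by
  refine ⟨sq_one h, ?_⟩
  rintro rfl
  rw [orderOf_one] at h
  exact absurd h (by norm_num)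

/-- Two distinct commuting involutions of `C(X)` commuting with a given `b`. -/
theorem rank2 [Finite G] (hX : BaseL X) {b : G} (hb : b ∈ centralizer (X : Set G)) (hb2 : b * b = 1) :
    ∃ c ∈ centralizer (X : Set G), ∃ d ∈ centralizer (X : Set G), c * c = 1 ∧ d * d = 1 ∧ c ≠ 1 ∧ d ≠ 1 ∧
      c ≠ d ∧ c * d = d * c ∧ b * c = c * b ∧ b * d = d * b := by
  obtain ⟨c, hc, d, hd, hc2, hd2, hc1, hd1, hcd, hcdc⟩ := hX.rk
  by_cases hb1 : b = 1
  · subst hb1
    exact ⟨c, hc, d, hd, hc2, hd2, hc1, hd1, hcd, hcdc, by simp, by simp⟩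
  obtain ⟨T, hT, hbT⟩ := exists_isSyl (isPGroup_pair hb2 hb2 rfl) (cl_pair_le hb hb)
  have hbT' : b ∈ T := hbT (subset_closure (by simp))
  obtain ⟨z, hzT, hz, hzc⟩ := exists_central_invol hT.two le_rfl (by
    intro h
    rw [h, mem_bot] at hbT'
    exact hb1 hbT') (fun t ht n hn => T.mul_mem (T.mul_mem ht hn) (T.inv_mem ht))
  obtain ⟨hz2, hz1⟩ := order_facts hz
  by_cases hbz : b = z
  · subst hbz
    obtain ⟨m, hm, hmT⟩ := hT.conj_into (isPGroup_pair hc2 hd2 hcdc) (cl_pair_le hc hd)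
    have hcT := hmT c (subset_closure (by simp))
    have hdT := hmT d (subset_closure (by simp))
    exact ⟨_, hT.le hcT, _, hT.le hdT, conj_sq hc2, conj_sq hd2, conj_ne_one hc1, conj_ne_one hd1,
      conj_inj hcd, conj_comm hcdc, (hzc _ hcT).symm, (hzc _ hdT).symm⟩
  · exact ⟨b, hb, z, hT.le hzT, hb2, hz2, hb1, hz1, hbz, hzc b hbT', rfl, hzc b hbT'⟩

/-- An involution of `C(Y)` is not in `X C(X)`. -/
theorem noIn [Finite G] (hF : FamL F) (hX : X ∈ F) (hY : Y ∈ F) (hne : X ≠ Y) {w k c : G}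
    (hw : w ∈ centralizer (Y : Set G)) (hw2 : w * w = 1) (hw1 : w ≠ 1) (hk : k ∈ X)
    (hc : c ∈ centralizer (X : Set G)) (hwkc : w = k * c) : False := by
  have hkc : k * c = c * k := comm_of_centralizer hc hk
  obtain ⟨hc2, hk2⟩ := mul_self_split (hF.base X hX).cen hc hk (by rw [← hkc, ← hwkc]; exact hw2)
  obtain ⟨a, ha, b, hb, ha2, hb2, ha1, hb1, hab, habc, hca, hcb⟩ := rank2 (hF.base X hX) hc hc2
  have key : ∀ x ∈ centralizer (X : Set G), c * x = x * c → x ∈ normalizer (Y : Set G) := by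
    intro x hx hcx
    refine (hF.base Y hY).te w hw hw2 hw1 x ?_
    have h1 : k * x = x * k := comm_of_centralizer hx hk
    calc x * w = x * k * c := by rw [hwkc]; group
      _ = k * (x * c) := by rw [← h1]; group
      _ = k * c * x := by rw [← hcx]; group
      _ = w * x := by rw [hwkc]
  exact thm1 hF hY hX hne.symm (key a ha hca) (key b hb hcb) ha hb ha2 hb2 ha1 hb1 hab habc

theorem syl_norm_cent {S : Subgroup G} (hS : IsSyl S (normalizer (X : Set G))) :
    ∀ t ∈ S, ∀ x ∈ S ⊓ centralizer (X : Set G), t * x * t⁻¹ ∈ S ⊓ centralizer (X : Set G) := by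
  intro t ht x hx
  exact ⟨S.mul_mem (S.mul_mem ht hx.1) (S.inv_mem ht), mem_centralizer_conj (hS.le ht) hx.2⟩

/-- conjugating a pair of elements of `C(X)` into `S ∩ C(X)` -/
theorem conj_pair [Finite G] {S : Subgroup G} (hS : IsSyl S (normalizer (X : Set G))) {c d : G}
    (hc : c ∈ centralizer (X : Set G)) (hd : d ∈ centralizer (X : Set G)) (hc2 : c * c = 1) (hd2 : d * d = 1)
    (hcd : c * d = d * c) : ∃ i : G, i * c * i⁻¹ ∈ S ⊓ centralizer (X : Set G) ∧
      i * d * i⁻¹ ∈ S ⊓ centralizer (X : Set G) := by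
  obtain ⟨i, -, hiq⟩ := hS.conj_into_inf (I := centralizer (X : Set G)) (centralizer_le_normalizer' X)
    (by
      intro t ht
      rw [mem_normalizer_iff]
      intro x
      constructor
      · intro hx
        exact mem_centralizer_conj (hS.le ht) hx
      · intro hx
        have h1 := mem_centralizer_conj' (hS.le ht) hx
        have h2 : t⁻¹ * (t * x * t⁻¹) * t = x := by group
        rwa [h2] at h1)
    (isPGroup_pair hc2 hd2 hcd) (cl_pair_le hc hd)
  exact ⟨i, hiq c (subset_closure (by simp)), hiq d (subset_closure (by simp))⟩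

/-- Lemma A -/
theorem lemmaA [Finite G] (hX : BaseL X) {u : G} (hu : u ∈ normalizer (X : Set G)) (hu2 : u * u = 1) :
    ∃ v ∈ centralizer (X : Set G), v * v = 1 ∧ v ≠ 1 ∧ u * v = v * u := by
  obtain ⟨S, hS, huS⟩ := exists_isSyl (isPGroup_pair hu2 hu2 rfl) (cl_pair_le hu hu)
  have huS' : u ∈ S := huS (subset_closure (by simp))
  obtain ⟨c, hc, d, hd, hc2, hd2, hc1, hd1, hcd, hcdc⟩ := hX.rk
  obtain ⟨i, hic, -⟩ := conj_pair hS hc hd hc2 hd2 hcdc
  obtain ⟨v, hv, hvo, hvc⟩ := exists_central_invol (N := S ⊓ centralizer (X : Set G)) hS.two inf_le_left (by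
    intro h
    rw [h, mem_bot] at hic
    exact conj_ne_one hc1 hic) (syl_norm_cent hS)
  obtain ⟨hv2, hv1⟩ := order_facts hvo
  exact ⟨v, hv.2, hv2, hv1, hvc u huS'⟩

/-- Two involutions in a 2-subgroup of `C(X) ∩ N(Y)` are equal. -/
theorem uniq_inv [Finite G] (hF : FamL F) (hX : X ∈ F) (hY : Y ∈ F) (hne : X ≠ Y) {D : Subgroup G} (hD : IsPGroup 2 ↥D)
    (hDC : ∀ x ∈ D, x ∈ centralizer (X : Set G)) (hDN : ∀ x ∈ D, x * x = 1 → x ∈ normalizer (Y : Set G))
    {s t : G} (hs : s ∈ D) (ht : t ∈ D) (hs2 : s * s = 1) (ht2 : t * t = 1) (hs1 : s ≠ 1) (ht1 : t ≠ 1) :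
    s = t := by
  obtain ⟨z, hzD, hz, hzc⟩ := exists_central_invol hD le_rfl (by
    intro h
    rw [h, mem_bot] at hs
    exact hs1 hs) (fun t ht n hn => D.mul_mem (D.mul_mem ht hn) (D.inv_mem ht))
  obtain ⟨hz2, hz1⟩ := order_facts hz
  have key : ∀ x ∈ D, x * x = 1 → x ≠ 1 → x = z := by
    intro x hx hx2 hx1
    by_contra hxz
    exact thm1 hF hY hX hne.symm (hDN x hx hx2) (hDN z hzD hz2) (hDC x hx) (hDC z hzD) hx2 hz2 hx1 hz1 hxz
      (hzc x hx)
  rw [key s hs hs2 hs1, key t ht ht2 ht1]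

/-- Lemma B -/
theorem lemmaB [Finite G] (hF : FamL F) (hX : X ∈ F) (hY : Y ∈ F) (hne : X ≠ Y) {u v : G}
    (huN : u ∈ normalizer (X : Set G)) (huC : u ∈ centralizer (Y : Set G)) (hu2 : u * u = 1) (hu1 : u ≠ 1)
    (hvC : v ∈ centralizer (X : Set G)) (hv2 : v * v = 1) (hv1 : v ≠ 1) (huv : u * v = v * u) :
    ∃ q ∈ centralizer (X : Set G), q⁻¹ * u * q = u * v ∧ q⁻¹ * v * q = v := by
  have hCN : centralizer (X : Set G) ≤ normalizer (X : Set G) := centralizer_le_normalizer' X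
  obtain ⟨S, hS, huvS⟩ := exists_isSyl (isPGroup_pair hu2 hv2 huv) (cl_pair_le huN (hCN hvC))
  have huS : u ∈ S := huvS (subset_closure (by simp))
  have hvS : v ∈ S := huvS (subset_closure (by simp))
  have hui : u⁻¹ = u := inv_eq_self_of hu2
  have huCX : u ∉ centralizer (X : Set G) := fun h => hu1 (hF.nc X hX Y hY hne u h huC hu2)
  -- `E = C_S(u) ∩ (C(X) ∪ C(X) u)`
  let E : Subgroup G :=
    { carrier := {x | x ∈ S ∧ x * u = u * x ∧ (x ∈ centralizer (X : Set G) ∨ x * u ∈ centralizer (X : Set G))}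
      one_mem' := ⟨S.one_mem, by simp, Or.inl (one_mem _)⟩
      mul_mem' := by
        rintro x y ⟨hxS, hxu, hx⟩ ⟨hyS, hyu, hy⟩
        refine ⟨S.mul_mem hxS hyS, ?_, ?_⟩
        · calc x * y * u = x * (y * u) := by group
            _ = x * u * y := by rw [hyu]; group
            _ = u * (x * y) := by rw [hxu]; group
        · rcases hx with hx | hx <;> rcases hy with hy | hy
          · exact Or.inl (mul_mem hx hy)
          · right
            rw [mul_assoc]
            exact mul_mem hx hy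
          · right
            have h1 : x * y * u = (x * u) * (u⁻¹ * y * u) := by group
            rw [h1]
            exact mul_mem hx (mem_centralizer_conj' huN hy)
          · left
            have h1 : x * y = (x * u) * (y * u) := by
              calc x * y = x * (u * u) * y := by rw [hu2, mul_one]
                _ = (x * u) * (u * y) := by group
                _ = (x * u) * (y * u) := by rw [hyu]
            rw [h1]
            exact mul_mem hx hy
      inv_mem' := by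
        rintro x ⟨hxS, hxu, hx⟩
        have h1 : x⁻¹ * u = u * x⁻¹ := by
          calc x⁻¹ * u = x⁻¹ * (u * x) * x⁻¹ := by group
            _ = x⁻¹ * (x * u) * x⁻¹ := by rw [hxu]
            _ = u * x⁻¹ := by group
        refine ⟨S.inv_mem hxS, h1, ?_⟩
        rcases hx with hx | hx
        · exact Or.inl (inv_mem hx)
        · right
          have h2 : x⁻¹ * u = (x * u)⁻¹ := by
            rw [mul_inv_rev, hui, h1]
          rw [h2]
          exact inv_mem hx }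
  have hE : ∀ x, x ∈ E ↔ x ∈ S ∧ x * u = u * x ∧
      (x ∈ centralizer (X : Set G) ∨ x * u ∈ centralizer (X : Set G)) := fun x => Iff.rfl
  have hES : E ≤ S := fun x hx => hx.1
  have huE : u ∈ E := ⟨huS, rfl, Or.inr (by rw [hu2]; exact one_mem _)⟩
  -- elements of `C(X)` commuting with `u` are in `N(Y)`
  have hNY : ∀ x, x * u = u * x → x ∈ normalizer (Y : Set G) := fun x hx => (hF.base Y hY).te u huC hu2 hu1 x hx
  -- `D = E ∩ C(X)`
  have hDtwo : IsPGroup 2 ↥(E ⊓ centralizer (X : Set G)) := hS.two.to_le (inf_le_left.trans hES)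
  have huniq : ∀ x ∈ E, x ∈ centralizer (X : Set G) → x * x = 1 → x ≠ 1 → x = v := by
    intro x hx hxC hx2 hx1
    exact uniq_inv hF hX hY hne hDtwo (fun x hx => hx.2) (fun x hx _ => hNY x hx.1.2.1) ⟨hx, hxC⟩
      (mem_inf.mpr ⟨⟨hvS, huv.symm, Or.inl hvC⟩, hvC⟩) hx2 hv2 hx1 hv1
  obtain ⟨c, hc, d, hd, hc2, hd2, hc1, hd1, hcd, hcdc⟩ := (hF.base X hX).rk
  obtain ⟨i, hic, hid⟩ := conj_pair hS hc hd hc2 hd2 hcdc
  have hnle : ¬ S ⊓ centralizer (X : Set G) ≤ E := by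
    intro hle
    have h1 := huniq _ (hle hic) hic.2 (conj_sq hc2) (conj_ne_one hc1)
    have h2 := huniq _ (hle hid) hid.2 (conj_sq hd2) (conj_ne_one hd1)
    exact conj_inj hcd (h1.trans h2.symm)
  obtain ⟨b, hb, hbE, -, hbn⟩ := exists_norm_elt hS.two hES inf_le_left (syl_norm_cent hS) hnle
  have hbu : ¬ b * u = u * b := fun h => hbE ⟨hb.1, h, Or.inl hb.2⟩
  have h1 : b⁻¹ * u * b ∈ E := (mem_normalizer_iff''.mp hbn u).mp huE
  have hbuC : b⁻¹ * u * b ∉ centralizer (X : Set G) := by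
    intro h
    apply huCX
    have hbC : b ∈ centralizer (X : Set G) := hb.2
    have h2 := mul_mem (mul_mem hbC h) (inv_mem hbC)
    have h3 : b * (b⁻¹ * u * b) * b⁻¹ = u := by group
    rwa [h3] at h2
  have hdC : b⁻¹ * u * b * u ∈ centralizer (X : Set G) := by
    rcases h1.2.2 with h2 | h2
    · exact absurd h2 hbuC
    · exact h2
  have hdu := h1.2.1
  have hdE : b⁻¹ * u * b * u ∈ E := E.mul_mem h1 huE
  have hd2' : b⁻¹ * u * b * u * (b⁻¹ * u * b * u) = 1 := by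
    calc b⁻¹ * u * b * u * (b⁻¹ * u * b * u) = b⁻¹ * u * b * (u * (b⁻¹ * u * b)) * u := by group
      _ = b⁻¹ * u * b * (b⁻¹ * u * b * u) * u := by rw [hdu]
      _ = b⁻¹ * (u * u) * b * (u * u) := by group
      _ = 1 := by rw [hu2]; group
  have hd1' : b⁻¹ * u * b * u ≠ 1 := by
    intro h2
    apply hbu
    have h3 : b⁻¹ * u * b = u := by
      have h4 := eq_inv_of_mul_eq_one_left h2
      rwa [hui] at h4
    calc b * u = b * (b⁻¹ * u * b) := by rw [h3]
      _ = u * b := by group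
  have hdv := huniq _ hdE hdC hd2' hd1'
  refine ⟨b, hb.2, ?_, ?_⟩
  · calc b⁻¹ * u * b = (b⁻¹ * u * b * u) * u⁻¹ := by group
      _ = v * u := by rw [hdv, hui]
      _ = u * v := huv.symm
  · have hvE : v ∈ E := ⟨hvS, huv.symm, Or.inl hvC⟩
    have h2 : b⁻¹ * v * b ∈ E := (mem_normalizer_iff''.mp hbn v).mp hvE
    have hbC : b ∈ centralizer (X : Set G) := hb.2
    refine huniq _ h2 (mul_mem (mul_mem (inv_mem hbC) hvC) hbC) ?_ ?_
    · have h3 := conj_sq (m := b⁻¹) hv2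
      rwa [inv_inv] at h3
    · have h3 := conj_ne_one (m := b⁻¹) hv1
      rwa [inv_inv] at h3

/-- **The end.** -/
theorem false_of_refl [Finite G] (hF : FamL F) (hX : X ∈ F) (hY : Y ∈ F) (hne : X ≠ Y) {u : G}
    (huN : u ∈ normalizer (X : Set G)) (huC : u ∈ centralizer (Y : Set G)) (hu2 : u * u = 1) (hu1 : u ≠ 1)
    (hρ : IsRefl ↥X (cAut huN)) : False := by
  obtain ⟨v, hvC, hv2, hv1, huv⟩ := lemmaA (hF.base X hX) huN hu2
  have hui : u⁻¹ = u := inv_eq_self_of hu2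
  have hvi : v⁻¹ = v := inv_eq_self_of hv2
  have hvN : v ∈ normalizer (Y : Set G) := (hF.base Y hY).te u huC hu2 hu1 v huv.symm
  obtain ⟨q, hqC, hqu, hqv⟩ := lemmaB hF hX hY hne huN huC hu2 hu1 hvC hv2 hv1 huv
  obtain ⟨q', hqC', hqv', hqu'⟩ := lemmaB hF hY hX hne.symm hvN hvC hv2 hv1 huC hu2 hu1 huv.symm
  -- the swap
  obtain ⟨s, hsu, hsv⟩ : ∃ s : G, s⁻¹ * u * s = v ∧ s⁻¹ * v * s = u := by
    have e1 : q⁻¹ * (u * v) * q = u := by
      calc q⁻¹ * (u * v) * q = (q⁻¹ * u * q) * (q⁻¹ * v * q) := by group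
        _ = u * (v * v) := by rw [hqu, hqv]; group
        _ = u := by rw [hv2, mul_one]
    have e2 : q'⁻¹ * (u * v) * q' = v := by
      calc q'⁻¹ * (u * v) * q' = (q'⁻¹ * u * q') * (q'⁻¹ * v * q') := by group
        _ = u * (v * u) := by rw [hqu', hqv']
        _ = (u * u) * v := by rw [← huv]; group
        _ = v := by rw [hu2, one_mul]
    refine ⟨q * q' * q, ?_, ?_⟩
    · calc (q * q' * q)⁻¹ * u * (q * q' * q) = q⁻¹ * (q'⁻¹ * (q⁻¹ * u * q) * q') * q := by group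
        _ = q⁻¹ * v * q := by rw [hqu, e2]
        _ = v := hqv
    · calc (q * q' * q)⁻¹ * v * (q * q' * q) = q⁻¹ * (q'⁻¹ * (q⁻¹ * v * q) * q') * q := by group
        _ = q⁻¹ * (v * u) * q := by rw [hqv, hqv']
        _ = q⁻¹ * (u * v) * q := by rw [huv]
        _ = u := e1
  -- `X^s = Y`
  have hXY : cj s⁻¹ X = Y := by
    by_contra h
    have h1 : u ∈ centralizer ((cj s⁻¹ X : Subgroup G) : Set G) := by
      rw [mem_centralizer_cj, inv_inv]
      have h2 : s * u * s⁻¹ = v := by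
        rw [← hsv]; group
      rw [h2]
      exact hvC
    exact hu1 (hF.nc _ (hF.cj X hX s⁻¹) Y hY h u h1 huC hu2)
  -- `v` acts on `Y` as a reflection
  have hρv : IsRefl ↥Y (cAut hvN) := by
    let e : ↥X ≃* ↥Y :=
      (X.equivMapOfInjective (MulAut.conj s⁻¹).toMonoidHom (MulAut.conj s⁻¹).injective).trans
        (MulEquiv.subgroupCongr hXY)
    have he : ∀ x : ↥X, ((e x : ↥Y) : G) = s⁻¹ * x * s⁻¹⁻¹ := fun x => rfl
    refine hρ.map e ?_
    intro x
    apply Subtype.ext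
    rw [cAut_coe, he, he, cAut_coe, ← hsu]
    group
  -- the involution `i`
  obtain ⟨l, hl1, hl2, hl3⟩ := hρ.inv
  obtain ⟨i, hi⟩ : ∃ i : ↥X, i = (cAut huN l)⁻¹ * l := ⟨_, rfl⟩
  rw [← hi] at hl1 hl2 hl3
  have hiG : (i : G) = u * (l : G)⁻¹ * u * l := by
    rw [hi]
    show (u * (l : G) * u⁻¹)⁻¹ * l = _
    rw [mul_inv_rev, mul_inv_rev, inv_inv, hui]
    group
  have hi2 : (i : G) * i = 1 := congrArg Subtype.val hl1
  have hi1 : (i : G) ≠ 1 := fun h => hl2 (Subtype.ext h)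
  have hiu : u * i = i * u := (cAut_eq_iff huN i).mp hl3
  have hiv : (i : G) * v = v * i := comm_of_centralizer hvC i.2
  have huil : u * i = (l : G)⁻¹ * u * l := by
    rw [hiG]
    calc u * (u * (l : G)⁻¹ * u * l) = (u * u) * ((l : G)⁻¹ * u * l) := by group
      _ = (l : G)⁻¹ * u * l := by rw [hu2, one_mul]
  have hui2 : (u * i) * (u * i) = 1 := by
    calc (u * i) * (u * i) = u * (i * u) * i := by group
      _ = u * (u * i) * i := by rw [hiu]
      _ = (u * u) * (i * i) := by group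
      _ = 1 := by rw [hu2, hi2, mul_one]
  have hui1 : u * i ≠ 1 := by
    intro h
    rw [huil] at h
    apply hu1
    calc u = l * ((l : G)⁻¹ * u * l) * (l : G)⁻¹ := by group
      _ = 1 := by rw [h]; group
  -- `Y' = Y^l`
  have huiC : u * i ∈ centralizer ((cj (l : G)⁻¹ Y : Subgroup G) : Set G) := by
    rw [mem_centralizer_cj, inv_inv, huil]
    have h1 : (l : G) * ((l : G)⁻¹ * u * l) * (l : G)⁻¹ = u := by group
    rwa [h1]
  have hY' : cj (l : G)⁻¹ Y ∈ F := hF.cj Y hY _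
  have hYY' : Y ≠ cj (l : G)⁻¹ Y := by
    intro h
    rw [← h] at huiC
    have h1 : (i : G) ∈ centralizer (Y : Set G) := by
      have h2 := mul_mem (inv_mem huC) huiC
      have h3 : u⁻¹ * (u * i) = i := by group
      rwa [h3] at h2
    exact noIn hF hX hY hne h1 hi2 hi1 i.2 (one_mem _) (mul_one _).symm
  have hiN : (i : G) ∈ normalizer (Y : Set G) := (hF.base Y hY).te u huC hu2 hu1 i hiu.symm
  -- `i` is not inner on `Y`, `v i` is
  obtain ⟨k, hk⟩ : ∃ k : ↥Y, ∀ x, cAut hiN (cAut hvN x) = k * x * k⁻¹ := by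
    rcases hρv.cent (cAut hiN) (by
      intro x
      rw [cAut_mul, cAut_mul]
      exact cAut_congr hiv _ _ x) with h | h
    · exfalso
      obtain ⟨k, hk⟩ := h
      have h1 : (i : G) * (k : G)⁻¹ ∈ centralizer (Y : Set G) :=
        mem_centralizer_of_eq (le_normalizer k.2) (fun x => congrArg Subtype.val (hk x))
      have h2 : (k : G) * (u * ((k : G)⁻¹ * ((i : G) * (k : G)⁻¹) * k)) = u * i := by
        have h3 : (k : G) * u = u * k := comm_of_centralizer huC k.2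
        calc (k : G) * (u * ((k : G)⁻¹ * ((i : G) * (k : G)⁻¹) * k)) = (k * u) * (k : G)⁻¹ * i := by group
          _ = u * i := by rw [h3]; group
      exact noIn hF hY hY' hYY' huiC hui2 hui1 k.2
        (mul_mem huC (mem_centralizer_conj' (le_normalizer k.2) h1)) h2.symm
    · exact h
  have hvik : (i : G) * v * (k : G)⁻¹ ∈ centralizer (Y : Set G) :=
    mem_centralizer_of_eq (le_normalizer k.2) (fun x => by
      have h1 : (i : G) * (v * x * v⁻¹) * (i : G)⁻¹ = k * x * (k : G)⁻¹ := congrArg Subtype.val (hk x)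
      rw [← h1]
      group)
  -- `x = u i v`
  have hx : u * (i * v) = (l : G)⁻¹ * (u * v) * l := by
    have h1 : (l : G) * v = v * l := comm_of_centralizer hvC l.2
    calc u * (i * v) = (u * i) * v := by group
      _ = (l : G)⁻¹ * u * (l * v) := by rw [huil]; group
      _ = (l : G)⁻¹ * (u * v) * l := by rw [h1]; group
  have hxC : u * (i * v) ∈ centralizer ((cj (l : G)⁻¹ (cj q⁻¹ Y) : Subgroup G) : Set G) := by
    rw [mem_centralizer_cj, mem_centralizer_cj, inv_inv, inv_inv, hx, ← hqu]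
    have h1 : q * ((l : G) * ((l : G)⁻¹ * (q⁻¹ * u * q) * l) * (l : G)⁻¹) * q⁻¹ = u := by group
    rwa [h1]
  have huv1 : u * v ≠ 1 := by
    rw [← hqu]
    intro h
    apply hu1
    calc u = q * (q⁻¹ * u * q) * q⁻¹ := by group
      _ = 1 := by rw [h]; group
  have huv2 : (u * v) * (u * v) = 1 := by
    calc (u * v) * (u * v) = u * (v * u) * v := by group
      _ = u * (u * v) * v := by rw [huv]
      _ = (u * u) * (v * v) := by group
      _ = 1 := by rw [hu2, hv2, mul_one]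
  have hx2 : u * (i * v) * (u * (i * v)) = 1 := by
    rw [hx]
    have h3 := conj_sq (m := (l : G)⁻¹) huv2
    rwa [inv_inv] at h3
  have hx1 : u * (i * v) ≠ 1 := by
    rw [hx]
    have h3 := conj_ne_one (m := (l : G)⁻¹) huv1
    rwa [inv_inv] at h3
  have hY'' : Y = cj (l : G)⁻¹ (cj q⁻¹ Y) := by
    by_contra h
    refine noIn hF hY (hF.cj _ (hF.cj Y hY q⁻¹) _) h hxC hx2 hx1 k.2
      (mul_mem huC (mem_centralizer_conj' (le_normalizer k.2) hvik)) ?_
    have h3 : (k : G) * u = u * k := comm_of_centralizer huC k.2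
    calc u * ((i : G) * v) = u * (k * (k : G)⁻¹) * (i * v) := by group
      _ = (u * k) * (k : G)⁻¹ * (i * v) := by group
      _ = (k * u) * (k : G)⁻¹ * (i * v) := by rw [h3]
      _ = k * (u * ((k : G)⁻¹ * ((i : G) * v * (k : G)⁻¹) * k)) := by group
  rw [← hY''] at hxC
  have hivC : (i : G) * v ∈ centralizer (Y : Set G) := by
    have h2 := mul_mem (inv_mem huC) hxC
    have h3 : u⁻¹ * (u * ((i : G) * v)) = i * v := by group
    rwa [h3] at h2
  have hCNX : centralizer (X : Set G) ≤ normalizer (X : Set G) := centralizer_le_normalizer' X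
  refine thm1 hF hX hY hne huN (mul_mem (le_normalizer i.2) (hCNX hvC)) huC hivC hu2 ?_ hu1 ?_ ?_ ?_
  · calc (i : G) * v * (i * v) = i * (v * i) * v := by group
      _ = i * (i * v) * v := by rw [hiv]
      _ = (i * i) * (v * v) := by group
      _ = 1 := by rw [hi2, hv2, mul_one]
  · intro h
    have h1 : (i : G) = v⁻¹ := eq_inv_of_mul_eq_one_left h
    exact hi1 ((hF.base X hX).cen i i.2 (by rw [h1]; exact inv_mem hvC))
  · intro h
    exact noIn hF hX hY hne huC hu2 hu1 i.2 hvC h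
  · calc u * ((i : G) * v) = (u * i) * v := by group
      _ = i * (u * v) := by rw [hiu]; group
      _ = i * v * u := by rw [huv]; group

end Cfsg.Agent.OddHalf.D4.Small.LFour

end

-- merged: Cfsg.Agent.OddHalf.D4.Small.LFourRow
section

/-!
# ODD, D4, small Lie odd: `L₄(3)`, the row theorem
-/

set_option autoImplicit false

namespace Cfsg.Agent.OddHalf.D4.Small.LFour

open Subgroup Cfsg Basic CommConj

universe u v

variable {G : Type u} [Group G]

theorem mem_normalizer_cj' {K : Subgroup G} (g x : G) :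
    x ∈ normalizer ((cj g K : Subgroup G) : Set G) ↔ g⁻¹ * x * g ∈ normalizer (K : Set G) := by
  rw [mem_normalizer_iff, mem_normalizer_iff]
  constructor
  · intro h y
    have h1 := h (g * y * g⁻¹)
    rw [mem_cj, mem_cj] at h1
    have e1 : g⁻¹ * (g * y * g⁻¹) * g = y := by group
    have e2 : g⁻¹ * (x * (g * y * g⁻¹) * x⁻¹) * g = g⁻¹ * x * g * y * (g⁻¹ * x * g)⁻¹ := by group
    rw [e1, e2] at h1
    exact h1
  · intro h y
    rw [mem_cj, mem_cj]
    have h1 := h (g⁻¹ * y * g)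
    have e2 : g⁻¹ * (x * y * x⁻¹) * g = g⁻¹ * x * g * (g⁻¹ * y * g) * (g⁻¹ * x * g)⁻¹ := by group
    rw [e2]
    exact h1

/-- the conjugates of `K` -/
def Conjs (K : Subgroup G) : Set (Subgroup G) := {X | ∃ g : G, X = cj g K}

theorem famL [Finite G] [IsSimpleGroup G] {K : Subgroup G} (hK : IsStandardSubgroup K)
    (hs : IsSimpleGroup ↥K) (hcen : center ↥K = ⊥) (hm : ¬ PRankLE 2 1 ↥(centralizer (K : Set G)))
    (hr : HasSheetL ↥K) : FamL (Conjs K) := by
  have T := EvenPair.tight_of_standard hK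
  have cen : ∀ x ∈ K, x ∈ centralizer (K : Set G) → x = 1 := by
    intro x hx hxC
    have h1 : (⟨x, hx⟩ : ↥K) ∈ center ↥K := by
      rw [mem_center_iff]
      intro y
      apply Subtype.ext
      exact (mem_centralizer_iff.mp hxC) y y.2
    rw [hcen, mem_bot] at h1
    exact congrArg Subtype.val h1
  have simp' : ∀ N : Subgroup G, N ≤ K → (∀ a ∈ K, ∀ n ∈ N, a * n * a⁻¹ ∈ N) → N = ⊥ ∨ N = K := by
    intro N hN hn
    have hnorm : (N.subgroupOf K).Normal := ⟨by
      intro n hn' a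
      rw [mem_subgroupOf] at hn' ⊢
      exact hn a a.2 n hn'⟩
    rcases hnorm.eq_bot_or_eq_top with h1 | h1
    · left
      rw [eq_bot_iff]
      intro x hx
      have h2 : (⟨x, hN hx⟩ : ↥K) ∈ N.subgroupOf K := mem_subgroupOf.mpr hx
      rw [h1, mem_bot] at h2
      rw [mem_bot]
      exact congrArg Subtype.val h2
    · right
      apply le_antisymm hN
      rw [subgroupOf_eq_top] at h1
      exact h1
  obtain ⟨a, b, ha, hb, ha2, hb2, hab, hne⟩ := EvenPair.exists_two_of_not_pRankLE hm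
  have conjcomm : ∀ g x y : G, x * y = y * x → (g⁻¹ * x * g) * (g⁻¹ * y * g) = (g⁻¹ * y * g) * (g⁻¹ * x * g) := by
    intro g x y h
    calc (g⁻¹ * x * g) * (g⁻¹ * y * g) = g⁻¹ * (x * y) * g := by group
      _ = g⁻¹ * (y * x) * g := by rw [h]
      _ = (g⁻¹ * y * g) * (g⁻¹ * x * g) := by group
  have te : TE K := te_of_tight T
  refine ⟨?_, ?_, ?_, ?_⟩
  · rintro _ ⟨g, rfl⟩
    have e : ↥K ≃* ↥(cj g K) := K.equivMapOfInjective (MulAut.conj g).toMonoidHom (MulAut.conj g).injective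
    refine ⟨?_, ?_, ?_, hr.of_equiv e, ?_⟩
    · intro y hy hy2 hy1 x hxy
      rw [mem_centralizer_cj] at hy
      rw [mem_normalizer_cj']
      refine te (g⁻¹ * y * g) hy ?_ ?_ (g⁻¹ * x * g) (conjcomm g x y hxy)
      · have h1 := conj_sq (m := g⁻¹) hy2
        rwa [inv_inv] at h1
      · have h1 := conj_ne_one (m := g⁻¹) hy1
        rwa [inv_inv] at h1
    · intro x hx hxC
      rw [mem_cj] at hx
      rw [mem_centralizer_cj] at hxC
      have h1 := cen _ hx hxC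
      calc x = g * (g⁻¹ * x * g) * g⁻¹ := by group
        _ = 1 := by rw [h1]; group
    · intro N hN hn
      rcases simp' (cj g⁻¹ N) (by
        intro x hx
        rw [mem_cj, inv_inv] at hx
        have h1 := hN hx
        rw [mem_cj] at h1
        have e1 : g⁻¹ * (g * x * g⁻¹) * g = x := by group
        rwa [e1] at h1) (by
        intro a ha n hn'
        rw [mem_cj, inv_inv] at hn' ⊢
        have h1 := hn (g * a * g⁻¹) (mem_cj_mul ha) _ hn'
        have e1 : g * a * g⁻¹ * (g * n * g⁻¹) * (g * a * g⁻¹)⁻¹ = g * (a * n * a⁻¹) * g⁻¹ := by group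
        rwa [e1] at h1) with h1 | h1
      · left
        rw [eq_bot_iff]
        intro x hx
        have h2 : g⁻¹ * x * g ∈ cj g⁻¹ N := by
          rw [mem_cj, inv_inv]
          have e1 : g * (g⁻¹ * x * g) * g⁻¹ = x := by group
          rwa [e1]
        rw [h1, mem_bot] at h2
        rw [mem_bot]
        calc x = g * (g⁻¹ * x * g) * g⁻¹ := by group
          _ = 1 := by rw [h2]; group
      · right
        apply le_antisymm hN
        intro x hx
        rw [mem_cj, ← h1, mem_cj, inv_inv] at hx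
        have e1 : g * (g⁻¹ * x * g) * g⁻¹ = x := by group
        rwa [e1] at hx
    · obtain ⟨ha22, ha11⟩ := order_facts ha2
      obtain ⟨hb22, hb11⟩ := order_facts hb2
      have mc : ∀ x ∈ centralizer (K : Set G), g * x * g⁻¹ ∈ centralizer ((cj g K : Subgroup G) : Set G) := by
        intro x hx
        rw [mem_centralizer_cj]
        have e1 : g⁻¹ * (g * x * g⁻¹) * g = x := by group
        rwa [e1]
      exact ⟨g * a * g⁻¹, mc a ha, g * b * g⁻¹, mc b hb, conj_sq ha22, conj_sq hb22, conj_ne_one ha11,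
        conj_ne_one hb11, conj_inj hne, conj_comm hab⟩
  · rintro _ ⟨g, rfl⟩ h
    exact ⟨h * g, (cj_mul h g K).symm⟩
  · rintro _ ⟨g, rfl⟩ _ ⟨h, rfl⟩ hne' x hx hxC hx2
    by_contra hx1
    rw [mem_centralizer_cj] at hx hxC
    refine T.inf_odd (a := g⁻¹ * h) (x := g⁻¹ * x * g) ?_ hx ?_ (orderOf_two_of ?_ ?_)
    · intro h1
      apply hne'
      have h2 := cj_eq_of_mem_normalizer h1
      have h3 : h = g * (g⁻¹ * h) := by group
      rw [h3, cj_mul, h2]
    · have e1 : (g⁻¹ * h)⁻¹ * (g⁻¹ * x * g) * (g⁻¹ * h) = h⁻¹ * x * h := by group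
      rwa [e1]
    · have h1 := conj_sq (m := g⁻¹) hx2
      rwa [inv_inv] at h1
    · have h1 := conj_ne_one (m := g⁻¹) hx1
      rwa [inv_inv] at h1
  · rintro _ ⟨g, rfl⟩ _ ⟨h, rfl⟩ hne' hle
    refine hK.2.2.1 (g⁻¹ * h) ?_ ?_
    · intro h2
      apply hne'
      have h2' : cj (g⁻¹ * h) K = K := h2
      have h3 : h = g * (g⁻¹ * h) := by group
      rw [h3, cj_mul, h2']
    · rw [commutator_eq_bot_iff_le_centralizer]
      intro x hx
      have h1 := hle (mem_cj_mul (g := g) hx)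
      have h2 : x ∈ centralizer ((cj (g⁻¹ * h) K : Subgroup G) : Set G) := by
        rw [mem_centralizer_cj] at h1 ⊢
        have e1 : (g⁻¹ * h)⁻¹ * x * (g⁻¹ * h) = h⁻¹ * (g * x * g⁻¹) * h := by group
        rwa [e1]
      exact h2

/-- **The row, inside `G`.** -/
theorem false_of_rowL [Finite G] [IsSimpleGroup G] (h1173 : EvenPair.H1173 G)
    {K : Subgroup G} (hK : IsStandardSubgroup K) (hs : IsSimpleGroup ↥K) (hcen : center ↥K = ⊥)
    (hm : ¬ PRankLE 2 1 ↥(centralizer (K : Set G))) (hr : HasSheetL ↥K) : False := by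
  have hF := famL hK hs hcen hm hr
  have h1K : cj 1 K = K := by
    ext x
    rw [mem_cj]
    simp
  have hKF : K ∈ Conjs K := ⟨1, h1K.symm⟩
  have hBK := hF.base K hKF
  obtain ⟨S, hS, a, haN, h⟩ := EvenPair.theoremA_std h1173 hK (fun x hx hxC h2 => by
    have h3 := hBK.cen x hx hxC
    rw [h3, orderOf_one] at h2
    exact absurd h2 (by norm_num))
  have hSyl : IsSyl S (normalizer (K : Set G)) := by
    obtain ⟨P, hP⟩ := hS
    rw [← hP]
    exact isSyl_of_sylow P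
  have haF : cj a K ∈ Conjs K := ⟨a, rfl⟩
  have hne : K ≠ cj a K := fun h2 => haN (mem_normalizer_of_cj_eq h2.symm)
  rcases h with h | ⟨r, hrS, hr2, hrC, hrK, hrne⟩
  · -- a full conjugate: contradiction with Theorem 1
    obtain ⟨c, hc, d, hd, hc2, hd2, hc1, hd1, hcd, hcdc⟩ := hBK.rk
    obtain ⟨i, hcm, hdm⟩ := conj_pair hSyl hc hd hc2 hd2 hcdc
    have mem_conj : ∀ y : G, i * y * i⁻¹ ∈ S ⊓ centralizer (K : Set G) →
        a * (i * y * i⁻¹) * a⁻¹ ∈ normalizer (K : Set G) ∧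
        a * (i * y * i⁻¹) * a⁻¹ ∈ centralizer ((cj a K : Subgroup G) : Set G) := by
      intro y hy
      refine ⟨hSyl.le (h _ hy), ?_⟩
      rw [mem_centralizer_cj]
      have h1 : a⁻¹ * (a * (i * y * i⁻¹) * a⁻¹) * a = i * y * i⁻¹ := by group
      rw [h1]
      exact hy.2
    exact thm1 hF hKF haF hne (mem_conj c hcm).1 (mem_conj d hdm).1 (mem_conj c hcm).2 (mem_conj d hdm).2
      (conj_sq (conj_sq hc2)) (conj_sq (conj_sq hd2)) (conj_ne_one (conj_ne_one hc1))
      (conj_ne_one (conj_ne_one hd1)) (conj_inj (conj_inj hcd)) (conj_comm (conj_comm hcdc))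
  · -- an outer involution centralizing a Sylow subgroup: a reflection
    obtain ⟨P, hP⟩ := exists_sylow_inf hSyl
    obtain ⟨z, R, ρ, hsh⟩ := hr P
    obtain ⟨hr22, hr11⟩ := order_facts hr2
    have hrN := hSyl.le hrS
    have hrC' : r ∈ centralizer ((cj a K : Subgroup G) : Set G) := by
      rw [mem_centralizer_cj]
      exact hrC
    have haut : ∀ {α β : MulAut ↥K}, (∀ x, α x = β x) → IsRefl ↥K β → IsRefl ↥K α := by
      intro α β hαβ hβ
      have h1 : α = β := by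
        ext x
        rw [hαβ]
      rw [h1]
      exact hβ
    have hzS : (z : G) ∈ S := (hP z).mp (hsh.RS hsh.zR)
    obtain ⟨i, hi⟩ := act_four hSyl hP hsh hrS (fun s hsS hsK => hrK s ⟨hsS, hsK⟩)
    have hsplit : ∀ k ∈ S ⊓ K, (∀ x : ↥K, r * x * r⁻¹ = k * x * k⁻¹) → False := by
      intro k hk hx
      have h1 := mem_centralizer_of_eq (le_normalizer hk.2) hx
      exact hrne (r * k⁻¹) ⟨S.mul_mem hrS (S.inv_mem hk.1), h1⟩ k hk (by group)
    fin_cases i
    · exact hsplit z ⟨hzS, z.2⟩ hi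
    · exact false_of_refl hF hKF haF hne hrN hrC' hr22 hr11
        (haut (β := ρ) (fun x => Subtype.ext (hi x)) hsh.refl)
    · exact false_of_refl hF hKF haF hne hrN hrC' hr22 hr11
        (haut (β := ρ * MulAut.conj z) (fun x => Subtype.ext (hi x)) hsh.refl')
    · refine hsplit 1 (one_mem _) (fun x => ?_)
      have h1 : r * x * r⁻¹ = x := hi x
      rw [h1]
      group

end Cfsg.Agent.OddHalf.D4.Small.LFour

end

-- merged: Cfsg.Agent.OddHalf.D4.Final.Odd
section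

/-!
# ODD half, D4: the rows of Lie type in odd characteristic with `Z(K) = 1` (helper228, integrator)

Open: `NoBig` (node NI, `q ≥ 5`), Ree, node NI over `F_3` (`NoThree`, `F13`), the sheet of `L₄(3)`, the rows `Ω₇(3)`,
`PΩ₈^±(3)`.
-/

set_option autoImplicit false

namespace Cfsg.Agent.OddHalf.D4.Final.Odd

open Subgroup Cfsg Cfsg.Agent.OddHalf.Iface Cfsg.Agent.OddHalf.LieOddFam Cfsg.Agent.OddHalf.D4
  Cfsg.Agent.OddHalf.D4.Cut

universe u

/-- the open rows -/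
structure Open : Prop where
  /-- node NI over `F_q`, `q ≥ 5` -/
  big : NI.NoBig.{u}
  ree : Row1.{u} (fun K _ => Reeo K)
  /-- node NI over `F_3` -/
  noThree : NI3.NoThree.{u}
  f13 : NI3.F13.{u}
  /-- the sheet of `L₄(3)` -/
  l4 : ∀ (K : Type u) [Group K] (F : Type) [Field F] [Fintype F], Fintype.card F = 3 →
    (K ≃* Matrix.ProjectiveSpecialLinearGroup (Fin 4) F) → Small.LFour.HasSheetL K
  o7 : Row1.{u} (fun K _ => ∃ (F : Type) (_ : Field F) (_ : Fintype F), Fintype.card F = 3 ∧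
    Nonempty (K ≃* POmega F (quadFormOdd 3 F)))
  o8p : Row1.{u} (fun K _ => ∃ (F : Type) (_ : Field F) (_ : Fintype F), Fintype.card F = 3 ∧
    Nonempty (K ≃* POmega F (quadFormPlus 4 F)))
  o8m : Row1.{u} (fun K _ => ∃ (F : Type) (_ : Field F) (_ : Fintype F) (b c : F), Fintype.card F = 3 ∧
    (∀ z₁ z₂ : F, z₁ ^ 2 + b * z₁ * z₂ + c * z₂ ^ 2 = 0 → z₁ = 0 ∧ z₂ = 0) ∧
    Nonempty (K ≃* POmega F (quadFormMinus 3 F b c)))

/-- a row from the facts `Small.Row` -/
theorem row_of_small (h1173 : Start.P1173.{u}) {P : (K : Type u) → [Group K] → Prop}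
    (h : ∀ (K : Type u) [Group K], P K → Small.Row K) : Row1.{u} P := by
  intro G _ C K S hr hz hP
  have := C.fin
  have := C.simple
  obtain ⟨x, y, hx, hy, hx2, hy2, hxy, hne⟩ := EvenPair.exists_two_of_not_pRankLE hr
  exact Small.false_of_row (h1173 G (Start.oddCore_eq_bot hx2)) S.std (Start.isSimple_of_center S.simple hz) hz hr
    (h ↥K hP)

/-- a row from `HasSheetL` -/
theorem row_of_sheetL (h1173 : Start.P1173.{u}) {P : (K : Type u) → [Group K] → Prop}
    (h : ∀ (K : Type u) [Group K], P K → Small.LFour.HasSheetL K) : Row1.{u} P := by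
  intro G _ C K S hr hz hP
  have := C.fin
  have := C.simple
  obtain ⟨x, y, hx, hy, hx2, hy2, hxy, hne⟩ := EvenPair.exists_two_of_not_pRankLE hr
  exact Small.LFour.false_of_rowL (h1173 G (Start.oddCore_eq_bot hx2)) S.std (Start.isSimple_of_center S.simple hz)
    hz hr (h ↥K hP)

/-- the groups of rank at least 2 over the field with 3 elements -/
theorem three (h1173 : Start.P1173.{u}) (o : Open.{u}) : Row1.{u} (fun K _ => Rk K 3) := by
  intro G _ C K S hr hz hP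
  rcases NI3.Final.small_of_rk o.noThree o.f13 C S.toStd0 hz hP with h | h | h | h | h | h | h | h | h
  · exact row_of_small h1173 (P := fun K _ => ∃ (F : Type) (_ : Field F) (_ : Fintype F), Fintype.card F = 3 ∧
      Nonempty (K ≃* Matrix.ProjectiveSpecialLinearGroup (Fin 3) F))
      (fun K _ ⟨F, _, _, hF, ⟨e⟩⟩ => Small.row_l33 hF e) G C K S hr hz h
  · exact row_of_small h1173 (P := fun K _ => ∃ (F : Type) (_ : Field F) (_ : Fintype F), Fintype.card F = 9 ∧
      Nonempty (K ≃* PSU 3 F 3))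
      (fun K _ ⟨F, _, _, hF, ⟨e⟩⟩ => Small.row_u33 hF e) G C K S hr hz h
  · exact row_of_sheetL h1173 (P := fun K _ => ∃ (F : Type) (_ : Field F) (_ : Fintype F), Fintype.card F = 3 ∧
      Nonempty (K ≃* Matrix.ProjectiveSpecialLinearGroup (Fin 4) F))
      (fun K _ ⟨F, _, _, hF, ⟨e⟩⟩ => o.l4 K F hF e) G C K S hr hz h
  · exact row_of_small h1173 (P := fun K _ => ∃ (F : Type) (_ : Field F) (_ : Fintype F), Fintype.card F = 9 ∧
      Nonempty (K ≃* PSU 4 F 3))
      (fun K _ ⟨F, _, _, hF, ⟨e⟩⟩ => Small.UFour.row hF e) G C K S hr hz h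
  · exact row_of_small h1173 (P := fun K _ => ∃ (F : Type) (_ : Field F) (_ : Fintype F), Fintype.card F = 3 ∧
      Nonempty (K ≃* PSp 2 F))
      (fun K _ ⟨F, _, _, hF, ⟨e⟩⟩ => Small.row_psp43 hF e) G C K S hr hz h
  · exact row_of_small h1173 (P := fun K _ => FG2 K 3)
      (fun K _ ⟨F, _, _, hF, ⟨e⟩⟩ => Small.row_g23 F hF e) G C K S hr hz h
  · exact o.o7 G C K S hr hz h
  · exact o.o8p G C K S hr hz h
  · exact o.o8m G C K S hr hz h

/-- **The rows of Lie type in odd characteristic.** -/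
theorem rowsOdd (h1173 : Start.P1173.{u}) (o : Open.{u}) : Cut.RowsOdd.{u} :=
  NI.RowsD4.rowsOdd_of o.big (LThreeTwo.row h1173) (RowL2o.row h1173) o.ree (three h1173 o)

end Cfsg.Agent.OddHalf.D4.Final.Odd

end
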