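import Mathlib
import Cfsg.Agent.OddHalf.D4.Un2.Aut
import Cfsg.Agent.OddHalf.D4.Spor.Transport
import Cfsg.Agent.OddHalf.D4.Spor.Row
import Cfsg.Agent.Lib.Cores
import Cfsg.Agent.OddHalf.D4.Cut
import Cfsg.Agent.OddHalf.D4.KPairG
import Cfsg.Agent.OddHalf.D4.Sp2.Main
import Cfsg.Agent.OddHalf.D4.Sp2.Inst
import Cfsg.Agent.KFacts.RgdAutFacts
import Cfsg.Agent.KFacts.RgdKap
import Cfsg.Agent.KFacts.RgdFilt
import Cfsg.Agent.KFacts.SLRow.Psl
import Cfsg.Agent.OddHalf.D4.Start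
import Cfsg.Agent.OddHalf.D4.O2.Row
import Cfsg.Agent.OddHalf.D4.SLTwo.Main
import Cfsg.Agent.OddHalf.D4.SpFourSetup
import Cfsg.Agent.OddHalf.D4.SpFourMix
import Cfsg.Agent.OddHalf.D4.SpFourEnd
import Cfsg.Agent.OddHalf.D4.Sz.Front
import Cfsg.Agent.OddHalf.D4.Final.Given
import Cfsg.Agent.OddHalf.D4.Sz.PairKill
import Cfsg.Agent.OddHalf.D4.Sz.End
import Cfsg.Agent.OddHalf.Front.FE
import Cfsg.Agent.TitsK.Main
import Cfsg.Agent.KFacts.OddLift.OEight
import Cfsg.Agent.ChevalleyStructure.UnipProd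
import Cfsg.Agent.OddHalf.D4.En2.Kill
import Cfsg.Agent.KFacts.RgdDiag
import Cfsg.Agent.OddHalf.SL.Index
import Cfsg.Agent.KFacts.SLRow.Diag
import Cfsg.Agent.OddHalf.D4.En2.InstRE
import Cfsg.Agent.OddHalf.D4.En2.InstRA
import Cfsg.Agent.OddHalf.D4.En2.QuadTab
import Cfsg.Agent.KFacts.SLRow.Chev
import Cfsg.Agent.KFacts.ChevTwoSysInst
import Cfsg.Agent.KFacts.ChevTwoInstE
import Cfsg.Agent.OddHalf.D4.TwF.Types
import Cfsg.Agent.KFacts.TwF4.Inst
import Cfsg.Agent.OddHalf.D4.Free.AutFacts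
import Cfsg.Agent.OddHalf.D4.UnB.Field
import Cfsg.Agent.OddHalf.D4.UnB.Filt
import Cfsg.Agent.OddHalf.DblR.UnRow
import Cfsg.Agent.OddHalf.D4F4.Full
import Cfsg.Agent.OddHalf.D4.Free.F4.BFac
import Cfsg.Agent.OddHalf.DblR.HexK.TriP
import Cfsg.Agent.OddHalf.DblR.RowCore
import Cfsg.Agent.HexStart.HexPure
import Cfsg.Agent.Schreier.Basic
import Cfsg.Agent.OddHalf.DblR.HexG.Inst
import Cfsg.Agent.OddHalf.DblR.HexG.Model
import Cfsg.Agent.OddHalf.DblR.InpEnd
import Cfsg.Agent.OddHalf.D4.EvenPair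
import Cfsg.Agent.OddHalf.DblR.HexK.AutForm
import Cfsg.Agent.OddHalf.Quat.RowHex
import Cfsg.Agent.OddHalf.D4.HexFree.Facts
import Cfsg.Agent.HexModel.Main
import Cfsg.Agent.OddHalf.D4.StartFree
import Cfsg.Agent.KFacts.SLRow.Row
import Cfsg.Agent.KFacts.SysFltG
import Cfsg.Agent.OddHalf.D4.RowsSL
import Cfsg.Agent.OddHalf.D4.U3.MkNor
import Cfsg.Agent.OddHalf.D4.U3.TEnd
import Cfsg.Agent.OddHalf.D4.U3.Start
import Cfsg.Agent.OddHalf.D4.U3.End
import Cfsg.Agent.OddHalf.D4.Digon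
import Cfsg.Agent.OddHalf.D4.U3.FrInst
import Cfsg.Agent.OddHalf.D4.U3.Torus
import Cfsg.Agent.OddHalf.D4.U3.ParDefs
import Cfsg.Agent.OddHalf.Iface
import Cfsg.Agent.StdU3.URelModel
import Cfsg.Agent.OddHalf.D4.SpN.Inst
import Cfsg.Agent.OddHalf.SpN.Inst
import Cfsg.Agent.KFacts.SysBFSp
import Cfsg.Agent.OddHalf.DblR.OneRow
import Cfsg.Agent.OddHalf.D4.ThreeD4Two.Sheet
import Cfsg.Agent.OddHalf.D4.Rk2.Row
import Cfsg.Agent.OddHalf.D4.TwE.Row
import Cfsg.Agent.OddHalf.D4.L3.Row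
import Cfsg.Agent.OddHalf.D4.LinESix
import Cfsg.Agent.OddHalf.D4.MinusB.FactsInst
import Cfsg.Agent.OddHalf.D4.Final.Cov
import Cfsg.Agent.OddHalf.D4.Final.Spor
import Cfsg.Agent.OddHalf.D4.Final.Odd
import Cfsg.Agent.OddHalf.D4.Final.Mult

-- merged: Cfsg.Agent.OddHalf.D4.Un2.Sheet
section

/-!
# ODD, D4, row `U_n(2)`, `n ≥ 5`: the fact sheet

`sheet : |F| = 2 ^ 2 → 5 ≤ n → Sheet (PSU n F 2)`.
-/

set_option autoImplicit false

namespace Cfsg.Agent.OddHalf.D4.Un2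

open Cfsg Cfsg.Agent.LieClassical.HermBasic Cfsg.Agent.LieClassical.HermSiegel
  Cfsg.Agent.ClassicalGeometry.PSUAutBasic Matrix Cfsg.Agent.OddHalf.D4.Spor
open Cfsg.Agent.ClassicalGeometry.PSUAutCount (gm toAut)
open Cfsg.Agent.ClassicalGeometry.PSUAutMain (exists_toAut)
open Cfsg.Agent.Schreier.PSU (f₁ f₂ toAut_eq mapGU conj_field f₁_eq_conj)
open Cfsg.Agent.OddHalf.Table.OutUSix (ringAut_mul exists_gm)

/-- index of a normal subgroup `I` in `A`, if `I ≤ N`, products of two elements outside `N` are in `N`, and the cubes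
of the elements of `N` are in `I` -/
theorem not_four_dvd_index {A : Type*} [Group A] [Finite A] {I N : Subgroup A} [I.Normal] (hIN : I ≤ N)
    (h2 : ∀ a b : A, a ∉ N → b ∉ N → a * b ∈ N) (h3 : ∀ a ∈ N, a ^ 3 ∈ I) : ¬ 4 ∣ I.index := by
  intro h4
  have hodd : ¬ 2 ∣ I.relIndex N := by
    intro h
    have : Fact (Nat.Prime 2) := ⟨Nat.prime_two⟩
    have hcard : 2 ∣ Nat.card (↥N ⧸ I.subgroupOf N) := h
    obtain ⟨x, hx⟩ := exists_prime_orderOf_dvd_card' 2 hcard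
    obtain ⟨⟨a, ha⟩, rfl⟩ := QuotientGroup.mk_surjective x
    have h5 : (QuotientGroup.mk ⟨a, ha⟩ : ↥N ⧸ I.subgroupOf N) ^ 3 = 1 := by
      rw [← QuotientGroup.mk_pow, QuotientGroup.eq_one_iff, Subgroup.mem_subgroupOf]
      exact h3 a ha
    have h6 := orderOf_dvd_of_pow_eq_one h5
    rw [hx] at h6
    norm_num at h6
  have hidx : N.index = 1 ∨ N.index = 2 := by
    by_cases hN : ∃ a, a ∉ N
    · obtain ⟨a, ha⟩ := hN
      right
      rw [Subgroup.index_eq_two_iff]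
      refine ⟨a, fun b => ?_⟩
      by_cases hb : b ∈ N
      · refine Or.inr ⟨hb, fun h => ha ?_⟩
        have h7 := N.mul_mem (N.inv_mem hb) h
        rwa [inv_mul_cancel_left] at h7
      · exact Or.inl ⟨h2 b a hb ha, hb⟩
    · push Not at hN
      left
      rw [Subgroup.index_eq_one]
      exact eq_top_iff.2 fun a _ => hN a
  rw [← Subgroup.relIndex_mul_index hIN] at h4
  rcases hidx with h5 | h5
  · rw [h5, mul_one] at h4
    exact hodd ((by norm_num : 2 ∣ 4).trans h4)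
  · rw [h5] at h4
    apply hodd
    exact (Nat.mul_dvd_mul_iff_right (by norm_num : 0 < 2)).1 (by simpa using h4)

variable {F : Type*} [Field F] [Fintype F] {n : ℕ}

/-- **OUT** -/
theorem out (hF : Fintype.card F = 2 ^ 2) (hn : 5 ≤ n) :
    ¬ 4 ∣ (MulAut.conj : PSU n F 2 →* MulAut (PSU n F 2)).range.index := by
  have : Finite (MulAut (PSU n F 2)) := inferInstance
  have hN : ((MulAut.conj : PSU n F 2 →* MulAut (PSU n F 2)).range).Normal := by
    refine ⟨?_⟩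
    rintro _ ⟨x, rfl⟩ α
    refine ⟨α x, ?_⟩
    ext y
    simp [MulAut.conj_apply]
  refine not_four_dvd_index (N := (f₁ : GU n F 2 →* MulAut (PSU n F 2)).range) ?_ ?_ ?_
  · rintro _ ⟨x, rfl⟩
    obtain ⟨g, rfl⟩ := pr_surjective x
    obtain ⟨A, hA⟩ := exists_gm g
    exact ⟨A, f₁_eq_conj A g hA⟩
  · have hex : ∀ α : MulAut (PSU n F 2), α ∉ (f₁ : GU n F 2 →* MulAut (PSU n F 2)).range →
        ∃ (A : GU n F 2) (ρ : F ≃+* F), ρ ≠ 1 ∧ α = f₁ A * f₂ ρ := by
      intro α hα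
      obtain ⟨A, ρ, h⟩ := exists_toAut hF (by omega) (by omega) α
      rw [toAut_eq] at h
      refine ⟨A, ρ, ?_, h⟩
      rintro rfl
      rw [map_one, mul_one] at h
      exact hα ⟨A, h.symm⟩
    intro a b ha hb
    obtain ⟨A, ρ, hρ, rfl⟩ := hex a ha
    obtain ⟨B, σ, hσ, rfl⟩ := hex b hb
    have h1 := ringAut_mul hF ρ σ hρ hσ
    refine ⟨A * mapGU ρ B, ?_⟩
    rw [map_mul, ← conj_field]
    have h2 : (f₂ σ : MulAut (PSU n F 2)) = (f₂ ρ)⁻¹ := by
      rw [eq_inv_iff_mul_eq_one, ← map_mul, ringAut_mul hF σ ρ hσ hρ, map_one]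
    rw [h2]
    group
  · rintro _ ⟨A, rfl⟩
    obtain ⟨k, hk⟩ := cube_inn hF A
    exact ⟨k, hk.symm⟩

/-- **The fact sheet of `U_n(2)`, `n ≥ 5`.** -/
theorem sheet (hF : Fintype.card F = 2 ^ 2) (hn : 5 ≤ n) : Sheet (PSU n F 2) where
  out := out hF hn
  schreier := Cfsg.Agent.Schreier.PSU.sch hF (by omega) (by omega)
  sylAut := sylAut hF hn
  z1 := fun S a ha _ ha1 hac b hb _ hb1 hbc => z1 hF (by omega) S a ha ha1 hac b hb hb1 hbc
  bal := bal hF (by omega)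
  out2 := fun α h1 h2 w h3 h4 h5 h6 h7 _ _ _ _ _ => out2 hF hn α h1 h2 w h3 h4 h5 h6 h7
  tab := tab_of_not_badB (not_badB hF hn)

end Cfsg.Agent.OddHalf.D4.Un2

end

-- merged: Cfsg.Agent.OddHalf.D4.Un2.Row
section

/-!
# ODD, D4: the rows `U_n(2)`, `n ≥ 6`, and `U_5(2)`
-/

set_option autoImplicit false

namespace Cfsg.Agent.OddHalf.D4.Un2

open Cfsg Cfsg.Agent.OddHalf.D4 Cfsg.Agent.OddHalf.D4.Spor

universe u

/-- **D4, `U_n(2)`, `n ≥ 6`.** -/
theorem un2 (h1173 : Start.P1173.{u}) (hFT : FTT.{u}) (hse : PSE.{u}) : Cut.Row1.{u} (fun K _ => Cut.Un2 K) :=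
  row_of_sheet h1173 hFT hse (by
    rintro X _ _ _ ⟨F, _, _, n, hF, hn, ⟨e⟩⟩
    exact (sheet (n := n) (by rw [hF]; norm_num) (by omega)).of_equiv e.symm)

/-- **D4, `U_5(2)`.** -/
theorem u52 (h1173 : Start.P1173.{u}) (hFT : FTT.{u}) (hse : PSE.{u}) : Cut.Row1.{u} (fun K _ => Cut.U52 K) :=
  row_of_sheet h1173 hFT hse (by
    rintro X _ _ _ ⟨F, _, _, hF, ⟨e⟩⟩
    exact (sheet (n := 5) (by rw [hF]; norm_num) le_rfl).of_equiv e.symm)

end Cfsg.Agent.OddHalf.D4.Un2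

end

-- merged: Cfsg.Agent.OddHalf.D4.Sp2.Row
section

/-!
# ODD, D4: the row `K ≅ Sp_2m(2)`, `m ≥ 4`
-/

set_option autoImplicit false

open Cfsg Subgroup
open Cfsg.Agent.OddHalf.Iface

namespace Cfsg.Agent.OddHalf.D4.Sp2.Row

universe u

theorem oddCore_eq_bot {G : Type u} [Group G] [Finite G] [IsSimpleGroup G] {K : Subgroup G}
    (hrk : ¬ PRankLE 2 1 ↥(centralizer (K : Set G))) : oddCore G = ⊥ := by
  obtain ⟨a, b, ha, hb, ha2, hb2, hab, hne⟩ := EvenPair.exists_two_of_not_pRankLE hrk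
  have hn : (oddCore G).Normal := inferInstance
  rcases IsSimpleGroup.eq_bot_or_eq_top_of_normal _ hn with h | h
  · exact h
  · exfalso
    have h1 := Cfsg.Agent.Lib.Cores.pPrimeCore_coprime (G := G) 2
    have h2 : pPrimeCore 2 G = ⊤ := h
    rw [h2, Nat.card_congr (topEquiv (G := G)).toEquiv] at h1
    have h3 : 2 ∣ Nat.card G := by
      rw [← ha2]
      exact orderOf_dvd_natCard a
    have h4 : Nat.gcd 2 (Nat.card G) = 2 := Nat.gcd_eq_left h3
    rw [Nat.Coprime] at h1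
    rw [Nat.gcd_comm, h4] at h1
    exact absurd h1 (by norm_num)

/-- **D4, the row of `Sp_2m(2)`, `m ≥ 4`.** -/
theorem sp2 (h1173 : ∀ (G : Type u) [Group G] [Finite G], oddCore G = ⊥ → EvenPair.H1173 G) :
    Cut.Row1.{u} (fun K _ => Cut.Sp2 K) := by
  intro G _ C K S hrk hZ hP
  obtain ⟨F, _, _, m, hF, hm, ⟨e⟩⟩ := hP
  have := C.fin
  have hG := C.simple
  obtain ⟨e₀⟩ := Inst.exists_equiv (m := m) (by omega) hF
  let e' : ↥K ≃* Inst.X m := e.trans e₀
  let M := Inst.congr (Inst.modX m) e'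
  have hs : IsSimpleGroup ↥K := by
    have := Cfsg.Agent.S0270.result (F := F) m (by omega) (fun h => by omega)
    exact e.isSimpleGroup
  have cen : ∀ x ∈ K, x ∈ centralizer (K : Set G) → x = 1 := by
    intro x hx hxc
    have h1 : (⟨x, hx⟩ : ↥K) ∈ center ↥K := by
      rw [mem_center_iff]
      intro y
      exact Subtype.ext (mem_centralizer_iff.mp hxc y y.2)
    rw [hZ, mem_bot] at h1
    exact congrArg Subtype.val h1
  have hout : ∀ α : MulAut ↥K, ∃ k, α = MulAut.conj k := Inst.inner_of_equiv (by omega) e'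
  refine KPairG.false_of_pair (h1173 G (oddCore_eq_bot hrk)) S.std hs cen hrk
    (KPairG.innSyl_of_inner (fun z hz => Main.center_trivial M hz) hout) ?_
  intro D N R P hinn
  refine Main.pair_false M P (hinn hout) hout ?_
  intro a b c
  exact Inst.big hm a b c

end Cfsg.Agent.OddHalf.D4.Sp2.Row

end

-- merged: Cfsg.Agent.KFacts.SLRow.Facts
section

/-!
# Simply laced groups of characteristic two of rank at least `3`: facts without root group data

For a finite group `K` with `IsSL q l K` (`PSL_{l+1}(q)`, `PΩ⁺_{2l}(q)`, `E_l(q)`, `q` even, `l ≥ 3`):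
`charTwo`, `core`, `notSE`, `inner`, and for `q = 2` the facts `D4.AutFacts K`.
-/

set_option autoImplicit false
set_option linter.unusedSectionVars false

namespace Cfsg.Agent.KFacts.SLRow.Facts

open CoxeterSystem Cfsg.Agent.ChevalleyStructure.CoxeterGeom Cfsg.Agent.Tits.Roots Cfsg.Agent.Tits.Core
  Cfsg.Agent.Tits.Exchange Cfsg.Agent.Nodes.Reps Cfsg.Agent.Nodes.BNOf Cfsg.Agent.Nodes.StabComb
  Cfsg.Agent.Nodes.Bruhat Cfsg.Agent.Nodes.Coroot Cfsg.Agent.Nodes.RGDLib Cfsg.Agent.KFacts.RgdCent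
  Cfsg.Agent.KFacts.RgdSL Cfsg.Agent.KFacts.RgdTI Cfsg.Agent.KFacts.RgdOdd
  Cfsg.Agent.KFacts.SLRow.Def Cfsg.Agent.KFacts.RgdKap

variable {I W Y : Type*} [Fintype I] [DecidableEq I] [Group W] [Group Y] {M : CoxeterMatrix I}
  {q : ℕ} {cs : CoxeterSystem M W} {A : I → I → ℤ} {h : IsCartan M A} {T : Subgroup Y} {n : I → Y}
  {X : (I → ℤ) → Subgroup Y}

section

variable [Finite W] [Finite Y] (D : Datum ⊤ q cs h T n X)

include D

theorem conn : RgdCharP.Conn M := by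
  intro J hJ hJ'
  have h1 : Jᶜ.Nonempty := by
    by_contra h2
    rw [Set.not_nonempty_iff_eq_empty, Set.compl_empty_iff] at h2
    exact hJ' h2
  obtain ⟨i, hi, j, hj, hij⟩ := D.irr J hJ h1
  exact ⟨i, hi, j, hj, hij⟩

theorem nonempty : Nonempty I := Fintype.card_pos_iff.1 (lt_of_lt_of_le (by norm_num) D.three)

theorem exists_ne' (i : I) : ∃ j : I, j ≠ i := by
  have : Nontrivial I := Fintype.one_lt_card_iff_nontrivial.1 (lt_of_lt_of_le (by norm_num) D.three)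
  exact exists_ne i

theorem bt : RgdCharP.BT cs h 2 T X := by
  intro K hK hK1
  have : Fact (Nat.Prime 2) := ⟨Nat.prime_two⟩
  exact RgdBorelTits.borel_tits (hF := (RgdFilt.intComm_of_sl D.rgd (sl_of D.h4 D.h6)).filt)
    (R := D.rgd) D.GG_eq hK hK1

theorem ab (x : I → ℤ) (hx : IsRoot cs h x) : ∀ a ∈ X x, ∀ b ∈ X x, a * b = b * a := by
  intro a ha b hb
  have hs := sl_of (cs := cs) (h := h) D.h4 D.h6
  obtain ⟨y, hy, hxy⟩ := nb_of D.h4 D.h6 D.irr D.three hx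
  -- `x = (x - y) + y`
  have hd := isRoot_sub hx hy hxy
  have hA : A2 cs h (x - y) y := hs.a2 hd hy (by
    rw [sub_eq_add_neg, cpr_add cs h _ _ hy, cpr_neg cs h _ hy, hxy, cpr_self cs h hy]; norm_num)
  refine A2.comm_self D.rgd hA ?_ ?_
  · rwa [sub_add_cancel]
  · rwa [sub_add_cancel]

theorem charTwo' : IsCharacteristicTwoType Y := by
  have := nonempty D
  exact RgdAutFacts.char_two_type D.rgd D.GG_eq (bt D) D.cent (conn D)

theorem core' {a : Y} (ha : orderOf a = 2) : centralizerPPrimeCore 2 a = ⊥ :=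
  RgdAutFacts.core_two D.rgd D.GG_eq (bt D) D.cent (conn D) ha

theorem notSE' (H : Subgroup Y) : ¬ IsStronglyEmbedded H := by
  have := nonempty D
  exact RgdAutFacts.not_stronglyEmbedded D.rgd D.GG_eq (exists_ne' D) H

theorem inner' (S : Sylow 2 Y) (φ : MulAut Y) (hφ : ∀ s ∈ S, φ s = s) : ∃ s ∈ S, φ = MulAut.conj s :=
  RgdAutFacts.inner D.rgd D.GG_eq (fun i => ab D _ (isRoot_sr cs h i)) D.gen S φ hφ

end

theorem autFacts' [Finite W] [Finite Y] (D : Datum ⊤ 2 cs h T n X) : OddHalf.D4.AutFacts Y := by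
  have := nonempty D
  exact RgdAutFacts.autFacts_SL D.rgd D.GG_eq (exists_ne' D) (bt D) D.cent (conn D) D.gen (sl_of D.h4 D.h6)
    (fun r hr => orth_of D.h4 D.h6 D.irr hr) (lr_of D.h4 D.h6 D.irr D.three D.rgd)
    fun i => D.card _ (isRoot_sr cs h i)

/-! ### Without root group data -/

variable {l : ℕ} {K : Type*} [Group K] [Finite K]

theorem charTwo (hK : IsSL q l K) : IsCharacteristicTwoType K := by
  obtain ⟨M, A, h, T, n, X, hW, D⟩ := hK
  exact charTwo' D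

theorem core (hK : IsSL q l K) {a : K} (ha : orderOf a = 2) : centralizerPPrimeCore 2 a = ⊥ := by
  obtain ⟨M, A, h, T, n, X, hW, D⟩ := hK
  exact core' D ha

theorem notSE (hK : IsSL q l K) (H : Subgroup K) : ¬ IsStronglyEmbedded H := by
  obtain ⟨M, A, h, T, n, X, hW, D⟩ := hK
  exact notSE' D H

theorem inner (hK : IsSL q l K) (S : Sylow 2 K) (φ : MulAut K) (hφ : ∀ s ∈ S, φ s = s) :
    ∃ s ∈ S, φ = MulAut.conj s := by
  obtain ⟨M, A, h, T, n, X, hW, D⟩ := hK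
  exact inner' D S φ hφ

theorem autFacts (hK : IsSL 2 l K) : OddHalf.D4.AutFacts K := by
  obtain ⟨M, A, h, T, n, X, hW, D⟩ := hK
  exact autFacts' D

end Cfsg.Agent.KFacts.SLRow.Facts

end

-- merged: Cfsg.Agent.OddHalf.D4.SLTwo.Row
section

/-!
# ODD, D4: the row `L_n(2)`, `n ≥ 5`
-/

set_option autoImplicit false
set_option linter.unusedSectionVars false

namespace Cfsg.Agent.OddHalf.D4.SLTwo

open Matrix Cfsg.Agent.ClassicalGeometry.AutPSL.Root

universe u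

variable {F : Type*} [Field F] {n : ℕ}

/-- "odd automorphisms are inner" along an isomorphism -/
theorem inner_of_odd_equiv {X Y : Type*} [Group X] [Group Y] (e : X ≃* Y)
    (h : ∀ α : MulAut Y, Odd (orderOf α) → ∃ k, α = MulAut.conj k) (α : MulAut X) (hα : Odd (orderOf α)) :
    ∃ k, α = MulAut.conj k := by
  obtain ⟨k, hk⟩ := h (MulAut.congr e α) (by rwa [MulEquiv.orderOf_eq (MulAut.congr e) α])
  refine ⟨e.symm k, ?_⟩
  apply MulEquiv.ext
  intro x
  have h1 := DFunLike.congr_fun hk (e x)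
  have h2 : MulAut.congr e α (e x) = e (α x) := by
    simp [MulAut.congr]
  rw [h2, MulAut.conj_apply] at h1
  apply e.injective
  rw [h1, MulAut.conj_apply, map_mul, map_mul, map_inv, MulEquiv.apply_symm_apply]

theorem autFacts_psl [Fintype F] (h2 : Fintype.card F = 2) (hn : 4 ≤ n) :
    AutFacts (Matrix.ProjectiveSpecialLinearGroup (Fin n) F) := by
  have hc : CharP F 2 := by
    have hF := two_of_card h2
    refine CharTwo.of_one_ne_zero_of_two_eq_zero one_ne_zero ?_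
    rw [← one_add_one_eq_two]
    exact hF.add_self 1
  have h := Cfsg.Agent.KFacts.SLRow.Psl.isSL_PSL' hn F
  rw [Nat.card_eq_fintype_card, h2] at h
  exact Cfsg.Agent.KFacts.SLRow.Facts.autFacts h

/-- **row `ln2`** -/
theorem row (h1173 : Start.P1173.{u}) : Cut.Row1.{u} @Cut.Ln2 := by
  refine Start.row_of_KP h1173 ?_ ?_ ?_
  · rintro X _ _ _ ⟨F, _, _, n, h2, hn, ⟨e⟩⟩
    exact AutOne.of_equiv e (autFacts_psl h2 (by omega))
  · rintro X _ _ _ ⟨F, _, _, n, h2, hn, ⟨e⟩⟩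
    exact (kp h2 hn).of_equiv (e.trans (slEquiv (two_of_card h2) (by omega)).symm)
  · rintro X _ _ _ ⟨F, _, _, n, h2, hn, ⟨e⟩⟩
    exact inner_of_odd_equiv (e.trans (slEquiv (two_of_card h2) (by omega)).symm)
      (inner_of_odd h2 (by omega))

end Cfsg.Agent.OddHalf.D4.SLTwo

end

-- merged: Cfsg.Agent.OddHalf.D4.SpFourRow
section

/-!
# ODD D4: the row `K = Sp₄(q)`, `q = 2^a ≥ 4`
-/

set_option autoImplicit false
set_option linter.unusedSectionVars false

namespace Cfsg.Agent.OddHalf.D4.SpFourRow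

open Cfsg.Agent.StdSpFour Subgroup Cfsg.Agent.OddHalf.D4 Cfsg.Agent.OddHalf.D4.Basic
open Cfsg.Agent.OddHalf.D4.SpFourDefs Cfsg.Agent.OddHalf.D4.SpFourCent
open Cfsg.Agent.OddHalf.D4.SpFourFr Cfsg.Agent.OddHalf.D4.SpFourTyp Cfsg.Agent.OddHalf.D4.SpFourSetup
open Cfsg.Agent.StdSpFour.Swap (swap)
open Cfsg.Agent.OddHalf.D4.CommConj (cj mem_cj mem_cj_mul)

universe u

section

variable {F : Type*} [Field F] [CharP F 2] [Finite F] {G : Type u} [Group G] [Finite G]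
variable {B : Base F G} {K L Q R : Subgroup G}

/-- the squares of the elements of `Q` are trivial if `R ≤ Q Z` with component map `z` -/
theorem sq_of_comp (h : Fr K L Q R) {g : G} (hR : R = cj g Q)
    (hc : ∀ x ∈ R, ∃ t ∈ Q, ∃ z ∈ K, z * z = 1 ∧ x = t * z) : ∀ x ∈ Q, x * x = 1 := by
  have h1 : ∀ x ∈ R, x * x = 1 := by
    intro x hx
    obtain ⟨t, ht, z, hz, hzz, e⟩ := hc x hx
    have h2 : z * t = t * z := mem_centralizer_iff.mp (h.fp.sylQ.le ht) z hz
    have h3 : x * x = t * t := by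
      rw [e]
      calc t * z * (t * z) = t * (z * t) * z := by group
        _ = t * t * (z * z) := by rw [h2]; group
        _ = t * t := by rw [hzz, mul_one]
    have h4 : ∃ k : ℕ, (x * x) ^ 2 ^ k = 1 := h.two (R.mul_mem hx hx)
    exact h.eq_one (by rw [h3]; exact mul_mem (h.fp.sylQ.le ht) (h.fp.sylQ.le ht))
      (mul_mem (h.fp.sylU.le hx) (h.fp.sylU.le hx)) h4
  intro x hx
  have h2 : g * x * g⁻¹ ∈ R := by rw [hR]; exact mem_cj_mul hx
  have h3 := h1 _ h2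
  calc x * x = g⁻¹ * (g * x * g⁻¹ * (g * x * g⁻¹)) * g := by group
    _ = 1 := by rw [h3]; group

theorem qc (h : Fr K L Q R) (hK : KBase B K) (ht : B.t ∈ Q) (hsq : ∀ x ∈ Q, x * x = 1) : QC B Q := by
  have hc : ∀ t ∈ Q, ∀ k ∈ K, Commute t k := fun t ht k hk =>
    (mem_centralizer_iff.mp (h.fp.sylQ.le ht) k hk).symm
  refine ⟨ht, hsq, fun t ht u => hc t ht _ (hK.xa_mem u), fun t ht u => hc t ht _ (hK.xb_mem u),
    fun t ht u => hc t ht _ (hK.zs_mem u), fun t ht u => hc t ht _ (hK.zl_mem u),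
    fun t ht α β => hc t ht _ (hK.h_mem α β), fun t ht => hc t ht _ hK.na_mem, fun t ht => hc t ht _ hK.nb_mem, ?_⟩
  intro t ht u s m r e
  refine h.env.cen t ?_ (h.fp.sylQ.le ht)
  rw [← e]
  exact mul_mem (mul_mem (mul_mem (hK.xa_mem u) (hK.xb_mem s)) (hK.zs_mem m)) (hK.zl_mem r)

theorem ne_of (h : Fr K L Q R) {g : G} (hR : R = cj g Q) : ∃ t ∈ Q, g * t * g⁻¹ ∉ Q := by
  by_contra hcon
  push Not at hcon
  obtain ⟨x, hx, -, -, -, -, -, hx1, -⟩ := h.exists_four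
  have h1 : x ∈ Q := by
    have h2 := hx
    rw [hR, mem_cj] at h2
    have h3 := hcon _ h2
    have e : g * (g⁻¹ * x * g) * g⁻¹ = x := by group
    rwa [e] at h3
  exact hx1 (h.eq_one (h.fp.sylQ.le h1) (h.fp.sylU.le hx) (h.two hx))

/-- root type is impossible -/
theorem false_of_root (hF : 4 ≤ Nat.card F) (hK : KCent B K) (hA : KAut B K) (h : Fr K L Q R) (ht : B.t ∈ Q)
    (hT : TypL B K Q R ∨ TypS B K Q R) : False := by
  have := Fintype.ofFinite F
  rw [Nat.card_eq_fintype_card] at hF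
  obtain ⟨g, -, hR⟩ := SpFourMix.exists_g h
  obtain ⟨x, hx, y, hy, -, -, -, hx1, hy1, hxy⟩ := h.symm.exists_four
  have h4 : ∃ t1 ∈ Q, ∃ t2 ∈ Q, t1 ≠ 1 ∧ t2 ≠ 1 ∧ t1 ≠ t2 := ⟨x, hx, y, hy, hx1, hy1, hxy⟩
  have hmem : ∀ t ∈ Q, g * t * g⁻¹ ∈ R := fun t ht => by rw [hR]; exact mem_cj_mul ht
  have hone : ∀ t, g * t * g⁻¹ = 1 → t = 1 := by
    intro t e
    calc t = g⁻¹ * (g * t * g⁻¹) * g := by group
      _ = 1 := by rw [e]; group
  rcases hT with ⟨h1, h2⟩ | ⟨h1, h2⟩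
  · have hsq := sq_of_comp h hR (by
      intro x hx
      obtain ⟨t, ht, r, e⟩ := h1 x hx
      exact ⟨t, ht, B.zl r, hK.zl_mem r, Comm.sq_of_add B.zl_add r, e⟩)
    have hqc := qc h hK.toKBase ht hsq
    refine SpFourEnd.endL hF hK hA h.env h.fp.sylQ hqc h4 (g := g) ⟨?_, ?_, ne_of h hR⟩
    · intro t ht
      obtain ⟨t', ht', r, e⟩ := h1 _ (hmem t ht)
      exact ⟨t', ht', r, e⟩
    · intro t ht w e
      apply hone
      apply h2 _ (hmem t ht)
      rw [e]
      exact hK.zl_mem w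
  · have hsq := sq_of_comp h hR (by
      intro x hx
      obtain ⟨t, ht, r, e⟩ := h1 x hx
      exact ⟨t, ht, B.zs r, hK.zs_mem r, Comm.sq_of_add B.zs_add r, e⟩)
    have hqc := qc h hK.toKBase ht hsq
    refine SpFourEnd.endS hF hK hA h.env h.fp.sylQ hqc h4 (g := g) ⟨?_, ?_, ne_of h hR⟩
    · intro t ht
      obtain ⟨t', ht', r, e⟩ := h1 _ (hmem t ht)
      exact ⟨t', ht', r, e⟩
    · intro t ht w e
      apply hone
      apply h2 _ (hmem t ht)
      rw [e]
      exact hK.zs_mem w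

end

/-- **`Sp₄(q)`, `q ≥ 4` even, is not a standard subgroup with `m₂(C(K)) ≥ 2`.** -/
theorem false_of_std {F : Type*} [Field F] [CharP F 2] [Finite F] (hF : 4 ≤ Nat.card F) {G : Type u} [Group G]
    [Finite G] [IsSimpleGroup G] (h1173 : Cfsg.oddCore G = ⊥ → EvenPair.H1173 G) {K : Subgroup G}
    (hstd : Cfsg.IsStandardSubgroup K) (hs : IsSimpleGroup ↥K)
    (hrk : ¬ Cfsg.PRankLE 2 1 ↥(centralizer (K : Set G))) (e : ↥K ≃* Cfsg.PSp 2 F) : False := by
  have hsch : Cfsg.Agent.Schreier.Basic.Sch ↥K :=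
    Cfsg.Agent.Schreier.Basic.Sch.of_equiv e.symm
      (Cfsg.Agent.Schreier.ClassPSp.sch (m := 2) (F := F) le_rfl (fun _ => by omega))
  have env := env_of_std hstd hsch hrk
  have hperf : ⁅K, K⁆ = K := by
    have h1 : ⁅(⊤ : Subgroup ↥K), (⊤ : Subgroup ↥K)⁆ = ⊤ := hstd.1.1.commutator_eq_top
    have h2 := congrArg (Subgroup.map K.subtype) h1
    rw [Subgroup.map_commutator, ← MonoidHom.range_eq_map, Subgroup.range_subtype] at h2
    exact h2
  obtain ⟨a, b, ha, hb, ha2, hb2, hab, hne⟩ := env.four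
  obtain ⟨B0, -, hK0, hA0⟩ := exists_base hF hstd e ha2 ha (fun h => by
    have h1 := env.cen a h ha
    rw [h1, orderOf_one] at ha2
    exact absurd ha2 (by norm_num))
  obtain ⟨g, hg, r, hr, hr2, hrg⟩ := EvenPair.exists_even (h1173 (Start.oddCore_eq_bot ha2)) env.tight env.even
    env.ne hperf (fun k hk c hc => mem_centralizer_iff.mp hc k hk)
  obtain ⟨E, hE⟩ := env.tight.exists_maxE hg hr hr2 hrg
  obtain ⟨L, Q, R, hfp, -, -⟩ := Exists.fullPair_of_maxE env.tight env.cen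
    (fun T hT y hy hc => inner hK0 hA0 hT hy hc) hE
  have hfr : Fr K L Q R := ⟨env, hfp⟩
  obtain ⟨t, ht, -, -, htt, -, -, ht1, -⟩ := hfr.symm.exists_four
  have ht2 : orderOf t = 2 := orderOf_eq_prime (by rw [pow_two, htt]) ht1
  obtain ⟨B, hBt, hK, hA⟩ := exists_base hF hstd e ht2 (hfp.sylQ.le ht) (fun h =>
    ht1 (env.cen t h (hfp.sylQ.le ht)))
  obtain ⟨L', R', hfr', hT⟩ := SpFourMix.exists_root hF hK (fun L R hf => SpFourTOne.hasTyp hF hK hA hf) ⟨L, R, hfr⟩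
  exact false_of_root hF hK hA hfr' (by rw [hBt]; exact ht) hT

/-- **The row `Sp_4(2^a)`, `a ≥ 2`.** -/
theorem row (h1173 : Start.P1173.{u}) : Cut.Row1.{u} (fun K _ => Cut.Sp4e K) := by
  intro G _ hG K hK hrk hz hP
  have := hG.fin
  have := hG.simple
  obtain ⟨F, _, _, a, ha, hcard, ⟨e⟩⟩ := hP
  have hchar : CharP F 2 := by
    obtain ⟨p, hp⟩ := CharP.exists F
    obtain ⟨n, hpp, hn⟩ := FiniteField.card F p
    have h1 : p ∣ 2 ^ a := by
      rw [← hcard, hn]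
      exact dvd_pow_self p n.ne_zero
    have h2 : p = 2 := (Nat.prime_dvd_prime_iff_eq hpp Nat.prime_two).mp (hpp.dvd_of_dvd_pow h1)
    rwa [h2] at hp
  have hF : 4 ≤ Nat.card F := by
    rw [Nat.card_eq_fintype_card, hcard]
    calc 4 = 2 ^ 2 := by norm_num
      _ ≤ 2 ^ a := Nat.pow_le_pow_right (by norm_num) ha
  exact false_of_std hF (h1173 G) hK.std (Start.isSimple_of_center hK.simple hz) hrk e

end Cfsg.Agent.OddHalf.D4.SpFourRow

end

-- merged: Cfsg.Agent.OddHalf.D4.Sz.Row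
section

/-!
# ODD, D4: the row `K = Sz(q)`, `q ≥ 32`

`sze`: the row of `D4/Cut.lean` from `Kill` (the contradiction for `Mv`), S1173, S1170 and the theorem on simple
groups of order prime to 3. `KillB`: only the pairs of type (b) (`Base.graph`) are left.
-/

set_option autoImplicit false

namespace Cfsg.Agent.OddHalf.D4.Sz.Row

open Cfsg Subgroup Cfsg.Agent.OddHalf.D4 Cfsg.Agent.OddHalf.D4.Sz Cfsg.Agent.OddHalf.D4.Sz.PairDefs
open Cfsg.Agent.OddHalf.D4.CommConj (cj mem_cj cj_mul cj_eq_of_mem_normalizer mem_cj_mul)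

universe u

/-- the contradiction for `Mv` -/
def Kill : Prop :=
  ∀ {G : Type u} [Group G] [Finite G] {F : Type} [Field F] [Fintype F] [CharP F 2] {m : ℕ} {K : Subgroup G}
    (D : KFr F m K) (Q T : Subgroup G) (g : G), Mv D Q T g → (∀ H : Subgroup G, H.index ≠ 2) → NoClassTwo G → False

/-- the contradiction for `Mv` in the case of a graph -/
def KillB : Prop :=
  ∀ {G : Type u} [Group G] [Finite G] {F : Type} [Field F] [Fintype F] [CharP F 2] {m : ℕ} {K : Subgroup G}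
    (D : KFr F m K) (Q T : Subgroup G) (g : G), Mv D Q T g →
    (∀ r ∈ Q, ∃ s ∈ Q, ∃ b, g * r * g⁻¹ = s * D.p 0 b) → (∀ H : Subgroup G, H.index ≠ 2) → NoClassTwo G → False

/-- `g Q g⁻¹` is a graph -/
theorem graph_of_mv {G : Type u} [Group G] [Finite G] {F : Type} [Field F] [Fintype F] [CharP F 2] {m : ℕ}
    {K : Subgroup G} {D : KFr F m K} {Q T : Subgroup G} {g : G} (M : Mv D Q T g)
    (hG : ∀ H : Subgroup G, H.index ≠ 2) (hcl : NoClassTwo G) :
    ∀ r ∈ Q, ∃ s ∈ Q, ∃ b, g * r * g⁻¹ = s * D.p 0 b := by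
  have hT : T ≤ normalizer ((cj g K : Subgroup G) : Set G) := by
    intro t ht
    rw [normalizer_cj, mem_cj]
    exact M.base.sylT.le ((mem_normalizer_iff''.mp M.gT t).mp ht)
  obtain ⟨-, f, -, -, hf⟩ := M.base.graph M.tight hG hcl M.gM hT
  intro r hr
  obtain ⟨s, hs, h1⟩ := (hf (g * r * g⁻¹)).mp ⟨(mem_normalizer_iff.mp M.gT r).mp (M.base.Q_le hr), by
    rw [centralizer_cj]
    exact mem_cj_mul (M.base.Q_cent hr)⟩
  exact ⟨s, hs, _, h1⟩

theorem kill_of_killB (h : KillB.{u}) : Kill.{u} := fun D Q T g M hG hcl =>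
  h D Q T g M (graph_of_mv M hG hcl) hG hcl

/-- **the row `K = Sz(q)`, `q ≥ 32`** -/
theorem sze (h1173 : Start.P1173.{u}) (h1170 : Cfsg.Agent.StdSz.Out.S1170Stmt.{u}) (h3p : Kill1170.ThreeStmt.{u})
    (hk : Kill.{u}) : Cut.Row1.{u} (fun K _ => Cut.Sze K) := by
  intro G _ C K hK hrk _ hP
  have := C.fin
  obtain ⟨F, i1, i2, m, hm, hF, ⟨e⟩⟩ := hP
  obtain ⟨D, Q, T, g, M⟩ := Front.exists_mv_std h1173 C hK hrk hm hF e
  have hch : CharP F 2 := CharTwo.of_one_ne_zero_of_two_eq_zero one_ne_zero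
    (Cfsg.Agent.LieRecognition.SzMatrix.two_eq_zero hF)
  exact hk D Q T g M (fun H => Cfsg.Agent.OddHalf.Front.FE.index_ne_two C H)
    (fun S h1 h2 => Kill1170.false_of_sylow C h1170 h3p S h1 h2)

theorem kill : Kill.{u} := fun _ _ _ _ M hG hcl => M.false hG hcl

/-- **the row `K = Sz(q)`, `q ≥ 32`**, from S1173, S1170 and the theorem on simple groups of order prime to 3 -/
theorem row (h1173 : Start.P1173.{u}) (h1170 : Cfsg.Agent.StdSz.Out.S1170Stmt.{u}) (h3p : Kill1170.ThreeStmt.{u}) :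
    Cut.Row1.{u} (fun K _ => Cut.Sze K) := sze h1173 h1170 h3p kill

end Cfsg.Agent.OddHalf.D4.Sz.Row

end

-- merged: Cfsg.Agent.OddHalf.D4.Spor.Tits
section

/-!
# ODD half, D4: the row of the Tits group
-/

set_option autoImplicit false

namespace Cfsg.Agent.OddHalf.D4.Spor.Tits

open Cfsg Cfsg.Agent.OddHalf Cfsg.Agent.OddHalf.D4 Cfsg.Agent.OddHalf.D4.Spor

universe u

/-- the fact sheet of a group isomorphic to the Tits group -/
theorem sheet {X : Type u} [Group X] (h : Lie.IsoTits X) : Sheet X := by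
  obtain ⟨e⟩ := h
  obtain ⟨e'⟩ := Cfsg.Agent.TitsK.exists_equiv
  exact Cfsg.Agent.TitsK.tdata.sheet_of_equiv ⟨e.trans e'⟩

/-- **`RowsTwo.tits`** -/
theorem row (h1173 : Start.P1173.{u}) (hFT : FTT.{u}) (hse : PSE.{u}) :
    Cut.Row1.{u} (fun K _ => Lie.IsoTits K) :=
  row_of_sheet h1173 hFT hse fun _ _ _ _ h => sheet h

end Cfsg.Agent.OddHalf.D4.Spor.Tits

end

-- merged: Cfsg.Agent.KFacts.En.Dir
section

/-!
The height function on the root lattice (compatible with the order of the tables) and the unipotent filtration.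

* `ht D l` : an additive function with `ht a ≠ 0` on roots, `lt_iff_ht`, `pos_iff_ht`;
* `UP h a` : the group generated by the root elements of the roots `b` with `ht b > ht a`;
* `eq_zero_of_mem_UP`, `dir` : independence.
-/

set_option autoImplicit false
set_option linter.unusedSectionVars false

namespace Cfsg.Agent.KFacts.En.Dir

open Cfsg.Lie Cfsg.Agent.ChevalleyStructure Cfsg.Agent.ChevalleyStructure.Elts
  Cfsg.Agent.ChevalleyStructure.RootVec Cfsg.Agent.ChevalleyStructure.RootVecTab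
  Cfsg.Agent.ChevalleyStructure.UnipProd
  Cfsg.Agent.ChevalleyStructure.CoxeterGeom Cfsg.Agent.ChevalleyStructure.CoxeterGeomTypes
  Cfsg.Agent.Nodes.RGDChev Cfsg.Agent.Tits.Roots Cfsg.Agent.Tits.Core Cfsg.Agent.KFacts.En.Tab
  Cfsg.Agent.KFacts.En.Roots Cfsg.Agent.KFacts.En.Rel
open scoped commutatorElement

universe u

variable {D : ChevalleyDatum} {l : ℕ} {M : CoxeterMatrix (Fin l)} {F : Type u} [Field F]

/-- the height function -/
def ht (l : ℕ) : (Fin l → ℤ) →+ ℤ where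
  toFun x := ∑ k : Fin l, x k * 64 ^ (l - 1 - (k : ℕ))
  map_zero' := by simp
  map_add' x y := by
    rw [← Finset.sum_add_distrib]
    exact Finset.sum_congr rfl fun k _ => by rw [Pi.add_apply]; ring

theorem ht_apply (x : Fin l → ℤ) : ht l x = ∑ k : Fin l, x k * 64 ^ (l - 1 - (k : ℕ)) := rfl

theorem digits_sum (n : ℕ) : ∀ x : ℕ, x < 64 ^ n → x = ∑ j ∈ Finset.range n, dig x j * 64 ^ j := by
  induction n with
  | zero => intro x hx; simp at hx; simp [hx]
  | succ n ih =>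
    intro x hx
    rw [Finset.sum_range_succ', dig_zero, pow_zero, mul_one]
    have h1 : ∑ k ∈ Finset.range n, dig x (k + 1) * 64 ^ (k + 1) = 64 * (x / 64) := by
      conv_rhs => rw [ih (x / 64) (by rw [Nat.div_lt_iff_lt_mul (by norm_num)]; rwa [pow_succ] at hx)]
      rw [Finset.mul_sum]
      refine Finset.sum_congr rfl fun k _ => ?_
      rw [dig_succ, pow_succ]
      ring
    rw [h1]
    omega

theorem code_eq_ht (h : Ty D l M) {r : ℕ} (hr : r < D.nroots) :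
    (code D r : ℤ) = ht l (vec D l r) + ∑ k : Fin l, 8 * 64 ^ (l - 1 - (k : ℕ)) := by
  have h1 : (code D r : ℤ) = ∑ j ∈ Finset.range l, (dig (code D r) j : ℤ) * 64 ^ j := by
    have h2 := digits_sum D.rank (code D r) (code_lt r)
    rw [h.ty.rank_eq] at h2
    exact_mod_cast h2
  rw [h1, ← Finset.sum_range_reflect, ht_apply, ← Finset.sum_add_distrib,
    ← Fin.sum_univ_eq_sum_range (fun j => (dig (code D r) (l - 1 - j) : ℤ) * 64 ^ (l - 1 - j))]
  refine Finset.sum_congr rfl fun k _ => ?_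
  have h2 : vec D l r k = (dig (code D r) (l - 1 - (k : ℕ)) : ℤ) - 8 := by
    rw [vec_apply, rt_of_lt hr (lt_rank h.ty k), h.ty.rank_eq]
  rw [h2]
  ring

theorem lt_iff_ht (h : Ty D l M) {r s : ℕ} (hr : r < D.nroots) (hs : s < D.nroots) :
    r < s ↔ ht l (vec D l r) < ht l (vec D l s) := by
  rw [← code_lt_iff h.ty.checked hr hs]
  have h1 := code_eq_ht h hr
  have h2 := code_eq_ht h hs
  constructor
  · intro h3
    have h4 : (code D r : ℤ) < code D s := by exact_mod_cast h3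
    omega
  · intro h3
    have h4 : (code D r : ℤ) < code D s := by omega
    exact_mod_cast h4

theorem pos_iff_ht (h : Ty D l M) {r : ℕ} (hr : r < D.nroots) : D.IsPosRoot r ↔ 0 < ht l (vec D l r) := by
  have hn := neg_lt h.ty.checked hr
  rw [isPosRoot_iff_index h.ty.checked hr, lt_iff_ht h hn hr, vec_neg h.ty hr, map_neg]
  omega

theorem ht_ne_zero (h : Ty D l M) {x : Fin l → ℤ} (hx : x ∈ Phi D l) : ht l x ≠ 0 := by
  obtain ⟨r, hr, rfl⟩ := hx
  intro h0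
  have h1 : ¬ D.IsPosRoot r := fun h2 => by rw [pos_iff_ht h hr] at h2; omega
  have h2 : ¬ D.IsPosRoot (D.neg r) := fun h2 => by
    rw [pos_iff_ht h (neg_lt h.ty.checked hr), vec_neg h.ty hr, map_neg] at h2; omega
  rcases pos_or_neg h.ty.checked hr with h3 | h3
  · exact h1 h3
  · exact h2 ((isPosRoot_neg_iff h.ty.checked hr).2 h3)

theorem eq_of_ht (h : Ty D l M) {x y : Fin l → ℤ} (hx : x ∈ Phi D l) (hy : y ∈ Phi D l) (e : ht l x = ht l y) :
    x = y := by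
  obtain ⟨r, hr, rfl⟩ := hx
  obtain ⟨s, hs, rfl⟩ := hy
  rcases lt_trichotomy r s with h1 | h1 | h1
  · rw [lt_iff_ht h hr hs] at h1; omega
  · rw [h1]
  · rw [lt_iff_ht h hs hr] at h1; omega

/-- the sign of the coordinates -/
theorem coord_nonneg (h : Ty D l M) {x : Fin l → ℤ} (hx : x ∈ Phi D l) (h0 : 0 < ht l x) (i : Fin l) : 0 ≤ x i := by
  obtain ⟨r, hr, rfl⟩ := hx
  have h1 := (pos_iff_ht h hr).2 h0
  rw [isPosRoot_iff h.ty.checked] at h1
  exact h1.2 i (lt_rank h.ty i)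

theorem ht_sr_pos (h : Ty D l M) (i : Fin l) : 0 < ht l (sr i) := by
  have hr := simple_lt h.ty.checked (lt_rank h.ty i)
  have h1 := simple_pos h.ty.checked (lt_rank h.ty i)
  rw [pos_iff_ht h hr, vec_simple h.ty i] at h1
  exact h1

/-- the group generated by the root elements of the roots above `a` -/
def UP (h : Ty D l M) (F : Type u) [Field F] (a : Fin l → ℤ) : Subgroup (GL D.Idx F) :=
  Subgroup.closure {g | ∃ b ∈ Phi D l, ht l a < ht l b ∧ ∃ t : F, g = xe h b t}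

theorem xe_mem_UP (h : Ty D l M) {a b : Fin l → ℤ} (hb : b ∈ Phi D l) (hab : ht l a < ht l b) (t : F) :
    xe h b t ∈ UP h F a := Subgroup.subset_closure ⟨b, hb, hab, t, rfl⟩

theorem UP_le_iff (h : Ty D l M) {a : Fin l → ℤ} (K : Subgroup (GL D.Idx F)) :
    UP h F a ≤ K ↔ ∀ b ∈ Phi D l, ht l a < ht l b → ∀ t : F, xe h b t ∈ K := by
  constructor
  · intro h1 b hb hab t
    exact h1 (xe_mem_UP h hb hab t)
  · intro h1
    refine (Subgroup.closure_le _).2 ?_
    rintro g ⟨b, hb, hab, t, rfl⟩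
    exact h1 b hb hab t

theorem UP_anti (h : Ty D l M) {a b : Fin l → ℤ} (hab : ht l a ≤ ht l b) : UP h F b ≤ UP h F a :=
  (UP_le_iff h _).2 fun _ hc hbc t => xe_mem_UP h hc (lt_of_le_of_lt hab hbc) t

/-- in terms of the tables -/
theorem UP_vec (h : Ty D l M) {r : ℕ} (hr : D.IsPosRoot r) : UP h F (vec D l r) = unipGE D F (r + 1) := by
  have hr0 := (pos_iff_ht h hr.1).1 hr
  apply le_antisymm
  · refine (UP_le_iff h _).2 ?_
    rintro b ⟨s, hs, rfl⟩ hab t
    rw [xe_vec h hs]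
    exact xG_mem_unipGE h.ty.inList ((pos_iff_ht h hs).2 (by omega)) ((lt_iff_ht h hr.1 hs).2 hab) t
  · refine (unipGE_le_iff h.ty.inList _ _).2 fun s hs hrs t => ?_
    rw [← xe_vec h hs.1 (l := l)]
    exact xe_mem_UP h (vec_mem hs.1) ((lt_iff_ht h hr.1 hs.1).1 hrs) t

/-- the whole unipotent group -/
theorem UP_zero (h : Ty D l M) : UP h F 0 = D.posUnipotent F := by
  apply le_antisymm
  · refine (UP_le_iff h _).2 ?_
    rintro b ⟨s, hs, rfl⟩ hab t
    rw [map_zero] at hab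
    rw [xe_vec h hs]
    exact xG_mem_posUnipotent h.ty.inList ((pos_iff_ht h hs).2 hab) t
  · refine (posUnipotent_le_iff h.ty.inList _).2 fun s hs t => ?_
    rw [← xe_vec h hs.1 (l := l)]
    exact xe_mem_UP h (vec_mem hs.1) (by rw [map_zero]; exact (pos_iff_ht h hs.1).1 hs) t

theorem eq_zero_of_mem_unipGE (h : Ty D l M) {r : ℕ} (hr : D.IsPosRoot r) {t : F}
    (ht' : xG h.ty.inList r t ∈ unipGE D F (r + 1)) : t = 0 := by
  have hr2 : D.nroots / 2 ≤ r := ((UnipOrd.isPosRoot_iff h.ty.inList r).1 hr).1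
  obtain ⟨t', h1, h2⟩ := exists_prod h.ty.inList (k := r + 1) (by omega) ht'
  have h3 : wordG h.ty.inList ((rootsGE D r).map fun s => (s, if s = r then t else 0)) =
      wordG h.ty.inList ((rootsGE D r).map fun s => (s, t' s)) := by
    rw [rootsGE_cons hr.1, List.map_cons, List.map_cons, wordG_cons, wordG_cons]
    show xG h.ty.inList r (if r = r then t else 0) * _ = xG h.ty.inList r (t' r) * _
    rw [if_pos rfl, h1 r (by omega), xG_zero, one_mul, ← h2]
    have h4 : ∀ w : List (ℕ × F), (∀ p ∈ w, p.2 = 0) → wordG h.ty.inList w = 1 := by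
      intro w
      induction w with
      | nil => intro _; rfl
      | cons p w ih =>
        intro hw
        rw [wordG_cons, ih fun q hq => hw q (List.mem_cons_of_mem _ hq), mul_one, hw p List.mem_cons_self, xG_zero]
    rw [h4, mul_one]
    intro p hp
    obtain ⟨s, hs, rfl⟩ := List.mem_map.1 hp
    have := (List.Ico.mem.1 hs).1
    show (if s = r then t else 0) = 0
    rw [if_neg (by omega)]
  have h5 := prod_injective h.ty.inList hr2 h3 r le_rfl hr.1
  rw [if_pos rfl, h1 r (by omega)] at h5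
  exact h5

end Cfsg.Agent.KFacts.En.Dir

end

-- merged: Cfsg.Agent.OddHalf.D4.En2.FlM
section

/-!
# ODD, D4, `E_n(2)`: the diagram automorphisms

* `FlM M A τ` : `τ r = r ∘ σ⁻¹` for a symmetry `σ` of the diagram;
* `flOK_E6`, `flOK_E7`, `flOK_E8`.
-/

set_option autoImplicit false
set_option linter.unusedSectionVars false

namespace Cfsg.Agent.OddHalf.D4.En2.FlM

open CoxeterSystem Cfsg.Lie Cfsg.Agent.ChevalleyStructure.CoxeterGeom Cfsg.Agent.Tits.Roots Cfsg.Agent.Tits.Core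
  Cfsg.Agent.Nodes.Reps Cfsg.Agent.OddHalf.SL.Index Cfsg.Agent.OddHalf.SL.Defs

section

variable {I W : Type*} [Fintype I] [DecidableEq I] [Group W] {M : CoxeterMatrix I}
  {cs : CoxeterSystem M W} {A : I → I → ℤ} {h : IsCartan M A}

/-- the diagram automorphisms of the root lattice -/
def FlM {I : Type*} (M : CoxeterMatrix I) (A : I → I → ℤ) (τ : (I → ℤ) →+ (I → ℤ)) : Prop :=
  ∃ σ : Equiv.Perm I, (∀ i j, M (σ i) (σ j) = M i j) ∧ (∀ i j, A (σ i) (σ j) = A i j) ∧ ∀ r, τ r = r ∘ σ.symm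

theorem isRoot_comp {σ : Equiv.Perm I} (hσ : ∀ i j, M (σ i) (σ j) = M i j) (hA : ∀ i j, A (σ i) (σ j) = A i j)
    {c : I → ℤ} (hc : IsRoot cs h c) : IsRoot cs h (c ∘ σ.symm) := by
  obtain ⟨w, i, rfl⟩ := hc
  refine ⟨Cfsg.Agent.KFacts.RgdDiag.hat cs σ hσ w, σ i, ?_⟩
  rw [← Cfsg.Agent.KFacts.RgdDiag.rep_hat hσ hA, Cfsg.Agent.KFacts.RgdDiag.sr_comp]

/-- `FlOK` from the list of symmetries -/
theorem flOK {ht : (I → ℤ) →+ ℤ} (htp : ∀ x, IsRoot cs h x → (0 < ht x ↔ 0 ≤ x)) (f : I → I)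
    (hcl : ∀ σ : Equiv.Perm I, (∀ i j, M (σ i) (σ j) = M i j) → (∀ i, σ i = i) ∨ ∀ i, σ i = f i)
    (hff : ∀ i, f (f i) = i) {ρ : I → ℤ}
    (hcount : (∃ i, f i ≠ i) → 8 < {t | t ∈ {x | IsRoot cs h x} ∧ Bf A t ρ = 1 ∧ t ∘ f ≠ t}.ncard) :
    FlOK (Bf A) {x | IsRoot cs h x} ht ρ (FlM M A) := by
  have hsymm : ∀ σ : Equiv.Perm I, (∀ i, σ i = f i) → ∀ i, σ.symm i = f i := by
    intro σ h1 i
    apply σ.injective
    rw [Equiv.apply_symm_apply, h1, hff]
  constructor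
  · rintro τ ⟨σ, hσ, hA, hτ⟩ c ⟨hc, hc0⟩
    rw [hτ]
    have h1 := isRoot_comp (h := h) hσ hA hc
    refine ⟨h1, (htp _ h1).2 ?_⟩
    intro i
    exact (htp c hc).1 hc0 (σ.symm i)
  · rintro τ ⟨σ, -, -, hτ⟩ c d hcd
    rw [hτ, hτ] at hcd
    funext i
    have := congrFun hcd (σ i)
    simpa using this
  · rintro τ ⟨σ, hσ, -, hτ⟩
    rcases hcl σ hσ with h1 | h1
    · left
      intro c _
      rw [hτ]
      funext i
      show c (σ.symm i) = c i
      congr 1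
      rw [Equiv.symm_apply_eq]; exact (h1 i).symm
    · by_cases hex : ∃ i, f i ≠ i
      · right
        have e : {t | t ∈ {x | IsRoot cs h x} ∧ Bf A t ρ = 1 ∧ τ t ≠ t} =
            {t | t ∈ {x | IsRoot cs h x} ∧ Bf A t ρ = 1 ∧ t ∘ f ≠ t} := by
          ext t
          have : τ t = t ∘ f := by
            rw [hτ]
            funext i
            show t (σ.symm i) = t (f i)
            rw [hsymm σ h1 i]
          constructor
          · rintro ⟨a, b, c⟩
            exact ⟨a, b, by rw [← this]; exact c⟩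
          · rintro ⟨a, b, c⟩
            exact ⟨a, b, by rw [this]; exact c⟩
        rw [e]
        exact hcount hex
      · left
        push Not at hex
        intro c _
        rw [hτ]
        funext i
        show c (σ.symm i) = c i
        rw [hsymm σ h1 i, hex i]
  · rintro τ τ' ⟨σ, hσ, -, hτ⟩ ⟨σ', hσ', -, hτ'⟩ n1 n2 c _
    have key : ∀ (τ : (I → ℤ) →+ (I → ℤ)) (σ : Equiv.Perm I), (∀ i j, M (σ i) (σ j) = M i j) →
        (∀ r, τ r = r ∘ σ.symm) → (¬ ∀ c ∈ {x | IsRoot cs h x}, τ c = c) → ∀ i, σ.symm i = f i := by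
      intro τ σ hσ hτ hn
      rcases hcl σ hσ with h1 | h1
      · exfalso
        apply hn
        intro c _
        rw [hτ]
        funext i
        show c (σ.symm i) = c i
        congr 1
        rw [Equiv.symm_apply_eq]; exact (h1 i).symm
      · exact hsymm σ h1
    rw [hτ', hτ]
    funext i
    show c (σ'.symm (σ.symm i)) = c i
    rw [key τ σ hσ hτ n1, key τ' σ' hσ' hτ' n2, hff]

end

/-! ### Exceptional types -/

open Cfsg.Agent.KFacts.SLRow.Diag

/-- the flip -/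
def fl6 : Fin 6 → Fin 6 := ![5, 1, 4, 3, 2, 0]

theorem sym_E6 (σ : Equiv.Perm (Fin 6)) (hσ : ∀ i j, CoxeterMatrix.E₆ (σ i) (σ j) = CoxeterMatrix.E₆ i j) :
    (∀ i, σ i = i) ∨ ∀ i, σ i = fl6 i := by
  have hm : ∀ i j, m6 i j = 3 → m6 (σ i) (σ j) = 3 := fun i j h => (hσ i j).trans h
  have hi : ∀ i j, i ≠ j → σ i ≠ σ j := fun i j h => σ.injective.ne h
  rcases e6 (σ 3) (σ 1) (hm 1 3 rfl) (σ 2) (hm 2 3 rfl) (hi _ _ (by decide)) (σ 4) (hm 4 3 rfl) (hi _ _ (by decide))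
    (hi _ _ (by decide)) (σ 0) (hm 0 2 rfl) (hi _ _ (by decide)) (σ 5) (hm 5 4 rfl) (hi _ _ (by decide)) with h | h
  · left
    intro i
    fin_cases i
    · exact h.1
    · exact h.2.1
    · exact h.2.2.1
    · exact h.2.2.2.1
    · exact h.2.2.2.2.1
    · exact h.2.2.2.2.2
  · right
    intro i
    fin_cases i
    · exact h.1
    · exact h.2.1
    · exact h.2.2.1
    · exact h.2.2.2.1
    · exact h.2.2.2.2.1
    · exact h.2.2.2.2.2

theorem sym_E7 (σ : Equiv.Perm (Fin 7)) (hσ : ∀ i j, CoxeterMatrix.E₇ (σ i) (σ j) = CoxeterMatrix.E₇ i j) (i : Fin 7) :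
    σ i = i := by
  have hm : ∀ i j, m7 i j = 3 → m7 (σ i) (σ j) = 3 := fun i j h => (hσ i j).trans h
  have hi : ∀ i j, i ≠ j → σ i ≠ σ j := fun i j h => σ.injective.ne h
  have h := e7 (σ 3) (σ 1) (hm 1 3 rfl) (σ 2) (hm 2 3 rfl) (hi _ _ (by decide)) (σ 4) (hm 4 3 rfl) (hi _ _ (by decide))
    (hi _ _ (by decide)) (σ 0) (hm 0 2 rfl) (hi _ _ (by decide)) (σ 5) (hm 5 4 rfl) (hi _ _ (by decide))
    (σ 6) (hm 6 5 rfl) (hi _ _ (by decide))
  fin_cases i
  · exact h.1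
  · exact h.2.1
  · exact h.2.2.1
  · exact h.2.2.2.1
  · exact h.2.2.2.2.1
  · exact h.2.2.2.2.2.1
  · exact h.2.2.2.2.2.2

theorem sym_E8 (σ : Equiv.Perm (Fin 8)) (hσ : ∀ i j, CoxeterMatrix.E₈ (σ i) (σ j) = CoxeterMatrix.E₈ i j) (i : Fin 8) :
    σ i = i := by
  have hm : ∀ i j, m8 i j = 3 → m8 (σ i) (σ j) = 3 := fun i j h => (hσ i j).trans h
  have hi : ∀ i j, i ≠ j → σ i ≠ σ j := fun i j h => σ.injective.ne h
  have h := e8 (σ 3) (σ 1) (hm 1 3 rfl) (σ 2) (hm 2 3 rfl) (hi _ _ (by decide)) (σ 4) (hm 4 3 rfl) (hi _ _ (by decide))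
    (hi _ _ (by decide)) (σ 0) (hm 0 2 rfl) (hi _ _ (by decide)) (σ 5) (hm 5 4 rfl) (hi _ _ (by decide))
    (σ 6) (hm 6 5 rfl) (hi _ _ (by decide)) (σ 7) (hm 7 6 rfl) (hi _ _ (by decide))
  fin_cases i
  · exact h.1
  · exact h.2.1
  · exact h.2.2.1
  · exact h.2.2.2.1
  · exact h.2.2.2.2.1
  · exact h.2.2.2.2.2.1
  · exact h.2.2.2.2.2.2.1
  · exact h.2.2.2.2.2.2.2

variable {W : Type*} [Group W]

theorem flOK_E7 {cs : CoxeterSystem CoxeterMatrix.E₇ W} {A : Fin 7 → Fin 7 → ℤ} {h : IsCartan CoxeterMatrix.E₇ A}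
    {ht : (Fin 7 → ℤ) →+ ℤ} (htp : ∀ x, IsRoot cs h x → (0 < ht x ↔ 0 ≤ x)) {ρ : Fin 7 → ℤ} :
    FlOK (Bf A) {x | IsRoot cs h x} ht ρ (FlM CoxeterMatrix.E₇ A) :=
  flOK htp id (fun σ hσ => Or.inl (sym_E7 σ hσ)) (fun _ => rfl) (fun ⟨_, hi⟩ => absurd rfl hi)

theorem flOK_E8 {cs : CoxeterSystem CoxeterMatrix.E₈ W} {A : Fin 8 → Fin 8 → ℤ} {h : IsCartan CoxeterMatrix.E₈ A}
    {ht : (Fin 8 → ℤ) →+ ℤ} (htp : ∀ x, IsRoot cs h x → (0 < ht x ↔ 0 ≤ x)) {ρ : Fin 8 → ℤ} :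
    FlOK (Bf A) {x | IsRoot cs h x} ht ρ (FlM CoxeterMatrix.E₈ A) :=
  flOK htp id (fun σ hσ => Or.inl (sym_E8 σ hσ)) (fun _ => rfl) (fun ⟨_, hi⟩ => absurd rfl hi)

/-! ### `E₆` -/

section E6

open Cfsg.Agent.ChevalleyStructure Cfsg.Agent.ChevalleyStructure.RootVec Cfsg.Agent.ChevalleyStructure.RootVecTab
  Cfsg.Agent.ChevalleyStructure.CoxeterGeomTypes Cfsg.Agent.Nodes.RGDChev Cfsg.Agent.KFacts.En.Roots
  Cfsg.Agent.KFacts.En.Tab

/-- the flip on indices -/
def flN (k : ℕ) : ℕ := if k = 0 then 5 else if k = 2 then 4 else if k = 4 then 2 else if k = 5 then 0 else k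

/-- moved roots with coefficient one at the second simple root -/
def chkMv (r : ℕ) : Bool :=
  Nat.beq (dig (code chevE6 r) 4) 9 &&
    anyLT (fun k => !(Nat.beq (dig (code chevE6 r) (5 - k)) (dig (code chevE6 r) (5 - flN k)))) 6

theorem len_Mv : ((List.range 72).filter chkMv).length = 12 := by decide +kernel

theorem nroots_E6 : chevE6.nroots = 72 := by decide +kernel

theorem rank_E6 : chevE6.rank = 6 := by decide +kernel

/-- the pairings of the highest root -/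
theorem cart_E6 : allLT (fun k => Nat.beq (cart chevE6 k 71) (if k = 1 then 9 else 8)) 6 = true := by decide +kernel

theorem cartan_E6 {k : ℕ} (hk : k < 6) : chevE6.cartan k 71 = if k = 1 then 1 else 0 := by
  have h1 := cart_E6
  simp only [allLT_iff, beq_iff] at h1
  rw [cartan_eq_cart ty_E6.ty.checked (by rw [rank_E6]; exact hk) (by rw [nroots_E6]; norm_num), h1 k hk]
  by_cases h2 : k = 1
  · rw [if_pos h2, if_pos h2]; norm_num
  · rw [if_neg h2, if_neg h2]; norm_num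

theorem bf_ρ (r : ℕ) : bf chevE6 6 (vec chevE6 6 r) (vec chevE6 6 71) = rt chevE6 r 1 := by
  rw [bf_vec ty_E6.ty (by rw [nroots_E6]; norm_num), rank_E6]
  rw [Finset.sum_eq_single 1]
  · rw [cartan_E6 (by norm_num), if_pos rfl, mul_one]
  · intro k hk h1
    rw [cartan_E6 (Finset.mem_range.mp hk), if_neg h1, mul_zero]
  · intro h1
    exact absurd (Finset.mem_range.mpr (by norm_num)) h1

theorem Bf_eq (x y : Fin 6 → ℤ) : Bf (cartanOf chevE6 6) x y = bf chevE6 6 x y := by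
  rw [bf_symm ty_E6]
  rfl

theorem count_E6 (cs : CoxeterSystem CoxeterMatrix.E₆ W) :
    8 < {t | t ∈ {x | IsRoot cs ty_E6.ty.isCartan x} ∧ Bf (cartanOf chevE6 6) t (vec chevE6 6 71) = 1 ∧
      t ∘ fl6 ≠ t}.ncard := by
  classical
  have hroots : {x | IsRoot cs ty_E6.ty.isCartan x} = Phi chevE6 6 := by
    ext x
    exact isRoot_iff ty_E6.ty cs x
  have hfin : {t | t ∈ {x | IsRoot cs ty_E6.ty.isCartan x} ∧ Bf (cartanOf chevE6 6) t (vec chevE6 6 71) = 1 ∧
      t ∘ fl6 ≠ t}.Finite := by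
    rw [hroots]
    exact finite_Phi.subset fun x hx => hx.1
  have hnd : ((List.range 72).filter chkMv).Nodup := List.nodup_range.filter _
  let S : Finset ℕ := ((List.range 72).filter chkMv).toFinset
  have hS : S.card = 12 := by
    rw [List.toFinset_card_of_nodup hnd, len_Mv]
  have hSm : ∀ r ∈ S, r < 72 ∧ chkMv r = true := by
    intro r hr
    rw [List.mem_toFinset, List.mem_filter, List.mem_range] at hr
    exact hr
  have hsub : ((S.image (vec chevE6 6) : Finset (Fin 6 → ℤ)) : Set (Fin 6 → ℤ)) ⊆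
      {t | t ∈ {x | IsRoot cs ty_E6.ty.isCartan x} ∧ Bf (cartanOf chevE6 6) t (vec chevE6 6 71) = 1 ∧
        t ∘ fl6 ≠ t} := by
    intro t ht
    rw [Finset.mem_coe, Finset.mem_image] at ht
    obtain ⟨r, hr, rfl⟩ := ht
    obtain ⟨h1, h2⟩ := hSm r hr
    have hr' : r < chevE6.nroots := by rw [nroots_E6]; exact h1
    simp only [chkMv, Bool.and_eq_true, beq_iff, anyLT_iff, Bool.not_eq_true'] at h2
    obtain ⟨h3, k, hk, h4⟩ := h2
    have hrt : ∀ k : ℕ, k < 6 → rt chevE6 r k = (dig (code chevE6 r) (5 - k) : ℤ) - 8 := by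
      intro k hk
      rw [rt_of_lt hr' (by rw [rank_E6]; exact hk), rank_E6]
    refine ⟨?_, ?_, ?_⟩
    · rw [hroots]; exact vec_mem hr'
    · rw [Bf_eq, bf_ρ, hrt 1 (by norm_num)]
      have : dig (code chevE6 r) (5 - 1) = 9 := h3
      rw [this]; norm_num
    · intro h5
      have h6 := congrFun h5 ⟨k, hk⟩
      have h7 : rt chevE6 r (fl6 ⟨k, hk⟩ : Fin 6) = rt chevE6 r k := h6
      have h8 : ((fl6 ⟨k, hk⟩ : Fin 6) : ℕ) = flN k := by
        interval_cases k <;> rfl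
      rw [h8, hrt k hk, hrt (flN k) (by rw [← h8]; exact Fin.is_lt _)] at h7
      have h9 : dig (code chevE6 r) (5 - k) = dig (code chevE6 r) (5 - flN k) := by omega
      rw [← h9] at h4
      rw [Nat.beq_refl] at h4
      exact absurd h4 (by decide)
  have h1 := Set.ncard_le_ncard hsub hfin
  rw [Set.ncard_coe_finset, Finset.card_image_of_injOn, hS] at h1
  · omega
  · intro r hr s hs hrs
    exact vec_inj ty_E6.ty (by rw [nroots_E6]; exact (hSm r hr).1) (by rw [nroots_E6]; exact (hSm s hs).1) hrs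

theorem flOK_E6 {cs : CoxeterSystem CoxeterMatrix.E₆ W} {ht : (Fin 6 → ℤ) →+ ℤ}
    (htp : ∀ x, IsRoot cs ty_E6.ty.isCartan x → (0 < ht x ↔ 0 ≤ x)) :
    FlOK (Bf (cartanOf chevE6 6)) {x | IsRoot cs ty_E6.ty.isCartan x} ht (vec chevE6 6 71)
      (FlM CoxeterMatrix.E₆ (cartanOf chevE6 6)) :=
  flOK htp fl6 sym_E6 (by decide) fun _ => count_E6 cs

/-- `vec chevE6 6 71` is a dominant root -/
theorem dom_E6 {r : ℕ} (h0 : ∀ k < 6, 0 ≤ rt chevE6 r k) :
    0 ≤ Bf (cartanOf chevE6 6) (vec chevE6 6 71) (vec chevE6 6 r) := by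
  rw [Bf_eq, bf_symm ty_E6, bf_ρ]
  exact h0 1 (by norm_num)

theorem pos_E6 {k : ℕ} (hk : k < 6) : 0 ≤ rt chevE6 71 k := by
  have h1 : allLT (fun k => Nat.ble 8 (dig (code chevE6 71) (5 - k))) 6 = true := by decide +kernel
  simp only [allLT_iff, ble_iff] at h1
  rw [rt_of_lt (by rw [nroots_E6]; norm_num) (by rw [rank_E6]; exact hk), rank_E6]
  have := h1 k hk
  have e : 6 - 1 - k = 5 - k := by omega
  rw [e]
  omega

end E6

end Cfsg.Agent.OddHalf.D4.En2.FlM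

end

-- merged: Cfsg.Agent.OddHalf.D4.En2.Row
section

/-!
# ODD, D4: the rows `E_6(2)`, `E_7(2)`, `E_8(2)`
-/

set_option autoImplicit false
set_option linter.unusedSectionVars false

namespace Cfsg.Agent.OddHalf.D4.En2.Row

universe u

open CoxeterSystem Cfsg.Lie Cfsg.Agent.ChevalleyStructure Cfsg.Agent.ChevalleyStructure.Elts
  Cfsg.Agent.ChevalleyStructure.RootVec Cfsg.Agent.ChevalleyStructure.RootVecTab
  Cfsg.Agent.ChevalleyStructure.CoxeterGeom Cfsg.Agent.ChevalleyStructure.CoxeterGeomTypes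
  Cfsg.Agent.Tits.Roots Cfsg.Agent.Tits.Core Cfsg.Agent.Nodes.Reps Cfsg.Agent.Nodes.BNOf
  Cfsg.Agent.Nodes.RGDChev Cfsg.Agent.KFacts.SLRow.Def Cfsg.Agent.OddHalf.SL.Index
  Cfsg.Agent.KFacts.En.Roots Cfsg.Agent.KFacts.En.Dir Cfsg.Agent.Nodes.Bruhat Cfsg.Agent.KFacts.RgdPar
  Cfsg.Agent.Nodes

section

variable {D : ChevalleyDatum} {l : ℕ} {M : CoxeterMatrix (Fin l)}

/-- positivity and heights -/
theorem htp (h : Ty D l M) {W : Type*} [Group W] (cs : CoxeterSystem M W) (x : Fin l → ℤ)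
    (hx : IsRoot cs h.ty.isCartan x) : 0 < ht l x ↔ 0 ≤ x := by
  obtain ⟨r, hr, rfl⟩ := (isRoot_iff h.ty cs x).1 hx
  rw [← pos_iff_ht h hr, isPosRoot_iff h.ty.checked]
  constructor
  · intro h1 i
    exact h1.2 i (lt_rank h.ty i)
  · intro h1
    refine ⟨hr, fun i hi => ?_⟩
    rw [h.ty.rank_eq] at hi
    exact h1 ⟨i, hi⟩

/-- the last root of the table is dominant -/
theorem high (h : Ty D l M) (hl : 0 < D.nroots)
    (hdom : allLT (fun k => Nat.ble 8 (cart D k (D.nroots - 1))) D.rank = true) {W : Type*} [Group W]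
    (cs : CoxeterSystem M W) (c : Fin l → ℤ) (hc : IsRoot cs h.ty.isCartan c) (h0 : 0 < ht l c) :
    0 ≤ Bf (cartanOf D l) c (vec D l (D.nroots - 1)) := by
  have e : Bf (cartanOf D l) c (vec D l (D.nroots - 1)) = bf D l c (vec D l (D.nroots - 1)) := by
    rw [bf_symm h]; rfl
  rw [e]
  unfold bf
  have hn : D.nroots - 1 < D.nroots := by omega
  refine Finset.sum_nonneg fun i _ => mul_nonneg ((htp h cs c hc).1 h0 i) ?_
  rw [pairing_vec h.ty i hn, cartan_eq_cart h.ty.checked (lt_rank h.ty i) hn]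
  simp only [allLT_iff, ble_iff] at hdom
  have := hdom i (lt_rank h.ty i)
  omega

theorem center_eq_bot (hD : D ∈ [chevD4, chevF4, chevE6, chevE7, chevE8]) (K : Type) [Field K] [Finite K] :
    Subgroup.center ↥(D.group K) = ⊥ := by
  obtain ⟨hs, hna⟩ := Cfsg.Agent.S1054.result (F := K) D hD
  rcases (inferInstance : (Subgroup.center ↥(D.group K)).Normal).eq_bot_or_eq_top with h | h
  · exact h
  · exfalso
    apply hna
    refine ⟨⟨fun a b => ?_⟩⟩
    have : b ∈ Subgroup.center ↥(D.group K) := by rw [h]; exact Subgroup.mem_top b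
    rw [Subgroup.mem_center_iff] at this
    exact this a

/-- **No configuration in `D.group K`, `|K| = 2`.** -/
theorem noConf (h : Ty D l M) (hD : D ∈ [chevD4, chevF4, chevE6, chevE7, chevE8]) (h4 : ∀ i j, M i j ≠ 4)
    (h6 : ∀ i j, M i j ≠ 6) (hc : Conn M) (h3 : 3 ≤ l) (hOK : Cfsg.Agent.KFacts.ChevTwoInst.TwoOK D)
    (hq : QuadTab.chkQuad D = true) (hl : 0 < D.nroots)
    (hdom : allLT (fun k => Nat.ble 8 (cart D k (D.nroots - 1))) D.rank = true)
    (hFl : FlOK (Bf (cartanOf D l)) {x | IsRoot M.toCoxeterSystem h.ty.isCartan x} (ht l) (vec D l (D.nroots - 1))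
      (FlM.FlM M (cartanOf D l)))
    (K : Type) [Field K] [Finite K] [CharP K 2] (h2 : ∀ t : K, t = 0 ∨ t = 1) {α β : MulAut ↥(D.group K)}
    {D' N : Subgroup ↥(D.group K)} (hconf : Conf α β D' N) : False := by
  have : Fact (Nat.Prime 2) := ⟨Nat.prime_two⟩
  have hW : Finite M.Group := finite_W h.ty M.toCoxeterSystem
  have hfin : Finite ↥(D.group K) := inferInstance
  have S := Cfsg.Agent.KFacts.ChevTwoInst.sys (K := K) h.ty hOK M.toCoxeterSystem
  have hN := Cfsg.Agent.KFacts.RgdCent.noCent_of_center (rgd (K := K) h.ty M.toCoxeterSystem 2)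
    (G1_eq_top h.ty _) (center_eq_bot hD K)
  have hG : GG M.toCoxeterSystem h.ty.isCartan
      ((D.diagonalSubgroup K).subgroupOf (D.group K)) (fun x => (XV D l K x).subgroupOf (D.group K)) = ⊤ := by
    rw [eq_top_iff, ← G1_eq_top (K := K) h.ty M.toCoxeterSystem]
    exact RGD.Sup_le fun x hx => X_le_GG (X := fun x => (XV D l K x).subgroupOf (D.group K)) hx
  have hre := InstRE.re S h2 hN hG h4 h6 hc (by simpa using h3) (ht := ht l)
    (fun x hx => ht_ne_zero h ((isRoot_iff h.ty _ x).1 hx))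
    (fun x y hx hy => eq_of_ht h ((isRoot_iff h.ty _ x).1 hx) ((isRoot_iff h.ty _ y).1 hy))
    (htp h _) (QuadTab.quad h.ty hq h4 h6 hc (by omega) M.toCoxeterSystem)
  have hra := InstRE.ra S h2 hN hG h4 h6 (htp h _) hre
    ((isRoot_iff h.ty _ _).2 ⟨D.nroots - 1, by omega, rfl⟩) (high h hl hdom _)
  exact false_of_conf hre hra hconf hFl

end

/-- **A row of `Cut.lean` from `AutFacts` and "no configuration".** -/
theorem row_of_noConf (h1173 : Start.P1173.{u}) {P : (K : Type u) → [Group K] → Prop}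
    (hF : ∀ (X : Type u) [Group X] [Finite X] [IsSimpleGroup X], P X → AutFacts X)
    (hno : ∀ (X : Type u) [Group X] [Finite X] [IsSimpleGroup X], P X →
      ∀ (α β : MulAut X) (D N : Subgroup X), Conf α β D N → False) : Cut.Row1.{u} P := by
  apply Start.row_of_pair h1173 hF
  intro G _ hG K L Q U _ hD hp hP
  have := hG.fin
  have := hD.simple
  have hrL : Rk2 L := by
    obtain ⟨g, _, rfl⟩ := hp.conj
    exact hD.rk.cj g
  obtain ⟨y, hy, u, hu, hy2, hu2, hyu, hne⟩ := hrL.exists_syl hp.sylU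
  have hUK := hp.leU hD.loc.tight hD.loc.even
  exact hno ↥K hP _ _ _ _ (hp.conf hD.loc (hUK hy) (hUK hu) (hp.sylU.le hy) (hp.sylU.le hu) hy2 hu2 hyu hne)

theorem two_of_card {F : Type*} [Field F] [Fintype F] (h : Fintype.card F = 2) (a : F) : a = 0 ∨ a = 1 := by
  classical
  by_contra hcon
  push Not at hcon
  have h3 : ({0, 1, a} : Finset F).card ≤ Fintype.card F := Finset.card_le_univ _
  rw [h, Finset.card_insert_of_notMem (by
    simp only [Finset.mem_insert, Finset.mem_singleton, not_or]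
    exact ⟨zero_ne_one, hcon.1.symm⟩), Finset.card_insert_of_notMem (by
    simp only [Finset.mem_singleton]
    exact hcon.2.symm), Finset.card_singleton] at h3
  omega

theorem charP_of_card {F : Type*} [Field F] [Fintype F] (h : Fintype.card F = 2) : CharP F 2 := by
  have h1 : (2 : F) = 0 := by
    have := FiniteField.cast_card_eq_zero F
    rw [h] at this
    exact_mod_cast this
  exact CharTwo.of_one_ne_zero_of_two_eq_zero one_ne_zero h1

open Cfsg.Agent.KFacts.SLRow.Chev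

theorem row_e62 (h1173 : Start.P1173.{u}) : Cut.Row1.{u} (fun K _ => Cut.E62 K) := by
  apply row_of_noConf h1173
  · rintro X _ _ _ ⟨F, _, _, hF, ⟨e⟩⟩
    have := charP_of_card hF
    have h1 := isSL_E6 F
    rw [Nat.card_eq_fintype_card, hF] at h1
    exact Cfsg.Agent.KFacts.SLRow.Facts.autFacts (h1.of_equiv e.symm)
  · rintro X _ _ _ ⟨F, _, _, hF, ⟨e⟩⟩ α β D N hc
    have := charP_of_card hF
    exact noConf ty_E6 (by simp) (by intro i; fin_cases i <;> decide) (by intro i; fin_cases i <;> decide)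
      (conn_of_parent ![0, 3, 1, 2, 3, 4] ![0, 3, 0, 2, 3, 4] (by decide) (by decide) (by decide)) (by norm_num)
      Cfsg.Agent.KFacts.ChevTwoInst.twoOK_E6 QuadTab.chk_E6 (by decide +kernel) (by decide +kernel)
      (FlM.flOK_E6 (htp ty_E6 _)) F (two_of_card hF) (hc.map e)

theorem row_e72 (h1173 : Start.P1173.{u}) : Cut.Row1.{u} (fun K _ => Cut.E72 K) := by
  apply row_of_noConf h1173
  · rintro X _ _ _ ⟨F, _, _, hF, ⟨e⟩⟩
    have := charP_of_card hF
    have h1 := isSL_E7 F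
    rw [Nat.card_eq_fintype_card, hF] at h1
    exact Cfsg.Agent.KFacts.SLRow.Facts.autFacts (h1.of_equiv e.symm)
  · rintro X _ _ _ ⟨F, _, _, hF, ⟨e⟩⟩ α β D N hc
    have := charP_of_card hF
    exact noConf ty_E7 (by simp) (by intro i; fin_cases i <;> decide) (by intro i; fin_cases i <;> decide)
      (conn_of_parent ![0, 3, 1, 2, 3, 4, 5] ![0, 3, 0, 2, 3, 4, 5] (by decide) (by decide) (by decide)) (by norm_num)
      Cfsg.Agent.KFacts.ChevTwoInst.twoOK_E7 QuadTab.chk_E7 (by decide +kernel) (by decide +kernel)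
      (FlM.flOK_E7 (htp ty_E7 _)) F (two_of_card hF) (hc.map e)

theorem row_e82 (h1173 : Start.P1173.{u}) : Cut.Row1.{u} (fun K _ => Cut.E82 K) := by
  apply row_of_noConf h1173
  · rintro X _ _ _ ⟨F, _, _, hF, ⟨e⟩⟩
    have := charP_of_card hF
    have h1 := isSL_E8 F
    rw [Nat.card_eq_fintype_card, hF] at h1
    exact Cfsg.Agent.KFacts.SLRow.Facts.autFacts (h1.of_equiv e.symm)
  · rintro X _ _ _ ⟨F, _, _, hF, ⟨e⟩⟩ α β D N hc
    have := charP_of_card hF
    exact noConf ty_E8 (by simp) (by intro i; fin_cases i <;> decide) (by intro i; fin_cases i <;> decide)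
      (conn_of_parent ![0, 3, 1, 2, 3, 4, 5, 6] ![0, 3, 0, 2, 3, 4, 5, 6] (by decide) (by decide) (by decide))
      (by norm_num) Cfsg.Agent.KFacts.ChevTwoInst.twoOK_E8 QuadTab.chk_E8 (by decide +kernel) (by decide +kernel)
      (FlM.flOK_E8 (htp ty_E8 _)) F (two_of_card hF) (hc.map e)

end Cfsg.Agent.OddHalf.D4.En2.Row

end

-- merged: Cfsg.Agent.OddHalf.D4.TwF.Row
section

/-!
# ODD D4: the row `²F₄(q)`, `q ≥ 8`
-/

set_option autoImplicit false
set_option linter.unusedSectionVars false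

namespace Cfsg.Agent.OddHalf.D4.TwF.Row

open Cfsg Cfsg.Lie Subgroup Cfsg.Agent.KFacts.TwF4 Cfsg.Agent.OddHalf.D4.TwF.Pair
open Cfsg.Agent.OddHalf.D4 Cfsg.Agent.OddHalf.D4.Basic Cfsg.Agent.OddHalf.D4.EvenPair
open Cfsg.Agent.OddHalf.D7.Cases
open Cfsg.Agent.OddHalf.D4.CommConj (cj mem_cj cj_mul card_cj mem_cj_mul)

universe u v

/-- the base facts of a standard subgroup -/
theorem base_of_std {X : Type u} [Group X] {G : Type v} [Group G] [Finite G] {j : X →* G}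
    (hj : Function.Injective j) (hxf : XF X) (hK : IsStandardSubgroup j.range) (hne : j.range ≠ ⊥) :
    Base j.range where
  tight := tight_of_standard hK
  even := hK.2.1.1
  sf g := sf_cj hj hxf g
  nc g hc := by
    by_cases hg : cj g j.range = j.range
    · rw [hg] at hc
      apply hne
      rw [eq_bot_iff]
      intro x hx
      exact (sf_of_xf hj hxf).cen x hx (hc hx)
    · exact hK.2.2.1 g hg (commutator_eq_bot_iff_le_centralizer.2 hc)

/-- the inner condition in the form of `Exists` -/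
theorem inner_T {G : Type v} [Group G] [Finite G] {K : Subgroup G} (h : SF K) (T : Subgroup G)
    (hT : IsSyl T (normalizer (K : Set G))) (y : G) (hy : y ∈ T) (hc : ∀ s ∈ T, s ∈ K → s * y = y * s) :
    ∃ k ∈ centralizer (K : Set G), ∃ s ∈ T, s ∈ K ∧ (∀ u ∈ T, u ∈ K → u * s = s * u) ∧ y = k * s := by
  obtain ⟨n, hn⟩ := Pair.IsSyl.pow_two hT hy
  obtain ⟨s, hs, c, hc', e⟩ := exists_decomp (h.inner y (hT.le hy) ⟨n, hn⟩)
  have hsc : s * c = c * s := comm_of_cen hs hc'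
  have hTK : IsSyl (T ⊓ K) K := hT.inf le_normalizer hT.le
  have hsT : ∀ u ∈ T, u ∈ K → u * s = s * u := by
    intro u hu huK
    have h1 := hc u hu huK
    have h2 : u * c = c * u := comm_of_cen huK hc'
    rw [e] at h1
    have h3 : (u * s) * c = (s * u) * c := by
      calc (u * s) * c = u * (s * c) := by group
        _ = s * (c * u) := by rw [h1]; group
        _ = _ := by rw [← h2]; group
    exact mul_right_cancel h3
  have hs2 : s ^ 2 ^ n = 1 := by
    have h1 : Commute s c := hsc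
    have h2 : s ^ 2 ^ n * c ^ 2 ^ n = 1 * 1 := by rw [← h1.mul_pow, ← e, hn, one_mul]
    exact (decomp_unique h.cen (K.pow_mem hs _) ((centralizer (K : Set G)).pow_mem hc' _) K.one_mem
      (centralizer (K : Set G)).one_mem h2).1
  have hsm : s ∈ T ⊓ K := mem_syl_of_comm hTK hs ⟨n, hs2⟩ fun u hu => (hsT u hu.1 hu.2).symm
  exact ⟨c, hc', s, hsm.1, hs, hsT, by rw [e, hsc]⟩

theorem exists_pair {G : Type v} [Group G] [Finite G] [IsSimpleGroup G] (h1173 : H1173 G) {K : Subgroup G}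
    (hB : Base K) (hne : K ≠ ⊥) (hperf : ⁅K, K⁆ = K) : ∃ L A W : Subgroup G, PP K L A W := by
  have hSF : SF K := by have := hB.sf 1; rwa [cj_one] at this
  have hcomm : ∀ k ∈ K, ∀ c ∈ centralizer (K : Set G), k * c = c * k :=
    fun k hk c hc => mem_centralizer_iff.mp hc k hk
  obtain ⟨g, hg, r, hr, hr2, hrg⟩ := exists_even h1173 hB.tight hB.even hne hperf hcomm
  obtain ⟨E, hE⟩ := hB.tight.exists_maxE hg hr hr2 hrg
  obtain ⟨L, Q, U, hF, -, -⟩ := Exists.fullPair_of_maxE hB.tight hSF.cen (inner_T hSF) hE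
  exact ⟨L, Q, U, hB, hF⟩

theorem false_of_inj {F : Type*} [Field F] [CharP F 2] {σ : F →+* F} {X : Type u} [Group X]
    (S : Full σ X) [Finite F] [Finite X] {m : ℕ} (hcard : Nat.card F = 2 ^ (2 * m + 1)) (hF : ∃ c : Fˣ, c ≠ 1)
    (hR : S.R.p = 2) {G : Type v} [Group G] [Finite G] [IsSimpleGroup G] (h1173 : H1173 G) {j : X →* G}
    (hj : Function.Injective j) (hK : IsStandardSubgroup j.range)
    (hrk : ¬ PRankLE 2 1 ↥(centralizer (j.range : Set G))) : False := by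
  have hxf : XF X := XFacts.xf S hcard hF hR
  have hne : j.range ≠ ⊥ := by
    intro h
    have h1 : j (S.e 2 0 1) ∈ j.range := ⟨_, rfl⟩
    rw [h, mem_bot] at h1
    exact one_ne_zero (S.e_eq_one (hj (h1.trans (map_one j).symm))).2
  have hperf : ⁅j.range, j.range⁆ = j.range := by
    have h1 : ⁅(⊤ : Subgroup ↥j.range), (⊤ : Subgroup ↥j.range)⁆ = ⊤ := hK.1.1.commutator_eq_top
    have h2 := congrArg (Subgroup.map j.range.subtype) h1
    rw [Subgroup.map_commutator, ← MonoidHom.range_eq_map, Subgroup.range_subtype] at h2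
    exact h2
  have hB := base_of_std hj hxf hK hne
  obtain ⟨L, A, W, h⟩ := exists_pair h1173 hB hne hperf
  have hr : Rk2 j.range := by
    obtain ⟨a, b, ha, hb, ha2, hb2, hab, hne⟩ := exists_two_of_not_pRankLE hrk
    exact ⟨a, b, ha, hb, ha2, hb2, hab, hne⟩
  obtain ⟨a, ha, b, hb, ha2, hb2, -, hab⟩ := hr.exists_syl h.fp.sylQ
  have n1 : ∀ x : G, orderOf x = 2 → x ≠ 1 := by
    rintro x hx rfl
    rw [orderOf_one] at hx
    exact absurd hx (by norm_num)
  refine Types.false_of_PP S hj hxf hF hR h ?_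
  intro t _ _
  by_cases hat : a = t
  · exact ⟨b, hb, n1 b hb2, fun hbt => hab (hat.trans hbt.symm)⟩
  · exact ⟨a, ha, n1 a ha2, hat⟩

/-- **the row `²F₄(q)`, `q ≥ 8`** -/
theorem row (h1173 : Start.P1173.{u}) : Cut.Row1.{u} (fun K _ => Fam2F4 K) := by
  intro G _ hG K hK hrk _ hP
  have := hG.fin
  have := hG.simple
  obtain ⟨F, _, _, m, hm, hcard, ⟨e⟩⟩ := hP
  obtain ⟨φ, hφ⟩ := Cfsg.Agent.ChevalleyStructure.TwF4.TwistedFix.exists_rln hcard
  have := Cfsg.Agent.ChevalleyStructure.TwF4.Twisted.charP_two hcard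
  have hU : ∃ c : Fˣ, c ≠ 1 := by
    classical
    obtain ⟨c, hc⟩ : ∃ c : F, c ∉ ({0, 1} : Finset F) := by
      by_contra hcon
      push Not at hcon
      have h1 : (Finset.univ : Finset F) ⊆ {0, 1} := fun x _ => hcon x
      have h2 := Finset.card_le_card h1
      have h3 : ({0, 1} : Finset F).card ≤ 2 := Finset.card_le_two
      have h8 : 2 < Fintype.card F := by
        rw [hcard]
        calc 2 < 2 ^ 3 := by norm_num
          _ ≤ 2 ^ (2 * m + 1) := Nat.pow_le_pow_right (by norm_num) (by omega)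
      rw [Finset.card_univ] at h2
      omega
    simp only [Finset.mem_insert, Finset.mem_singleton, not_or] at hc
    exact ⟨Units.mk0 c hc.1, fun h => hc.2 (congrArg Units.val h)⟩
  have hfin : Finite ↥(twistedF4 F (2 ^ m)) := inferInstance
  let S := Cfsg.Agent.KFacts.TwF4.Inst.full hcard hφ
  -- an involution of `G`
  obtain ⟨a, b, ha, hb, ha2, -⟩ := exists_two_of_not_pRankLE hrk
  let j : ↥(twistedF4 F (2 ^ m)) →* G := K.subtype.comp e.symm.toMonoidHom
  have hj : Function.Injective j := fun x y h => e.symm.injective (Subtype.ext h)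
  have hjK : j.range = K := by
    ext x
    constructor
    · rintro ⟨y, rfl⟩
      exact (e.symm y).2
    · intro hx
      exact ⟨e ⟨x, hx⟩, by show ((e.symm (e ⟨x, hx⟩) : ↥K) : G) = x; rw [e.symm_apply_apply]⟩
  refine false_of_inj S (by rw [Nat.card_eq_fintype_card, hcard]) hU rfl
    (h1173 G (Start.oddCore_eq_bot ha2)) hj ?_ ?_
  · rw [hjK]; exact hK.std
  · rw [hjK]; exact hrk

end Cfsg.Agent.OddHalf.D4.TwF.Row

end

-- merged: Cfsg.Agent.OddHalf.D4.UnB.AutPart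
section

/-!
# ODD, D4, (1B): the facts (k0), (k1), (k2), (k4), (k5:c2) for `PSU n F q`, `q` even (helper642)
-/

set_option autoImplicit false

namespace Cfsg.Agent.OddHalf.D4.UnB.AutPart

open Cfsg Cfsg.Agent.LieClassical.HermBasic Cfsg.Agent.LieClassical.SUBasic
  Cfsg.Agent.ClassicalGeometry.PSUAutBasic Cfsg.Agent.ClassicalGeometry.PSUAutSylow
  Cfsg.Agent.OddHalf.D4.Free Cfsg.Agent.OddHalf.D4.UnB.Field

theorem mem_cent_iff {X : Type*} [Group X] {T : Sylow 2 X} {z : X} : z ∈ cent (T : Subgroup X) ↔ InZ T z := by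
  unfold cent
  rw [Subgroup.mem_inf, Subgroup.mem_centralizer_iff]
  exact Iff.rfl

theorem fixZ_iff' {X : Type*} [Group X] {T : Sylow 2 X} {e : MulAut X} :
    FixZ T e ↔ ∀ z ∈ cent (T : Subgroup X), e z = z := by
  unfold FixZ
  exact forall_congr' fun z => by rw [mem_cent_iff]

/-- the elements of `A` normalise `Z(T)` -/
theorem goodA_cent {X : Type*} [Group X] {T : Sylow 2 X} {A : Subgroup (MulAut X)} (hA : GoodA T A) {e : MulAut X}
    (he : e ∈ A) : ∀ z ∈ cent (T : Subgroup X), e z ∈ cent (T : Subgroup X) := by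
  intro z hz
  rw [mem_cent_iff] at hz ⊢
  refine ⟨hA.norm e he z hz.1, fun t ht => ?_⟩
  have h1 := hz.2 _ (hA.norm e⁻¹ (inv_mem he) t ht)
  have h2 := congrArg e h1
  rw [map_mul, map_mul, MulAut.apply_inv_self] at h2
  exact h2

theorem goodA_pow {X : Type*} [Group X] {T : Sylow 2 X} {A : Subgroup (MulAut X)} (hA : GoodA T A)
    {e : MulAut X} (he : e ∈ A) : ∃ k : ℕ, e ^ 2 ^ k = 1 := by
  obtain ⟨k, hk⟩ := hA.two ⟨e, he⟩
  exact ⟨k, congrArg Subtype.val hk⟩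

variable {F : Type*} [Field F] [Fintype F] {q n : ℕ} [CharP F 2]

/-- (k0) -/
theorem sq (hF : Fintype.card F = q ^ 2) (hn : 3 ≤ n) (T : Sylow 2 (PSU n F q)) :
    ∀ z, InZ T z → z * z = 1 := fun _ hz => cent_sq hF hn T (mem_cent_iff.2 hz)

/-- The field part for the good 2-subgroups of `Aut (PSU)`. -/
theorem exists_phi (hF : Fintype.card F = q ^ 2) (hn : 3 ≤ n) (h32 : ¬ (n = 3 ∧ q = 2)) (T : Sylow 2 (PSU n F q)) :
    ∃ φ : MulAut (PSU n F q) →* (F ≃+* F), (∀ x, φ (MulAut.conj x) = 1) ∧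
      (∀ e : MulAut (PSU n F q), FixZ T e → φ e ∈ fixF F q) ∧
      ∀ A, GoodA T A → (∀ e ∈ A, φ e ∈ fixF F q → FixZ T e) ∧
        ∀ e ∈ A, φ e = 1 → e ∈ (MulAut.conj : PSU n F q →* MulAut (PSU n F q)).range := by
  obtain ⟨φ, h1, h2, h3, h4⟩ := exists_part (F := F) (q := q) (n := n) hF hn h32
  refine ⟨φ, h1, fun e he => h3 T e (fixZ_iff'.1 he), fun A hA => ⟨fun e he hφ => ?_, fun e he hφ => ?_⟩⟩
  · exact fixZ_iff'.2 (h4 T e (goodA_cent hA he) (goodA_pow hA he) hφ)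
  · obtain ⟨x, hx⟩ := h2 e hφ (goodA_pow hA he)
    exact ⟨x, hx.symm⟩

/-- (k1) -/
theorem cyc (hF : Fintype.card F = q ^ 2) (hn : 3 ≤ n) (h32 : ¬ (n = 3 ∧ q = 2)) (T : Sylow 2 (PSU n F q)) :
    ∀ A, GoodA T A → ∀ a ∈ A, ∀ b ∈ A, FixZ T (a * a) → FixZ T (b * b) →
      FixZ T a ∨ FixZ T b ∨ FixZ T (a⁻¹ * b) := by
  obtain ⟨φ, -, h2, h3⟩ := exists_phi hF hn h32 T
  intro A hA a ha b hb haa hbb
  have e1 := h2 _ haa
  have e2 := h2 _ hbb
  rw [map_mul] at e1 e2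
  rcases fixF_cyc e1 e2 with h | h | h
  · exact Or.inl ((h3 A hA).1 a ha h)
  · exact Or.inr (Or.inl ((h3 A hA).1 b hb h))
  · rw [← map_inv, ← map_mul] at h
    exact Or.inr (Or.inr ((h3 A hA).1 _ (mul_mem (inv_mem ha) hb) h))

/-- (k2) -/
theorem field (hF : Fintype.card F = q ^ 2) (hn : 3 ≤ n) (h32 : ¬ (n = 3 ∧ q = 2)) (T : Sylow 2 (PSU n F q)) :
    ∀ A, GoodA T A → ∀ e ∈ A, ∀ g : PSU n F q, (∀ z, InZ T z → e (g * z * g⁻¹) = g * z * g⁻¹) → FixZ T e := by
  obtain ⟨φ, h1, h2, h3⟩ := exists_phi hF hn h32 T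
  intro A hA e he g hg
  refine (h3 A hA).1 e he ?_
  have h4 := h2 ((MulAut.conj g)⁻¹ * e * MulAut.conj g) (by
    intro z hz
    rw [MulAut.mul_apply, MulAut.mul_apply, MulAut.conj_apply, hg z hz, MulAut.conj_inv_apply]
    group)
  rw [map_mul, map_mul, map_inv, h1, inv_one, one_mul, mul_one] at h4
  exact h4

/-- (k4) -/
theorem graph (hF : Fintype.card F = q ^ 2) (hn : 3 ≤ n) (h32 : ¬ (n = 3 ∧ q = 2)) (T : Sylow 2 (PSU n F q)) :
    ∀ A, GoodA T A → ∀ a ∈ A, ∀ b ∈ A, FixZ T a → FixZ T b →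
      a ∈ (MulAut.conj : PSU n F q →* MulAut (PSU n F q)).range ∨
        b ∈ (MulAut.conj : PSU n F q →* MulAut (PSU n F q)).range ∨
          a⁻¹ * b ∈ (MulAut.conj : PSU n F q →* MulAut (PSU n F q)).range := by
  obtain ⟨φ, -, h2, h3⟩ := exists_phi hF hn h32 T
  intro A hA a ha b hb haf hbf
  rcases fixF_two hF (h2 a haf) (h2 b hbf) with h | h | h
  · exact Or.inl ((h3 A hA).2 a ha h)
  · exact Or.inr (Or.inl ((h3 A hA).2 b hb h))
  · rw [← map_inv, ← map_mul] at h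
    exact Or.inr (Or.inr ((h3 A hA).2 _ (mul_mem (inv_mem ha) hb) h))

/-- (k5), case (c2) -/
theorem outC2 (hF : Fintype.card F = q ^ 2) (hn : 3 ≤ n) (h32 : ¬ (n = 3 ∧ q = 2)) (T : Sylow 2 (PSU n F q)) :
    ∀ A, GoodA T A → ∀ e ∈ A, e * e = 1 → FixZ T e := by
  obtain ⟨φ, -, h2, h3⟩ := exists_phi hF hn h32 T
  intro A hA e he hee
  refine (h3 A hA).1 e he (mem_of_sq hF ?_)
  rw [pow_two, ← map_mul, hee, map_one]

/-- (k5) -/
theorem out (hF : Fintype.card F = q ^ 2) (hn : 3 ≤ n) (h32 : ¬ (n = 3 ∧ q = 2)) (T : Sylow 2 (PSU n F q)) :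
    OutA T := Or.inr (Or.inl (outC2 hF hn h32 T))

/-- **`AFacts` for `PSU n F q` from the filtrations.** -/
theorem aFacts (hF : Fintype.card F = q ^ 2) (hn : 3 ≤ n) (h32 : ¬ (n = 3 ∧ q = 2)) (T : Sylow 2 (PSU n F q))
    (hT : ∀ A, GoodA T A → ∃ U L, FltA T A U L) : AFacts T :=
  ⟨sq hF hn T, cyc hF hn h32 T, field hF hn h32 T, hT, graph hF hn h32 T, out hF hn h32 T⟩

end Cfsg.Agent.OddHalf.D4.UnB.AutPart

end

-- merged: Cfsg.Agent.OddHalf.D4.UnB.Main
section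

/-!
# ODD, D4, (1B): the K-facts for `PSU n F q`, `q ≥ 4` even
-/

set_option autoImplicit false

namespace Cfsg.Agent.OddHalf.D4.UnB

open Cfsg Cfsg.Agent.OddHalf.D4.Free

/-- **`AFacts` for `PSU n F q`**, `n ≥ 3`, `q ≥ 3` a power of two. -/
theorem aFacts {F : Type*} [Field F] [Fintype F] {q n : ℕ} [CharP F 2] (hF : Fintype.card F = q ^ 2) (hn : 3 ≤ n)
    (hq : 3 ≤ q) (T : Sylow 2 (PSU n F q)) : AFacts T :=
  AutPart.aFacts hF hn (by omega) T fun A hA => filt hF hn hq T A hA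

/-- **`BFacts` for `K ≅ PSU n F q`**, `n ≥ 3`, `q ≥ 3` a power of two. -/
theorem bFacts {G : Type*} [Group G] [Finite G] {K : Subgroup G} {F : Type*} [Field F] [Fintype F] {q n : ℕ}
    [CharP F 2] (hF : Fintype.card F = q ^ 2) (hn : 3 ≤ n) (hq : 3 ≤ q) (e : ↥K ≃* PSU n F q) : BFacts K := by
  have : Fact (Nat.Prime 2) := ⟨Nat.prime_two⟩
  obtain ⟨T⟩ : Nonempty (Sylow 2 (PSU n F q)) := inferInstance
  exact (aFacts hF hn hq T).bfacts e.symm

end Cfsg.Agent.OddHalf.D4.UnB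

end

-- merged: Cfsg.Agent.OddHalf.DblR.UnRowFin
section

/-!
# ODD, D4: the rows `U_4(q)`, `U_5(q)`, `U_n(q)` (`n ≥ 6`), `q = 2^a ≥ 4`, complete (helper350)

`UnBF` holds (helper780, helper642, helper638); **`u4e`**, **`u5e`**, **`une`**.
-/

set_option autoImplicit false

namespace Cfsg.Agent.OddHalf.DblR.UnRowFin

open Cfsg Subgroup Cfsg.Agent.OddHalf.D4

universe u

theorem unBF : UnRow.UnBF.{u} := by
  intro G _ _ K F _ _ a n ha hF hn _ e
  have : CharP F 2 := UnRow.charTwo hF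
  have h4 := UnRow.four_le ha
  exact UnB.bFacts (UnRow.card_sq hF) (by omega) (by omega) e

/-- **D4, `K ≅ U_4(2^a)`, `a ≥ 2`.** -/
theorem u4e (h1173 : Start.P1173.{u}) (hFT : CoreOf.FTu.{u}) : Cut.Row1.{u} (fun K _ => Cut.U4e K) :=
  UnRow.u4e h1173 hFT unBF

/-- **D4, `K ≅ U_5(2^a)`, `a ≥ 2`.** -/
theorem u5e (h1173 : Start.P1173.{u}) (hFT : CoreOf.FTu.{u}) : Cut.Row1.{u} (fun K _ => Cut.U5e K) :=
  UnRow.u5e h1173 hFT unBF

/-- **D4, `K ≅ U_n(2^a)`, `n ≥ 6`, `a ≥ 2`.** -/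
theorem une (h1173 : Start.P1173.{u}) (hFT : CoreOf.FTu.{u}) : Cut.Row1.{u} (fun K _ => Cut.Une K) :=
  UnRow.une h1173 hFT unBF

end Cfsg.Agent.OddHalf.DblR.UnRowFin

end

-- merged: Cfsg.Agent.OddHalf.D4F4.Final
section

/-!
# ODD, D4, the row `F₄(q)`, `q ≥ 4` even (`Cut.RowsTwo.f4e`)
-/

set_option autoImplicit false

namespace Cfsg.Agent.OddHalf.D4F4

open Cfsg Cfsg.Agent.OddHalf.D4

universe v

/-- **The row `F₄(q)`, `q ≥ 4` even.** -/
theorem f4e (h1173 : Start.P1173.{v}) (hFT : StartQ.FTT.{v}) : Cut.Row1.{v} (fun K _ => Cut.F4e K) :=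
  row_f4e h1173 hFT fun _ _ _ _ hq _ _ _ _ e => Free.F4.BFac.bfacts_of_equiv hq e.symm

end Cfsg.Agent.OddHalf.D4F4

end

-- merged: Cfsg.Agent.OddHalf.DblR.HexK.Pair
section

/-!
# `G₂(q)`, `³D₄(q)`: no commuting pair of root type

* `no_pair`, **`row`** : the rows for a subgroup `AA σ x` of `G`.
-/

set_option autoImplicit false
set_option maxHeartbeats 400000

namespace Cfsg.Agent.OddHalf.DblR.HexK

open Subgroup Cfsg.Agent.StdRank2.Hex Cfsg.Agent.StdRank2.Hex.HexTwo Cfsg.Agent.SplitTwo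
open scoped commutatorElement

local notation "cJ" => Cfsg.Agent.Nodes.Reps.cj

variable {E : Type*} [Field E] {σ : E ≃+* E} {G : Type*} [Group G] {x : ZMod 12 → E → G}

theorem notTwo_of {ω : E} (hω : σ ω = ω) (hω0 : ω ≠ 0) (hω1 : ω ≠ 1) : NotTwo σ :=
  Or.inl ⟨ω, hω, fun e => by
    have e1 : ω * (ω - 1) = 0 := by linear_combination e
    rcases mul_eq_zero.1 e1 with h1 | h1
    · exact hω0 h1
    · exact hω1 (sub_eq_zero.1 h1)⟩

theorem hout_of_sch {K : Subgroup G} (hs : Cfsg.Agent.Schreier.Basic.Sch ↥K) :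
    ∀ H : Subgroup G, H ≤ Subgroup.normalizer (K : Set G) → H ≤ ⁅H, H⁆ →
      ∀ x ∈ H, ∃ k ∈ K, ∃ c : G, (∀ y ∈ K, c * y = y * c) ∧ x = k * c := by
  intro H hHN hHp x hx
  let φ : ↥(Subgroup.normalizer (K : Set G)) →* MulAut ↥K := Subgroup.normalizerMonoidHom K
  have hφ : ∀ (c : ↥(Subgroup.normalizer (K : Set G))) (y : ↥K), ((φ c y : ↥K) : G) = c * y * (c : G)⁻¹ := fun c y => rfl
  have h1 : ((H.subgroupOf (Subgroup.normalizer (K : Set G))).map φ) ≤
      ⁅(H.subgroupOf (Subgroup.normalizer (K : Set G))).map φ,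
        (H.subgroupOf (Subgroup.normalizer (K : Set G))).map φ⁆ := by
    rw [← Subgroup.map_commutator]
    apply Subgroup.map_mono
    intro y hy
    have hy' : (y : G) ∈ ⁅H, H⁆ := hHp (Subgroup.mem_subgroupOf.1 hy)
    have h2 : ⁅H, H⁆ = ⁅H.subgroupOf (Subgroup.normalizer (K : Set G)),
        H.subgroupOf (Subgroup.normalizer (K : Set G))⁆.map (Subgroup.normalizer (K : Set G)).subtype := by
      rw [Subgroup.map_commutator, Subgroup.map_subgroupOf_eq_of_le hHN]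
    rw [h2] at hy'
    obtain ⟨y', hy1, hy2⟩ := hy'
    have : y' = y := Subtype.ext hy2
    rwa [← this]
  have h2 : φ ⟨x, hHN hx⟩ ∈ (H.subgroupOf (Subgroup.normalizer (K : Set G))).map φ := ⟨⟨x, hHN hx⟩, hx, rfl⟩
  obtain ⟨k, hk⟩ := hs _ (le_antisymm (Subgroup.commutator_le_self _) h1) h2
  refine ⟨k, k.2, (k : G)⁻¹ * x, ?_, by group⟩
  intro z hz
  have h3 := hφ ⟨x, hHN hx⟩ ⟨z, hz⟩
  rw [← hk, MulAut.conj_apply] at h3
  have h4 : (k : G) * z * (k : G)⁻¹ = x * z * x⁻¹ := h3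
  calc (k : G)⁻¹ * x * z = (k : G)⁻¹ * (x * z * x⁻¹) * x := by group
    _ = z * ((k : G)⁻¹ * x) := by rw [← h4]; group

variable (h : HexTwo σ x)
include h

/-- perfect subgroups of `C_K(x₄(t))` -/
theorem le_P [Finite E] {z : G} (hz : z ∈ gen σ x {4}) (hz1 : z ≠ 1) {H : Subgroup G} (hH : H ≤ AA σ x)
    (hHz : ∀ y ∈ H, y * z = z * y) : H ≤ gen σ x (arc 1 7) := by
  obtain ⟨t, ht, rfl⟩ := h.mem_gen_singleton.1 hz
  have ht0 : t ≠ 0 := fun e => hz1 (by rw [e, h.x_zero])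
  intro y hy
  exact (h.mem_centralizer_x4 (hH hy) (ht (by decide)) ht0).1 (by rw [hHz y hy, mul_inv_cancel_right])

/-- **No commuting pair of root type.** -/
theorem no_pair [Finite E] [Finite G] (hg : NormGen σ) {ω : E} (hω : σ ω = ω) (hω0 : ω ≠ 0) (hω1 : ω ≠ 1)
    {R : Subgroup G} (A : Amb (AA σ x) R) (two : ∀ c ∈ C1 (AA σ x) R, IsPGroup 2 (Subgroup.zpowers c) → c ∈ R)
    (hC1 : ∀ H : Subgroup G, H ≤ C1 (AA σ x) R → H ≤ ⁅H, H⁆ → H = ⊥)
    {t t' : G} (ht : t ∈ R) (ht1 : t ≠ 1) (ht' : t' ∈ R) (ht1' : t' ≠ 1) (hne : t' ≠ t)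
    {γ k : G} (hk : k ∈ AA σ x) (hg1 : cJ γ R ≤ R ⊔ gen σ x {4}) (hg2 : R ≤ cJ γ (R ⊔ cJ k (gen σ x {4})))
    (hg3 : ¬ cJ γ R ≤ R) : False := by
  have hN := notTwo_of hω hω0 hω1
  have L := loc h hg hω hω0 hω1 A ⟨t, ht, ht1⟩ two
  refine (ktriP h hg A ⟨t, ht, ht1⟩ hω hω0 hω1 hN).no_pair L (norX h) (a := nn x 6) (b := nn x 2) (c := 1)
    (nn_mem_AA h 6) (nn_mem_AA h 2) (one_mem _) ?_ ?_ (Cfsg.Agent.Nodes.Reps.cj_one _) ?_ ?_
    (Cfsg.Agent.Nodes.Reps.cj_one _) ht ht1 ht' ht1' hne res res_cj ?_ (fun g hg => cj_of_cj_P h hg) hk hg1 hg2 hg3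
  · exact cJ_nn h 6 (by rintro _ rfl; decide) (by rintro _ rfl; decide)
  · exact cJ_nn h 2 (by rintro _ rfl; decide) (by rintro _ rfl; decide)
  · refine cJ_nn h 6 ?_ ?_
    · intro l hl
      have : ∀ l : ZMod 12, (l - 1).val < 7 → (2 * 6 + 6 - l - 11).val < 7 := by decide
      exact this l hl
    · intro l hl
      have : ∀ l : ZMod 12, (l - 11).val < 7 → (2 * 6 + 6 - l - 1).val < 7 := by decide
      exact this l hl
  · refine cJ_nn h 2 ?_ ?_
    · intro l hl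
      have : ∀ l : ZMod 12, (l - 1).val < 7 → (2 * 2 + 6 - l - 3).val < 7 := by decide
      exact this l hl
    · intro l hl
      have : ∀ l : ZMod 12, (l - 3).val < 7 → (2 * 2 + 6 - l - 1).val < 7 := by decide
      exact this l hl
  · refine res_eq L.amb (fun p hp z hz => (L.XZ z hz p hp).symm) L.PK (le_trans L.XQ (le_trans L.QP L.PK))
      ⟨t, ht, ht1⟩ (Cfsg.Agent.HexStart.P1_perfect h hω0 hω1).ge (hout_of_sch (Cfsg.Agent.HexStart.sch_AA h hN)) hC1 ?_
    intro z hz hz1 H hH hHz _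
    exact le_P h hz hz1 hH hHz

/-- **The row.** -/
theorem row [Finite E] [Finite G] (hg : NormGen σ) {ω : E} (hω : σ ω = ω) (hω0 : ω ≠ 0) (hω1 : ω ≠ 1)
    (St : Std1 (AA σ x)) {D : Subgroup G} (hD : D ≤ Subgroup.centralizer (AA σ x : Set G)) (hD2 : IsPGroup 2 ↥D)
    (hDmax : ∀ D' : Subgroup G, D ≤ D' → D' ≤ Subgroup.centralizer (AA σ x : Set G) → IsPGroup 2 ↥D' → D' ≤ D)
    (hC1 : ∀ H : Subgroup G, H ≤ C1 (AA σ x) D → H ≤ ⁅H, H⁆ → H = ⊥)
    {t t' : G} (ht : t ∈ D) (ht1 : t ≠ 1) (ht' : t' ∈ D) (ht1' : t' ≠ 1) (hne : t' ≠ t)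
    {γ k : G} (hk : k ∈ AA σ x) (hg1 : cJ γ D ≤ D ⊔ gen σ x {4}) (hg2 : D ≤ cJ γ (D ⊔ cJ k (gen σ x {4})))
    (hg3 : ¬ cJ γ D ≤ D) : False := by
  obtain ⟨A, two⟩ := St.core (gen_mono (Set.subset_univ _)) (by
    intro z hz
    obtain ⟨t, ht, rfl⟩ := h.mem_gen_singleton.1 hz
    exact h.x_sq ht) hD hD2 hDmax hg1 hg3
  exact no_pair h hg hω hω0 hω1 A two hC1 ht ht1 ht' ht1' hne hk hg1 hg2 hg3

end Cfsg.Agent.OddHalf.DblR.HexK

end

-- merged: Cfsg.Agent.OddHalf.DblR.HexG.False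
section

/-!
# ODD, D4: `K ≅ G₂(2^a)`, `a ≥ 3`, `K ≅ ³D₄(2^a)`, `a ≥ 2`: the end of case (a)

**`no_full`** : `K` standard, simple, `m_2(C(K)) ≥ 2`, `IsHex K`: there is no full pair `K`, `L` such that `N(L)` contains
a Sylow 2-subgroup of `K`.
-/

set_option autoImplicit false
set_option maxHeartbeats 400000
set_option linter.unusedSectionVars false

namespace Cfsg.Agent.OddHalf.DblR.HexG

open Subgroup Cfsg Cfsg.Agent.StdRank2.Hex Cfsg.Agent.StdRank2.Hex.HexTwo Cfsg.Agent.SplitTwo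
open Cfsg.Agent.OddHalf.D4 Cfsg.Agent.OddHalf.D4.Basic
open scoped commutatorElement

universe u

variable {G : Type u} [Group G] [Finite G]

/-- `K` does not commute with its conjugates -/
theorem not_comm_of_std {K : Subgroup G} (hK : IsStandardSubgroup K) (hs : IsSimpleGroup ↥K)
    (hz : ∀ x ∈ K, x ∈ centralizer (K : Set G) → x = 1) (g : G) :
    ¬ ∀ k ∈ K, ∀ l ∈ CommConj.cj g K, k * l = l * k := by
  intro hcon
  by_cases h1 : K.map (MulAut.conj g).toMonoidHom = K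
  · -- `K` would be abelian
    have := hs.toNontrivial
    obtain ⟨k, hk⟩ := _root_.exists_ne (1 : ↥K)
    apply hk
    apply Subtype.ext
    apply hz k k.2
    rw [mem_centralizer_iff]
    intro l hl
    have hl' : l ∈ CommConj.cj g K := by
      change l ∈ K.map (MulAut.conj g).toMonoidHom
      rw [h1]; exact hl
    exact (hcon k k.2 l hl').symm
  · apply hK.2.2.1 g h1
    rw [commutator_eq_bot_iff_le_centralizer]
    intro a ha
    rw [mem_centralizer_iff]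
    intro b hb
    exact (hcon a ha b hb).symm

/-- the facts `Inp` for `K` standard -/
theorem inp_of_std (hFT : CoreOf.FTu.{u}) {E : Type*} [Field E] [Finite E] {σ : E ≃+* E} {x : ZMod 12 → E → G}
    (h : HexTwo σ x) (hω : ∃ ω : E, σ ω = ω ∧ ω ≠ 0 ∧ ω ≠ 1) (hstd : IsStandardSubgroup (AA σ x))
    (hs : IsSimpleGroup ↥(AA σ x)) : Input.Inp (AA σ x) (UU σ x) (gen σ x {4}) (gen σ x (arc 1 7)) := by
  have h4 : 4 ≤ Nat.card E := by
    obtain ⟨ω, -, h2, h3⟩ := hω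
    exact four_le h.two h2 h3
  exact inp h hFT (notTwo_of hω) h4 (EvenPair.tight_of_standard hstd) hstd.2.1.1
    (not_comm_of_std hstd hs fun x hx hc => center_eq h hx hc) hs

theorem endHyp {E : Type*} [Field E] [Finite E] {σ : E ≃+* E} {x : ZMod 12 → E → G} (h : HexTwo σ x)
    (hg : HexK.NormGen σ) (hω : ∃ ω : E, σ ω = ω ∧ ω ≠ 0 ∧ ω ≠ 1) (St : Std1 (AA σ x)) :
    Input.EndHyp (AA σ x) (gen σ x {4}) := by
  obtain ⟨ω, h1, h2, h3⟩ := hω
  intro D hD hD2 hDmax hC1 t t' ht ht1 ht' ht1' hne γ k hk hg1 hg2 hg3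
  exact HexK.row h hg h1 h2 h3 St hD hD2 hDmax hC1 ht ht1 ht' ht1' hne hk hg1 hg2 hg3

/-- **The end of case (a).** -/
theorem no_full (hFT : CoreOf.FTu.{u}) {K : Subgroup G} (hK : IsHex K) (hstd : IsStandardSubgroup K)
    (hs : IsSimpleGroup ↥K) (hr : ¬ PRankLE 2 1 ↥(centralizer (K : Set G))) {L Q U : Subgroup G}
    (hp : FullPair K L Q U) {S' : Subgroup G} (hS' : IsSyl S' K) (hS'L : S' ≤ normalizer (L : Set G)) : False := by
  obtain ⟨E, _, _, σ, x, h, rfl, hg, hω, -⟩ := hK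
  have hi := inp_of_std hFT h hω hstd hs
  exact hi.no_full (endHyp h hg hω hi.std1) hr hp hS' hS'L

end Cfsg.Agent.OddHalf.DblR.HexG

end

-- merged: Cfsg.Agent.OddHalf.DblR.HexG.InnSyl
section

/-!
# `G₂(q)`, `³D₄(q)`: (F1)

`innSyl` : automorphisms centralising a Sylow 2-subgroup `T` are conjugations by elements of `T`.
-/

set_option autoImplicit false
set_option maxHeartbeats 400000

namespace Cfsg.Agent.OddHalf.DblR.HexG

open Subgroup Cfsg.Agent.StdRank2.Hex Cfsg.Agent.StdRank2.Hex.HexTwo Cfsg.Agent.SplitTwo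
open Cfsg.Agent.OddHalf.D4

variable {E : Type*} [Field E] {σ : E ≃+* E} {X : Type*} [Group X] {x : ZMod 12 → E → X}

theorem innSyl [Finite E] [Finite X] (h : HexTwo σ x) (htop : AA σ x = ⊤) (hN : NotTwo σ) : KPairG.InnSyl X := by
  intro S φ _ hφ
  obtain ⟨y, hy, hytop, hS⟩ := Quat.RowHex.exists_sylow h htop S
  have hinj : Function.Injective (MulAut.conj : X →* MulAut X) := by
    rw [injective_iff_map_eq_one]
    intro g hg
    refine center_eq_one hy (by rw [hytop]; exact mem_top _) fun k a _ => ?_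
    have := congrArg (fun f : MulAut X => f (y k a)) hg
    exact this
  have h' : HexTwo σ (fun k a => MulAut.conj (y k a)) := hy.map MulAut.conj hinj fun _ _ _ => rfl
  have hgen : ∀ S : Set (ZMod 12), gen σ (fun k a => MulAut.conj (y k a)) S = (gen σ y S).map MulAut.conj := fun S =>
    map_gen (x := y) (y := fun k a => MulAut.conj (y k a)) MulAut.conj (fun _ _ _ => rfl) S
  have hact : ∀ (α : MulAut X) (v : X), α * MulAut.conj v * α⁻¹ = MulAut.conj (α v) := by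
    intro α v
    ext w
    simp only [MulAut.mul_apply, MulAut.conj_apply, map_mul, map_inv, MulAut.apply_inv_self]
  have : Finite (MulAut X) := Finite.of_injective (fun f : MulAut X => (f : X → X)) fun f g h =>
    MulEquiv.ext fun t => congrFun h t
  obtain ⟨z, hz, hz'⟩ := HexK.aut_U h' hN (c := φ) (by
    intro v hv
    rw [AA, hgen] at hv ⊢
    obtain ⟨w, -, rfl⟩ := hv
    rw [hact]
    refine ⟨φ w, ?_, rfl⟩
    change φ w ∈ AA σ y
    rw [hytop]; exact mem_top _) (by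
    intro v hv
    rw [UU, hgen] at hv
    obtain ⟨w, hw, rfl⟩ := hv
    have h1 : w ∈ S := by
      have : w ∈ (S : Subgroup X) := by rw [hS]; exact hw
      exact this
    have h2 := hact φ w
    rw [hφ w h1] at h2
    exact mul_inv_eq_iff_eq_mul.1 h2)
  rw [hgen] at hz
  obtain ⟨s, hs, rfl⟩ := hz
  refine ⟨s, ?_, ?_⟩
  · have h1 : s ∈ (S : Subgroup X) := by
      rw [hS]
      exact gen_mono (by rintro l rfl; rw [mem_arc]; decide) hs
    exact h1
  · -- `z⁻¹ φ = 1`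
    have h1 : (MulAut.conj s)⁻¹ * φ = 1 := by
      ext v
      have h2 : MulAut.conj v ∈ AA σ (fun k a => MulAut.conj (y k a)) := by
        rw [AA, hgen]
        refine ⟨v, ?_, rfl⟩
        change v ∈ AA σ y
        rw [hytop]; exact mem_top _
      have h3 := mem_centralizer_iff.1 hz' _ h2
      have h4 := hact ((MulAut.conj s)⁻¹ * φ) v
      rw [← h3, mul_inv_cancel_right] at h4
      exact (hinj h4).symm
    exact (inv_mul_eq_one.1 h1).symm

end Cfsg.Agent.OddHalf.DblR.HexG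

end

-- merged: Cfsg.Agent.OddHalf.D4.HexFree.Main
section

/-!
# `G₂(q)`, `³D₄(q)`: `BFacts`

* **`bfacts`** : `BFacts (AA σ x)` for a hexagonal system in `G`;
* **`g2`**, **`d4`** : `BFacts K`, `K ≅ G₂(2^a)`, `a ≥ 2`, resp. `³D₄(2^a)`, `a ≥ 2`.
-/

set_option autoImplicit false
set_option maxHeartbeats 400000

namespace Cfsg.Agent.OddHalf.D4.HexFree

open Subgroup Cfsg.Lie Cfsg.Agent.StdRank2.Hex Cfsg.Agent.StdRank2.Hex.HexTwo Cfsg.Agent.SplitTwo
open Cfsg.Agent.OddHalf.D4.Free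

variable {E : Type*} [Field E] {σ : E ≃+* E} {G X : Type*} [Group G] [Group X]

theorem exists_fix {n : ℕ} [Finite E] (hn : 3 ≤ n) (h : n ≤ Nat.card {a : E // σ a = a}) :
    ∃ ω : E, σ ω = ω ∧ ω ≠ 0 ∧ ω ≠ 1 := by
  classical
  have : Fintype {a : E // σ a = a} := Fintype.ofFinite _
  rw [Nat.card_eq_fintype_card] at h
  by_contra hcon
  push Not at hcon
  have h1 : (Finset.univ : Finset {a : E // σ a = a}) ⊆ {⟨0, map_zero σ⟩, ⟨1, map_one σ⟩} := by
    rintro ⟨b, hb⟩ -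
    simp only [Finset.mem_insert, Finset.mem_singleton, Subtype.mk.injEq]
    by_cases h1 : b = 0
    · exact Or.inl h1
    · exact Or.inr (hcon b hb h1)
  have h2 := Finset.card_le_card h1
  rw [Finset.card_univ] at h2
  have h3 := h2.trans Finset.card_le_two
  omega

theorem notTwo_of' {ω : E} (hω : σ ω = ω) (hω0 : ω ≠ 0) (hω1 : ω ≠ 1) : NotTwo σ :=
  Or.inl ⟨ω, hω, fun e => by
    have e1 : ω * (ω - 1) = 0 := by linear_combination e
    rcases mul_eq_zero.1 e1 with h1 | h1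
    · exact hω0 h1
    · exact hω1 (sub_eq_zero.1 h1)⟩

/-- `AFacts` for a group generated by a hexagonal system -/
theorem exists_aFacts [Finite E] [Finite X] {x : ZMod 12 → E → X} (h : HexTwo σ x) (htop : AA σ x = ⊤)
    (hq : Nat.card {a : E // σ a = a} = 4 ∨ 8 ≤ Nat.card {a : E // σ a = a}) : ∃ T : Sylow 2 X, AFacts T := by
  have : Fact (Nat.Prime 2) := ⟨Nat.prime_two⟩
  obtain ⟨y, hy, hytop, hP⟩ := Cfsg.Agent.OddHalf.Quat.RowHex.exists_sylow h htop default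
  obtain ⟨ω, hω, hω0, hω1⟩ := exists_fix (σ := σ) (n := 4) (by norm_num) (by omega)
  exact ⟨default, aFacts hy hytop (notTwo_of' hω hω0 hω1) hP hω hω0 hω1 (by omega)⟩

/-- **`BFacts` for a hexagonal system in `G`.** -/
theorem bfacts [Finite E] [Finite G] {x : ZMod 12 → E → G} (h : HexTwo σ x)
    (hq : Nat.card {a : E // σ a = a} = 4 ∨ 8 ≤ Nat.card {a : E // σ a = a}) : BFacts (AA σ x) := by
  classical
  let x' : ZMod 12 → E → ↥(AA σ x) := fun k a => if ha : Ok σ k a then ⟨x k a, x_mem_AA ha⟩ else 1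
  have hx' : ∀ k a, Ok σ k a → x k a = (AA σ x).subtype (x' k a) := by
    intro k a ha
    simp only [x', dif_pos ha, Subgroup.coe_subtype]
  have h' : HexTwo σ x' := h.comap (AA σ x).subtype Subtype.val_injective hx'
  have htop : AA σ x' = ⊤ := by
    have h1 : AA σ x = (AA σ x').map (AA σ x).subtype := map_gen (AA σ x).subtype hx' Set.univ
    apply Subgroup.map_injective (AA σ x).subtype_injective
    rw [← h1, ← MonoidHom.range_eq_map, Subgroup.range_subtype]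
  obtain ⟨T, hT⟩ := exists_aFacts h' htop hq
  exact hT.bfacts (MulEquiv.refl _)

/-- **`BFacts` for `G₂(q)`, `q ≥ 4` even.** -/
theorem g2 [Finite G] {F : Type*} [Field F] [Fintype F] {a : ℕ} (ha : 2 ≤ a) (hF : Fintype.card F = 2 ^ a)
    {K : Subgroup G} (e : ↥(chevG2.group F) ≃* ↥K) : BFacts K := by
  have h1 : Nat.card {c : F // (RingEquiv.refl F) c = c} = 2 ^ a := by
    rw [← hF, ← Nat.card_eq_fintype_card]
    exact Nat.card_congr (Equiv.subtypeUnivEquiv fun c => rfl)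
  obtain ⟨T, hT⟩ := exists_aFacts (σ := RingEquiv.refl F) (HexModel.G2.hexTwo (HexModel.Main.two_eq_zero hF))
    HexModel.Main.g2_top (by
      rw [h1]
      rcases Nat.lt_or_ge a 3 with h2 | h2
      · left
        have : a = 2 := by omega
        subst this
        norm_num
      · right
        calc 8 = 2 ^ 3 := by norm_num
          _ ≤ 2 ^ a := Nat.pow_le_pow_right (by norm_num) h2)
  exact hT.bfacts e

/-- **`BFacts` for `³D₄(q)`, `q ≥ 4` even.** -/
theorem d4 [Finite G] {F : Type*} [Field F] [Fintype F] {a : ℕ} (ha : 2 ≤ a) (hF : Fintype.card F = 8 ^ a)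
    {K : Subgroup G} (e : ↥(twistedD4 F (2 ^ a)) ≃* ↥K) : BFacts K := by
  obtain ⟨σ, hσ, h3, hne, hf⟩ := HexModel.Main.exists_sigma (by omega) hF
  have h2 : (2 : F) = 0 := by
    apply HexModel.Main.two_eq_zero (n := 3 * a)
    rw [hF, pow_mul]
    norm_num
  obtain ⟨T, hT⟩ := exists_aFacts (HexModel.Main.d4_hexTwo hσ h2 h3) (HexModel.Main.d4_top hσ h2) (by
      rw [hf]
      rcases Nat.lt_or_ge a 3 with h2 | h2
      · left
        have : a = 2 := by omega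
        subst this
        norm_num
      · right
        calc 8 = 2 ^ 3 := by norm_num
          _ ≤ 2 ^ a := Nat.pow_le_pow_right (by norm_num) h2)
  exact hT.bfacts e

end Cfsg.Agent.OddHalf.D4.HexFree

end

-- merged: Cfsg.Agent.OddHalf.DblR.HexG.Row
section

/-!
# ODD, D4: the rows two.g2e and two.d4te, `K ≅ G₂(2^a)`, `a ≥ 3`, `K ≅ ³D₄(2^a)`, `a ≥ 2`

* `hend_of_hex` : `Inp` and `EndHyp` for `IsHex K`;
* `innSyl_of_hex`;
* **`g2e`**, **`d4te`** : the rows.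
-/

set_option autoImplicit false
set_option maxHeartbeats 400000

namespace Cfsg.Agent.OddHalf.DblR.HexG

open Subgroup Cfsg Cfsg.Agent.StdRank2.Hex Cfsg.Agent.StdRank2.Hex.HexTwo Cfsg.Agent.SplitTwo
open Cfsg.Agent.OddHalf.D4 Cfsg.Agent.OddHalf.D4.Basic

universe u

theorem hend_of_hex {G : Type u} [Group G] [Finite G] (hFT : Spor.FTT.{u}) {K : Subgroup G} (hD : StartQ.DataQ K)
    (hK : IsHex K) : ∃ S X H : Subgroup G, Input.Inp K S X H ∧ Input.EndHyp K X := by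
  obtain ⟨E, _, _, σ, x, h, rfl, hg, hω, -⟩ := hK
  have hi := inp_of_std hFT h hω hD.stdK hD.simple
  exact ⟨_, _, _, hi, endHyp h hg hω hi.std1⟩

theorem innSyl_of_hex {X : Type u} [Group X] [Finite X] (hX : IsHex (⊤ : Subgroup X)) : KPairG.InnSyl X := by
  obtain ⟨E, _, _, σ, x, h, htop, -, hω, -⟩ := hX
  exact innSyl h htop (notTwo_of hω)

theorem g2e_congr {X Y : Type u} [Group X] [Group Y] (e : Y ≃* X) (h : Cut.G2e X) : Cut.G2e Y := by
  obtain ⟨F, i1, i2, a, ha, hF, ⟨f⟩⟩ := h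
  exact ⟨F, i1, i2, a, ha, hF, ⟨e.trans f⟩⟩

theorem d4te_congr {X Y : Type u} [Group X] [Group Y] (e : Y ≃* X) (h : Cut.D4te X) : Cut.D4te Y := by
  obtain ⟨F, i1, i2, a, ha, hF, ⟨f⟩⟩ := h
  exact ⟨F, i1, i2, a, ha, hF, ⟨e.trans f⟩⟩

/-- the conjugation isomorphism -/
noncomputable def cjEquiv {G : Type u} [Group G] (K : Subgroup G) (g : G) : ↥K ≃* ↥(CommConj.cj g K) :=
  K.equivMapOfInjective (MulAut.conj g).toMonoidHom (MulAut.conj g).injective

/-- **Row two.g2e.** -/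
theorem g2e (h1173 : Start.P1173.{u}) (hFT : Spor.FTT.{u}) : Cut.Row1.{u} (fun K _ => Cut.G2e K) := by
  refine StartQ.row_of_free h1173 hFT ?_ ?_ ?_
  · intro X _ _ _ hX
    exact innSyl_of_hex (isHex_g2 (g2e_congr Subgroup.topEquiv hX))
  · intro G _ hG K _ hD hK
    have := hG.fin
    exact hend_of_hex hFT hD (isHex_g2 hK)
  · intro G _ hG K _ _ hK g
    have := hG.fin
    obtain ⟨F, _, _, a, ha, hF, ⟨e⟩⟩ := hK
    exact HexFree.g2 (by omega) hF (e.symm.trans (cjEquiv K g))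

/-- **Row two.d4te.** -/
theorem d4te (h1173 : Start.P1173.{u}) (hFT : Spor.FTT.{u}) : Cut.Row1.{u} (fun K _ => Cut.D4te K) := by
  refine StartQ.row_of_free h1173 hFT ?_ ?_ ?_
  · intro X _ _ _ hX
    exact innSyl_of_hex (isHex_d4 (d4te_congr Subgroup.topEquiv hX))
  · intro G _ hG K _ hD hK
    have := hG.fin
    exact hend_of_hex hFT hD (isHex_d4 hK)
  · intro G _ hG K _ _ hK g
    have := hG.fin
    obtain ⟨F, _, _, a, ha, hF, ⟨e⟩⟩ := hK
    exact HexFree.d4 ha hF (e.symm.trans (cjEquiv K g))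

end Cfsg.Agent.OddHalf.DblR.HexG

end

-- merged: Cfsg.Agent.KFacts.SysK3
section

/-!
# (k3) for all simply laced groups (ODD, D4, free pairs)

* `fltS_of_isSLC` : `IsSLC q M K₀`, `q ≥ 3` : `FltS` for all good subgroups (literal form of `RowsSL.K3`).
-/

set_option autoImplicit false
set_option linter.unusedSectionVars false

namespace Cfsg.Agent.KFacts.SysK3

open CoxeterSystem Cfsg.Agent.ChevalleyStructure.CoxeterGeom Cfsg.Agent.Tits.Roots Cfsg.Agent.Tits.Core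
  Cfsg.Agent.Nodes.Reps Cfsg.Agent.Nodes.BNOf Cfsg.Agent.Nodes.RGDLib Cfsg.Agent.KFacts.SLRow.Def
  Cfsg.Agent.KFacts.ChevTwo Cfsg.Agent.KFacts.SLRow.Row Cfsg.Agent.KFacts.SLRow.Diag
  Cfsg.Agent.KFacts.SysFree Cfsg.Agent.OddHalf.D4.Free

/-- **(k3) for the simply laced groups.** -/
theorem fltS_of_isSLC {G : Type*} [Group G] [Finite G] {K₀ : Subgroup G} {q l : ℕ} {M : CoxeterMatrix (Fin l)}
    (hq : 3 ≤ q) (hK : IsSLC q M ↥K₀) {S : Subgroup G} (hS : Good K₀ S) : ∃ U L, FltS K₀ S U L := by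
  obtain ⟨A, h, T, n, X, F, _, _, _, e, hW, rfl, hM, D, S'⟩ := hK
  have hne : Nonempty (Fin l) := Fintype.card_pos_iff.1 (by have := D.three; omega)
  have H : Hyp M.toCoxeterSystem h T X := hyp_of_SL (R := D.rgd) D.gen D.cent (fun J hJ hJc => by
    obtain ⟨a, ha, b, hb, hab⟩ := D.irr J hJ (by
      by_contra hcon
      rw [Set.not_nonempty_iff_eq_empty, Set.compl_empty_iff] at hcon
      exact hJc hcon)
    exact ⟨a, ha, b, hb, hab⟩) D.h4 D.h6
  exact SysFltG.exists_fltS H S' (fun _ _ hx hy => Nodes.SimplyLaced.cpr_symm _ h D.h4 D.h6 hx hy) hM hq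
    K₀.subtype_injective K₀.range_subtype hS

end Cfsg.Agent.KFacts.SysK3

end

-- merged: Cfsg.Agent.OddHalf.D4.RowsSLK
section

/-!
# ODD, D4: the rows `L_n(q)` (`n ≥ 4`), `Ω⁺_2m(q)`, `E_6(q)`, `q ≥ 4` even, closed (helper517; (k3) by helper11)
-/

set_option autoImplicit false
set_option linter.unusedSectionVars false

namespace Cfsg.Agent.OddHalf.D4.RowsSLK

open Cfsg Subgroup Cfsg.Agent.OddHalf.D4 Cfsg.Agent.OddHalf.D4.StartQ Cfsg.Agent.OddHalf.D4.RowsSL

universe u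

/-- **(k3)** -/
theorem k3 : K3.{u} := fun _ _ _ _ _ _ _ hq hK _ hS => KFacts.SysK3.fltS_of_isSLC hq hK hS

/-- **`L_n(q)`, `n ≥ 4`, `q ≥ 4` even.** -/
theorem lne (h1173 : Start.P1173.{u}) (hFT : FTT.{u}) : Cut.Row1.{u} (fun K _ => Cut.Lne K) :=
  lne_of h1173 hFT k3

/-- **`Ω⁺_2m(q)`, `m ≥ 4`, `q ≥ 4` even.** -/
theorem ope (h1173 : Start.P1173.{u}) (hFT : FTT.{u}) : Cut.Row1.{u} (fun K _ => Cut.Ope K) :=
  ope_of h1173 hFT k3

/-- **`E_6(q)`, `q ≥ 4` even.** -/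
theorem e6e (h1173 : Start.P1173.{u}) (hFT : FTT.{u}) : Cut.Row1.{u} (fun K _ => Cut.E6e K) :=
  e6e_of h1173 hFT k3

end Cfsg.Agent.OddHalf.D4.RowsSLK

end

-- merged: Cfsg.Agent.OddHalf.D4.U3.UniFalse
section

/-!
# ODD, D4, row `K = U₃(q)`: `Uni K σ n` is impossible, modulo the digon
-/

set_option autoImplicit false
set_option linter.dupNamespace false

namespace Cfsg.Agent.OddHalf.D4.U3.UniFalse

open Subgroup Cfsg.Agent.LieRecognition Cfsg.Agent.StdU3.URel Cfsg.Agent.OddHalf.D4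
  Cfsg.Agent.OddHalf.D4.Basic Cfsg.Agent.OddHalf.D4.U3.ParDefs
open Cfsg.Agent.OddHalf.D4.CommConj (cj)

universe u v

variable {G : Type u} [Group G] {F : Type v} [Field F] [Fintype F] [CharP F 2] {σ : F →+* F}
  [hσ : Fact (∀ x, σ (σ x) = x)] {n : ℕ} {K : Subgroup G}

/-- **`Uni K σ n` is impossible** (`hdig`: the digon lemma). -/
theorem uni_false [Finite G] [IsSimpleGroup G] (h1173 : EvenPair.H1173 G)
    (gold : Cfsg.Agent.StdSz.EndClosed.Gold.{u}) (X : Uni K σ n)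
    (hdig : ∀ (Y : Uni K σ n) (g : G), g ∉ normalizer (K : Set G) →
      Y.p.S ≤ centralizer ((cj g K : Subgroup G) : Set G) → cj g Y.p.S ≤ centralizer (K : Set G) → False) :
    False := by
  obtain ⟨L, Q, U, hF⟩ := X.exists_fullPair h1173
  obtain ⟨x, hx, -, -, hc⟩ := CommonTD.exists_x hF
  obtain ⟨X', t, ht⟩ := TEnd.exists_tout X hdig hF.sylQ hx hc
  have T := TInst.td_of X' hdig hF.sylQ hx hc
  rw [← ht] at T
  have h4 := Mk.four_le_Q X' hF.sylQ
  rw [← ht] at h4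
  obtain ⟨D⟩ := Mk.exists_dat_of t T h4
  exact Defs.Dat.false gold D

end Cfsg.Agent.OddHalf.D4.U3.UniFalse

end

-- merged: Cfsg.Agent.OddHalf.D4.U3.DigFacts
section

/-!
# ODD, D4, row `K = U₃(q)`: the digon

`facts`: the facts of `Digon.Facts` for a `Uni`; `digon_false`: no digon.
-/

set_option autoImplicit false
set_option linter.dupNamespace false

namespace Cfsg.Agent.OddHalf.D4.U3.DigFacts

open Subgroup Cfsg.Agent.LieRecognition Cfsg.Agent.LieRecognition.HermHeis Cfsg.Agent.StdU3.URel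
  Cfsg.Agent.StdU3.Field Cfsg.Agent.StdU3.Semi Cfsg.Agent.OddHalf.D4.Basic
  Cfsg.Agent.StrongEmb.Basic Cfsg.Agent.StrongEmb.TwoRank Cfsg.Agent.StrongEmb.Split Cfsg.Agent.StrongEmb.Consequences
open Cfsg.Agent.OddHalf.D4.CommConj (Tight cj mem_cj cj_mul card_cj cj_eq_of_mem_normalizer
  mem_normalizer_of_cj_eq mem_cj_mul)
open Cfsg.Agent.OddHalf.D4.U3.ParDefs Cfsg.Agent.OddHalf.D4.U3

universe u v

variable {G : Type u} [Group G] {F : Type v} [Field F] [Fintype F] [CharP F 2] {σ : F →+* F}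
  [hσ : Fact (∀ x, σ (σ x) = x)] {n : ℕ} {K : Subgroup G}

/-- the torus has odd order -/
theorem odd_T (p : Par K σ n) : Odd (Nat.card ↥p.d.range) := by
  have h1 : Nat.card ↥p.d.range ∣ Nat.card Fˣ := Subgroup.card_range_dvd p.d
  refine Odd.of_dvd_nat ?_ h1
  rw [Nat.card_units, p.hF, ← pow_mul]
  have h2 : 0 < n * 2 := by
    have := p.hS.hq.hn
    omega
  have h3 : Even (2 ^ (n * 2)) := (even_two).pow_of_ne_zero (by omega)
  have h4 : 0 < 2 ^ (n * 2) := by positivity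
  obtain ⟨m, hm⟩ := h3
  exact ⟨m - 1, by omega⟩

/-- two commuting involutions of `S` -/
theorem exists_pair [Finite G] (p : Par K σ n) :
    ∃ a ∈ p.S, ∃ b ∈ p.S, orderOf a = 2 ∧ orderOf b = 2 ∧ a ≠ b ∧ a * b = b * a := by
  have hn := p.hS.hq.hn
  have hc : 4 ≤ Nat.card ↥p.Z := by
    rw [p.card_Z]
    calc 4 = 2 ^ 2 := by norm_num
      _ ≤ 2 ^ n := Nat.pow_le_pow_right (by norm_num) hn
  obtain ⟨a, ha, ha1⟩ := p.exists_Z_ne
  have h2 : ∃ b ∈ p.Z, b ≠ 1 ∧ b ≠ a := by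
    by_contra hcon
    push Not at hcon
    have h3 : (p.Z : Set G) ⊆ {1, a} := by
      intro b hb
      by_cases hb1 : b = 1
      · left; exact hb1
      · right; exact hcon b hb hb1
    have h4 := Set.ncard_le_ncard h3 (Set.toFinite _)
    have h5 : (p.Z : Set G).ncard = Nat.card ↥p.Z := (Nat.card_coe_set_eq _).symm
    have h6 : ({1, a} : Set G).ncard ≤ 2 := Set.ncard_insert_le _ _ |>.trans (by rw [Set.ncard_singleton])
    omega
  obtain ⟨b, hb, hb1, hba⟩ := h2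
  have ord : ∀ z ∈ p.Z, z ≠ 1 → orderOf z = 2 := fun z hz hz1 =>
    orderOf_eq_prime (by rw [pow_two]; exact p.Z_sq hz) hz1
  exact ⟨a, p.Z_le_S ha, b, p.Z_le_S hb, ord a ha ha1, ord b hb hb1, fun h => hba h.symm,
    p.Z_comm ha (p.Z_le_S hb)⟩

/-- **The facts on `K`.** -/
theorem facts [Finite G] (X : Uni K σ n) : Digon.Facts K X.p.S X.p.d.range X.p.w where
  S_le := X.p.S_le
  T_le := by
    rintro _ ⟨l, rfl⟩
    exact X.p.d_mem l
  w_mem := X.p.w_mem
  two := X.p.S_two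
  odd := odd_T X.p
  TS := by
    rintro _ ⟨l, rfl⟩ _ ⟨x, rfl⟩
    rw [X.p.d_u]
    exact ⟨_, rfl⟩
  wT := by
    have hw1 : X.p.w⁻¹ = X.p.w := inv_eq_of_mul_eq_one_right X.p.w_w
    have h1 : ∀ l, X.p.w * X.p.d l * X.p.w⁻¹ = X.p.d (hat σ l) := by
      intro l
      rw [hw1, mul_assoc, X.p.d_conj_w, ← mul_assoc, X.p.w_w, one_mul]
    rw [mem_normalizer_iff]
    intro h
    constructor
    · rintro ⟨l, rfl⟩
      exact ⟨_, (h1 l).symm⟩
    · rintro ⟨l, hl⟩
      refine ⟨hat σ l, ?_⟩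
      rw [← h1 l, hl, hw1]
      calc X.p.w * (X.p.w * h * X.p.w) * X.p.w = (X.p.w * X.p.w) * h * (X.p.w * X.p.w) := by group
        _ = h := by rw [X.p.w_w, one_mul, mul_one]
  gen := by
    intro Y hS hT hw g hg
    have hB : ∀ b ∈ X.p.B, b ∈ Y := by
      intro b hb
      obtain ⟨y, l, rfl⟩ := X.p.mem_B.mp hb
      exact mul_mem (hS (X.p.u_mem y)) (hT ⟨l, rfl⟩)
    by_cases h : g ∈ X.p.B
    · exact hB g h
    · obtain ⟨x, y, l, rfl⟩ := X.p.bruhat hg h
      exact mul_mem (mul_mem (hS (X.p.u_mem x)) hw) (mul_mem (hS (X.p.u_mem y)) (hT ⟨l, rfl⟩))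
  simp := by
    intro N hN ⟨x, hx, hxK, hx1⟩
    rcases Fr.simple X.sim (N := N ⊓ K) inf_le_right (fun k hk x hx =>
      ⟨hN k hk x hx.1, K.mul_mem (K.mul_mem hk hx.2) (K.inv_mem hk)⟩) with h | h
    · exfalso
      apply hx1
      have : x ∈ N ⊓ K := ⟨hx, hxK⟩
      rw [h] at this
      exact mem_bot.mp this
    · exact inf_eq_right.mp h
  cen := X.cen
  pair := exists_pair X.p
  f1 := fun y hy h => X.p.inner_of_act hy (Par.Act.of_comm h)
  f2 := fun y hy h2 h => Torus.cent_torus X.p hy h2 fun l => h _ ⟨l, rfl⟩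

/-- **No digon.** -/
theorem digon_false [Finite G] (hBen : ∀ (Y : Type u) [Group Y] [Finite Y], BenderHolds Y) (X : Uni K σ n) (g : G)
    (hg : g ∉ normalizer (K : Set G)) (h1 : X.p.S ≤ centralizer ((cj g K : Subgroup G) : Set G))
    (h2 : cj g X.p.S ≤ centralizer (K : Set G)) : False :=
  Digon.false_of hBen (facts X) X.tight X.std X.core hg h1 h2

end Cfsg.Agent.OddHalf.D4.U3.DigFacts

end

-- merged: Cfsg.Agent.OddHalf.D4.U3.StartUni
section

/-!
# ODD, D4, row `K = U₃(q)`: `Uni` from the hypotheses of the row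
-/

set_option autoImplicit false
set_option linter.dupNamespace false
set_option linter.unusedSectionVars false

namespace Cfsg.Agent.OddHalf.D4.U3.StartUni

open Subgroup Cfsg.Agent.LieRecognition Cfsg.Agent.LieRecognition.HermHeis Cfsg.Agent.StdU3.URel
  Cfsg.Agent.StdU3.Field Cfsg.Agent.StdU3.Semi Cfsg.Agent.OddHalf.D4 Cfsg.Agent.OddHalf.D4.Basic
  Cfsg.Agent.OddHalf.D4.U3.ParDefs
open Cfsg.Agent.OddHalf.D4.CommConj (Tight cj mem_cj cj_mul card_cj cj_eq_of_mem_normalizer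
  mem_normalizer_of_cj_eq mem_cj_mul)

universe u v

/-! ### `Uni` -/

open Cfsg Cfsg.Agent.OddHalf.Iface

/-- `O(C(K)) = 1` -/
theorem core_eq_bot {G : Type u} [Group G] [Finite G] {K : Subgroup G} (ht : TightAt K)
    (hbal : ∀ t : G, orderOf t = 2 → centralizerPPrimeCore 2 t = ⊥) {a b : G}
    (ha : a ∈ centralizer (K : Set G)) (hb : b ∈ centralizer (K : Set G)) (ha2 : orderOf a = 2)
    (hb2 : orderOf b = 2) (hab : a * b = b * a) (hne : a ≠ b) (N : Subgroup G)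
    (hN : N ≤ centralizer (K : Set G)) (hn : ∀ x ∈ centralizer (K : Set G), ∀ o ∈ N, x * o * x⁻¹ ∈ N)
    (hodd : Odd (Nat.card N)) : N = ⊥ := by
  set C := centralizer (K : Set G) with hC
  let O : Subgroup G := (pPrimeCore 2 ↥C).map C.subtype
  have hOodd : Odd (Nat.card ↥O) := by
    have h1 : Nat.card ↥O = Nat.card ↥(pPrimeCore 2 ↥C) :=
      (Nat.card_congr ((pPrimeCore 2 ↥C).equivMapOfInjective _ C.subtype_injective).toEquiv).symm
    rw [h1]
    exact Nat.coprime_two_right.mp (Cfsg.Agent.Lib.Cores.pPrimeCore_coprime 2)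
  have hOM : ∀ m ∈ normalizer (K : Set G), ∀ o ∈ O, m * o * m⁻¹ ∈ O := by
    intro m hm o ho
    have hnorm : ∀ m ∈ normalizer (K : Set G), ∀ c ∈ C, m * c * m⁻¹ ∈ C := ht.norm
    let e : ↥C ≃* ↥C :=
      { toFun := fun c => ⟨m * c * m⁻¹, hnorm m hm c c.2⟩
        invFun := fun c => ⟨m⁻¹ * c * m, by
          have := hnorm m⁻¹ (inv_mem hm) c c.2
          rwa [inv_inv] at this⟩
        left_inv := fun c => Subtype.ext (by show m⁻¹ * (m * (c : G) * m⁻¹) * m = c; group)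
        right_inv := fun c => Subtype.ext (by show m * (m⁻¹ * (c : G) * m) * m⁻¹ = c; group)
        map_mul' := fun c d => Subtype.ext (by
          show m * ((c : G) * d) * m⁻¹ = m * c * m⁻¹ * (m * d * m⁻¹)
          group) }
    obtain ⟨c, hc, rfl⟩ := ho
    have h1 : e c ∈ pPrimeCore 2 ↥C := by
      rw [← Cfsg.Agent.Lib.Cores.map_equiv_pPrimeCore e 2]
      exact ⟨c, hc, rfl⟩
    exact ⟨e c, h1, rfl⟩
  have hO : O = ⊥ := EvenPair.eq_bot_of_odd ht hbal hOM hOodd ha ha2 hb hb2 hab hne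
  have hNn : (N.subgroupOf C).Normal := by
    refine ⟨?_⟩
    intro n hn' g
    rw [mem_subgroupOf] at hn' ⊢
    exact hn g g.2 n hn'
  have hcard : Nat.card ↥(N.subgroupOf C) = Nat.card ↥N := Nat.card_congr (subgroupOfEquivOfLe hN).toEquiv
  have h1 := Cfsg.Agent.Lib.Cores.le_pPrimeCore (p := 2) hNn (by
    rw [hcard]; exact Nat.coprime_two_right.mpr hodd)
  rw [eq_bot_iff_forall]
  intro x hx
  have h2 : x ∈ O := ⟨⟨x, hN hx⟩, h1 (mem_subgroupOf.mpr hx), rfl⟩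
  rw [hO, mem_bot] at h2
  exact h2

/-- **the data of the concrete half** from the hypotheses of the row -/
theorem exists_uni {G : Type u} [Group G] (C : Ctx G) {K : Subgroup G} (S : Std0 G K)
    (hrk : ¬ PRankLE 2 1 ↥(centralizer (K : Set G))) (hz : center ↥K = ⊥) (hU : ∃ (F : Type) (_ : Field F) (_ : Fintype F) (a : ℕ), 2 ≤ a ∧
      Fintype.card F = 4 ^ a ∧ Nonempty (↥K ≃* PSU 3 F (2 ^ a))) :
    ∃ (F : Type) (_ : Field F) (_ : Fintype F) (_ : CharP F 2) (σ : F →+* F)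
      (_ : Fact (∀ x, σ (σ x) = x)) (n : ℕ), Nonempty (Uni K σ n) := by
  have := C.fin
  have hG := C.simple
  obtain ⟨F, _, _, n, hn, hc, ⟨e⟩⟩ := hU
  have hf2 : Fact (Nat.Prime 2) := ⟨Nat.prime_two⟩
  have hcard : Fintype.card F = 2 ^ (2 * n) := by rw [hc, pow_mul]; norm_num
  have hchar : CharP F 2 := charP_of_card_eq_prime_pow hcard
  have hcard' : Fintype.card F = (2 ^ n) ^ 2 := by rw [hcard, ← pow_mul, mul_comm]
  let σ : F →+* F := iterateFrobenius F 2 n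
  have hσ : ∀ x, σ x = x ^ 2 ^ n := fun x => iterateFrobenius_def 2 n x
  have hσσ : Fact (∀ x, σ (σ x) = x) := ⟨by
    intro x
    rw [hσ, hσ, ← pow_mul, ← sq, ← hcard', FiniteField.pow_card]⟩
  have hS : Sg σ n := ⟨⟨hn, hcard'⟩, fun x => by rw [hσ]; rfl⟩
  obtain ⟨R0⟩ := Cfsg.Agent.StdU3.URelModel.nonempty_urel (σ := σ) (n := n) (by omega) hσ
    (by rw [Nat.card_eq_fintype_card, hcard'])
  refine ⟨F, inferInstance, inferInstance, hchar, σ, hσσ, n, ⟨?_⟩⟩
  -- `K` is simple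
  let e' : ↥K ≃* ↥K ⧸ center ↥K :=
    (QuotientGroup.quotientBot (G := ↥K)).symm.trans (QuotientGroup.quotientMulEquivOfEq hz.symm)
  have hs : IsSimpleGroup ↥K := by
    have := S.simple
    exact e'.isSimpleGroup
  have ht : TightAt K := EvenPair.tight_of_standard S.std
  have hcen : ∀ x ∈ K, x ∈ centralizer (K : Set G) → x = 1 := by
    intro x hx hxc
    have h1 : (⟨x, hx⟩ : ↥K) ∈ center ↥K := by
      rw [Subgroup.mem_center_iff]
      intro y
      exact Subtype.ext (mem_centralizer_iff.mp hxc y y.2)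
    rw [hz, mem_bot] at h1
    exact congrArg Subtype.val h1
  have hKne : K ≠ ⊥ := by
    intro h
    have h1 := hs.toNontrivial
    rw [nontrivial_iff_ne_bot] at h1
    exact h1 h
  have h2 := EvenPair.exists_two_of_not_pRankLE hrk
  have hstd : ∀ g : G, ¬ cj g K ≤ centralizer (K : Set G) := by
    intro g hg
    by_cases h : cj g K = K
    · apply hKne
      rw [eq_bot_iff]
      intro x hx
      rw [mem_bot]
      apply hcen x hx
      rw [← h] at hx
      exact hg hx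
    · apply S.std.2.2.1 g h
      rw [commutator_comm, commutator_eq_bot_iff_le_centralizer]
      exact hg
  exact
    { p := ⟨hS, R0.map e.symm⟩
      sim := hs
      tight := ht
      std := hstd
      cen := hcen
      core := by
        obtain ⟨a, b, ha, hb, ha2, hb2, hab, hne⟩ := h2
        exact fun N hN hn hodd => core_eq_bot ht C.bal ha hb ha2 hb2 hab hne N hN hn hodd
      four := by
        obtain ⟨a, b, ha, hb, ha2, hb2, hab, hne⟩ := h2
        exact ⟨a, ha, b, hb, ha2, hb2, hne, hab⟩ }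

end Cfsg.Agent.OddHalf.D4.U3.StartUni

end

-- merged: Cfsg.Agent.OddHalf.D4.U3.Row
section

/-!
# ODD, D4, the row `K ≅ U₃(2^a)`, `a ≥ 2`, `m₂(C(K)) ≥ 2`

`row` : `Cut.Row1 Cut.U3e` from S1173, S1169 and Bender's theorem.
-/

set_option autoImplicit false
set_option linter.dupNamespace false

namespace Cfsg.Agent.OddHalf.D4.U3.Row

open Subgroup Cfsg Cfsg.Agent.OddHalf.D4 Cfsg.Agent.OddHalf.D4.U3.ParDefs

universe u

/-- **the row `U₃(2^a)`, `a ≥ 2`** -/
theorem row (h1173 : Start.P1173.{u}) (gold : Cfsg.Agent.StdSz.EndClosed.Gold.{u})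
    (hBen : ∀ (Y : Type u) [Group Y] [Finite Y], Cfsg.Agent.StrongEmb.Split.BenderHolds Y) :
    Cut.Row1.{u} (fun K _ => Cut.U3e K) := by
  intro G _ hG K hK hrk hz hP
  have := hG.fin
  have := hG.simple
  obtain ⟨x, y, hx, hy, hx2, hy2, hxy, hne⟩ := EvenPair.exists_two_of_not_pRankLE hrk
  obtain ⟨F, _, _, _, σ, _, n, ⟨X⟩⟩ := StartUni.exists_uni hG hK.toStd0 hrk hz hP
  exact UniFalse.uni_false (h1173 G (Start.oddCore_eq_bot hx2)) gold X
    (fun Y g hg h1 h2 => DigFacts.digon_false hBen Y g hg h1 h2)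

end Cfsg.Agent.OddHalf.D4.U3.Row

end

-- merged: Cfsg.Agent.OddHalf.D4.Final.Sp
section

/-!
# ODD half, D4: the row `Sp_2n(q)`, `n ≥ 3`, `q ≥ 4` even (helper228; all facts: helper550, 119)
-/

set_option autoImplicit false

namespace Cfsg.Agent.OddHalf.D4.Final.Sp

open Subgroup Cfsg Cfsg.Agent.OddHalf.D4 Cfsg.Agent.OddHalf.D4.StartQ Cfsg.Agent.OddHalf.D4.Cut
open Cfsg.Agent.OddHalf.SpN (Sy)

universe u

theorem charP_two {F : Type} [Field F] [Fintype F] {a : ℕ} (hF : Fintype.card F = 2 ^ a) : CharP F 2 := by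
  have h1 : ((Fintype.card F : ℕ) : F) = 0 := FiniteField.cast_card_eq_zero F
  rw [hF] at h1
  push_cast at h1
  exact CharTwo.of_one_ne_zero_of_two_eq_zero one_ne_zero (eq_zero_of_pow_eq_zero h1)

theorem four_le {F : Type} [Field F] [Fintype F] {a : ℕ} (ha : 2 ≤ a) (hF : Fintype.card F = 2 ^ a) :
    4 ≤ Nat.card F := by
  rw [Nat.card_eq_fintype_card, hF]
  calc 4 = 2 ^ 2 := by norm_num
    _ ≤ 2 ^ a := Nat.pow_le_pow_right (by norm_num) ha

/-- **`Sp_2n(q)`, `n ≥ 3`, `q ≥ 4` even** -/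
theorem spe (h1173 : Start.P1173.{u}) (hFT : FTT.{u}) : Cut.Row1.{u} (fun K _ => Spe K) := by
  refine row_of_free' h1173 hFT ?_ ?_ ?_
  · rintro X _ _ _ ⟨F, _, _, a, m, ha, hF, hm, ⟨e⟩⟩
    have := charP_two hF
    obtain ⟨i⟩ := Cfsg.Agent.OddHalf.SpN.Inst.equiv (n := m) (F := F) (by omega)
    exact DblR.OneRow.innSyl_congr (e.trans i).symm (Cfsg.Agent.OddHalf.D4.SpN.Inst.innSyl hm)
  · rintro G _ hG K hK hD ⟨F, _, _, a, m, ha, hF, hm, ⟨e⟩⟩
    have := hG.fin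
    have := charP_two hF
    obtain ⟨i⟩ := Cfsg.Agent.OddHalf.SpN.Inst.equiv (n := m) (F := F) (by omega)
    obtain ⟨f, hf, hr⟩ : ∃ f : Sy m F →* G, Function.Injective f ∧ f.range = K := by
      refine ⟨K.subtype.comp (e.trans i).symm.toMonoidHom, ?_, ?_⟩
      · exact K.subtype_injective.comp (e.trans i).symm.injective
      · rw [MonoidHom.range_comp]
        have h1 : (e.trans i).symm.toMonoidHom.range = ⊤ :=
          MonoidHom.range_eq_top.2 (e.trans i).symm.surjective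
        rw [h1, ← MonoidHom.range_eq_map, K.range_subtype]
    subst hr
    exact Cfsg.Agent.OddHalf.D4.SpN.Inst.inp hm (four_le ha hF) hf hD.tight hD.even hD.std hD.rk
  · rintro G _ hG K hK hD ⟨F, _, _, a, m, ha, hF, hm, ⟨e⟩⟩ g
    have := hG.fin
    have := charP_two hF
    have h4 := four_le ha hF
    exact Cfsg.Agent.KFacts.SysBFSp.bFacts_cj_PSp hm F (by omega) e g

end Cfsg.Agent.OddHalf.D4.Final.Sp

end

-- merged: Cfsg.Agent.OddHalf.D4.Final.Two
section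

/-!
# ODD half, D4: the rows of Lie type in characteristic 2 with `Z(K) = 1` (helper228, integrator)
-/

set_option autoImplicit false

namespace Cfsg.Agent.OddHalf.D4.Final.Two

open Subgroup Cfsg Cfsg.Agent.OddHalf.Iface Cfsg.Agent.OddHalf.D7.Cases Cfsg.Agent.OddHalf.D4 Cfsg.Agent.OddHalf.D4.Spor Cfsg.Agent.OddHalf.D4.Cut

universe u

/-- **`³D₄(2)`** -/
theorem d4t2 (h1173 : Start.P1173.{u}) (hFT : FTT.{u}) : Cut.Row1.{u} (fun K _ => D4t2 K) :=
  row_of_sheet h1173 hFT Final.pse (by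
    rintro X _ _ _ ⟨L, _, _, hL, ⟨e⟩⟩
    exact ThreeD4Two.sheet hL e)

/-- **`Sz(q)`, `q ≥ 32`** -/
theorem sze (g : Given.{u}) : Cut.Row1.{u} (fun K _ => Sze K) :=
  Sz.Row.sze g.h1173 g.h1170 g.h3p (fun _ _ _ _ M hG hcl => M.false hG hcl)

/-- **`²E₆(q)`, `q ≥ 4`** -/
theorem e6te (g : Given.{u}) : Cut.Row1.{u} (fun K _ => E6te K) :=
  DblR.OneRow.row_e6te g.h1173 g.hFT (by
    rintro F _ _ a ha hF G _ _ K ⟨e⟩
    exact LinESix.bfacts ha hF e)

/-- **`Ω⁻_2m(q)`, `q ≥ 4`** -/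
theorem ome (g : Given.{u}) : Cut.Row1.{u} (fun K _ => Ome K) :=
  DblR.OneRow.row_ome g.h1173 g.hFT (by
    rintro F _ _ a m b c ha hF hm hbc G _ _ K ⟨e⟩
    have h2 : (2 : F) = 0 := by
      have h1 : ((Fintype.card F : ℕ) : F) = 0 := FiniteField.cast_card_eq_zero F
      rw [hF] at h1
      push_cast at h1
      exact eq_zero_of_pow_eq_zero h1
    have hs : ∃ s : F, s ≠ 0 ∧ s ≠ 1 := by
      classical
      have h1 : 2 < Fintype.card F := by
        rw [hF]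
        calc 2 < 2 ^ 2 := by norm_num
          _ ≤ 2 ^ a := Nat.pow_le_pow_right (by norm_num) ha
      obtain ⟨s, hs⟩ := Finset.exists_mem_notMem_of_card_lt_card (s := ({0, 1} : Finset F)) (t := Finset.univ)
        (lt_of_le_of_lt Finset.card_le_two (by rw [Finset.card_univ]; exact h1))
      refine ⟨s, fun h0 => hs.2 (by rw [h0]; simp), fun h0 => hs.2 (by rw [h0]; simp)⟩
    rw [← Cfsg.Agent.LieClassical.OrthForms.coe_minusForm] at e
    exact MinusB.bfacts_minus h2 hs hm b c hbc e)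

/-- the row `Sp_2n(q)`, `n ≥ 3`, `q ≥ 4` (a theorem: `opn`) -/
structure Open : Prop where
  spe : Row1.{u} (fun K _ => Spe K)

/-- there is no open row -/
theorem opn (g : Given.{u}) : Open.{u} := ⟨Sp.spe g.h1173 g.hFT⟩

/-- **The rows of Lie type in characteristic 2.** -/
theorem rowsTwo (g : Given.{u}) (o : Open.{u}) : Cut.RowsTwo.{u} where
  l2e := Rk2.row g.h1173 g.gold
  u3e := U3.Row.row g.h1173 g.gold g.hBen
  sze := sze g
  l3e := L3.row g.h1173
  sp4e := SpFourRow.row g.h1173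
  g2e := DblR.HexG.g2e g.h1173 g.hFT
  u4e := DblR.UnRowFin.u4e g.h1173 g.hFT
  u5e := DblR.UnRowFin.u5e g.h1173 g.hFT
  u52 := Un2.u52 g.h1173 g.hFT Final.pse
  d4t2 := d4t2 g.h1173 g.hFT
  d4te := DblR.HexG.d4te g.h1173 g.hFT
  ln2 := SLTwo.row g.h1173
  lne := RowsSLK.lne g.h1173 g.hFT
  un2 := Un2.un2 g.h1173 g.hFT Final.pse
  une := DblR.UnRowFin.une g.h1173 g.hFT
  sp2 := Sp2.Row.sp2 g.h1173
  spe := o.spe
  op2 := O2.row_op2 g.h1173
  ope := RowsSLK.ope g.h1173 g.hFT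
  om2 := O2.row_om2 g.h1173
  ome := ome g
  f4e := Cfsg.Agent.OddHalf.D4F4.f4e g.h1173 g.hFT
  f4t := TwF.Row.row g.h1173
  e62 := En2.Row.row_e62 g.h1173
  e6e := RowsSLK.e6e g.h1173 g.hFT
  e72 := En2.Row.row_e72 g.h1173
  e7e := RowsSL.e7e g.h1173 g.hFT
  e82 := En2.Row.row_e82 g.h1173
  e8e := RowsSL.e8e g.h1173 g.hFT
  e6t2 := TwE.Row.e6t2 g.h1173 g.hFT Final.pse
  e6te := e6te g
  tits := Spor.Tits.row g.h1173 g.hFT Final.pse

end Cfsg.Agent.OddHalf.D4.Final.Two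

end

-- merged: Cfsg.Agent.OddHalf.D4.Final.Main
section

/-!
# ODD half, D4: the assembly (helper228, integrator)

`Given`: the listed statements used (all of them are proved: `Final.given`). The only input is `Odd.Open` (node NI).
-/

set_option autoImplicit false

namespace Cfsg.Agent.OddHalf.D4.Final

open Subgroup Cfsg Cfsg.Agent.OddHalf.D4 Cfsg.Agent.OddHalf.D4.Cut

universe u

/-- the inputs (`Spor.opn`, `Two.opn`, `Mult.opn` are theorems) -/
structure Missing : Prop where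
  spor : Spor.Open.{u}
  two : Two.Open.{u}
  odd : Odd.Open.{u}
  mult : Mult.Open.{u}

theorem rows (g : Given.{u}) (o : Missing.{u}) : Cut.Rows.{u} where
  two := Two.rowsTwo g o.two
  odd := Odd.rowsOdd g.h1173 o.odd
  spor := Spor.rowsSpor g o.spor
  cov := Cov.rowsCov g.hFT g.hTI

/-- **Node D4.** -/
theorem d4 (g : Given.{u}) (o : Missing.{u}) : Iface.D4.{u} :=
  d4_of_rows (Mult.mult o.mult) (Mult.multD4 o.mult) (rows g o)

/-- **Node D4** from node NI. -/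
theorem d4_of_odd (g : Given.{u}) (o : Odd.Open.{u}) : Iface.D4.{u} :=
  d4 g { spor := Spor.opn, two := Two.opn g, odd := o, mult := Mult.opn }

end Cfsg.Agent.OddHalf.D4.Final

end
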